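/-
Packed data and boolean checks for certified coset enumeration with involutory generators.
A fact `(x, a, b)` says that the generator `x` maps coset `a` to coset `b`; the letter `k` is the identity.
-/
import Mathlib.Data.List.Basic
import Mathlib.Data.Nat.Notation

set_option autoImplicit false

namespace CfsgLib.CosetEnum

/-- A binary tree of naturals, indexed by binary digits from the lowest one. -/
inductive Tree where
  | leaf (v : ℕ)
  | node (a b : Tree)

/-- The value at index `i`. -/
noncomputable def Tree.get (t : Tree) : ℕ → ℕ :=
  Tree.rec (fun v _ => v) (fun _ _ ga gb i => Bool.rec (gb (Nat.div i (nat_lit 2))) (ga (Nat.div i (nat_lit 2)))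
    (Nat.beq (Nat.mod i (nat_lit 2)) (nat_lit 0))) t

/-- `force i k = k i`; the kernel evaluates `i` to a numeral before passing it on. -/
noncomputable def force {α : Type} (i : ℕ) (k : ℕ → α) : α :=
  Nat.rec (k (nat_lit 0)) (fun j _ => k (Nat.succ j)) i

/-- The field of width `w` at offset `o`. -/
noncomputable def fld (x o w : ℕ) : ℕ := Nat.mod (Nat.shiftRight x o) (Nat.pow (nat_lit 2) w)

/-- The entry `j` of width `w` in a tree with `per` entries in each leaf. -/
noncomputable def entry (t : Tree) (per w j : ℕ) : ℕ :=
  fld (t.get (Nat.div j per)) (Nat.mul w (Nat.mod j per)) w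

/-- The length of a packed word. -/
noncomputable def wlen (u : ℕ) : ℕ := fld u (nat_lit 0) (nat_lit 12)

/-- A letter of a packed word. -/
noncomputable def letter (u p : ℕ) : ℕ := fld u (Nat.add (nat_lit 12) (Nat.mul (nat_lit 4) p)) (nat_lit 4)

/-- The letters of a packed word from position `p` to position `q`. -/
noncomputable def seg (u p q : ℕ) : List ℕ := (List.range' p (q - p)).map (letter u)

/-- The letters of a packed word. -/
noncomputable def wordOf (u : ℕ) : List ℕ := seg u 0 (wlen u)

/-- The data of a certificate. -/
structure Data where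
  /-- the number of generators -/
  k : ℕ
  /-- facts, 44 bits each -/
  facts : Tree
  /-- the definition of a coset, 24 bits each -/
  par : Tree
  /-- packed words, one in each leaf -/
  words : Tree
  /-- the number of words fixing the base coset -/
  nh : ℕ
  /-- the number of words -/
  nw : ℕ

namespace Data

variable (D : Data)

/-- The packed fact `j`. -/
noncomputable def fact (j : ℕ) : ℕ := entry D.facts (nat_lit 32) (nat_lit 44) j

/-- The label of a packed fact. -/
noncomputable def lab (f : ℕ) : ℕ := fld f (nat_lit 0) (nat_lit 4)

/-- The first end of a packed fact. -/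
noncomputable def src (f : ℕ) : ℕ := fld f (nat_lit 4) (nat_lit 20)

/-- The second end of a packed fact. -/
noncomputable def tgt (f : ℕ) : ℕ := fld f (nat_lit 24) (nat_lit 20)

/-- The defining letter and parent of a coset. -/
noncomputable def parent (b : ℕ) : ℕ := entry D.par (nat_lit 64) (nat_lit 24) b

/-- One step of a walk along the fact `f`. -/
noncomputable def step (u f c p : ℕ) (cont : ℕ → ℕ → Bool) : Bool :=
  force (lab f) fun l => force (src f) fun a => force (tgt f) fun b =>
    Bool.rec
      (Bool.rec false (Bool.rec false (cont a (Bool.rec (Nat.succ p) p (Nat.beq l D.k))) (Nat.beq c b))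
        (Bool.rec (Nat.blt p (wlen u) && Nat.beq (letter u p) l) true (Nat.beq l D.k)))
      (Bool.rec false (cont b (Bool.rec (Nat.succ p) p (Nat.beq l D.k)))
        (Bool.rec (Nat.blt p (wlen u) && Nat.beq (letter u p) l) true (Nat.beq l D.k)))
      (Nat.beq c a)

/-- A walk along `m` facts with indices below `j`, read from `refs`, reading the packed word `u`. -/
noncomputable def walk (j u : ℕ) (m : ℕ) : ℕ → ℕ → ℕ → (ℕ → ℕ → ℕ → Bool) → Bool :=
  Nat.rec (fun c p refs cont => cont c p refs)
    (fun _ ih c p refs cont => force (fld refs (nat_lit 0) (nat_lit 20)) fun i =>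
      Nat.blt i j && force (D.fact i) fun f => D.step u f c p fun c' p' =>
        force p' fun p'' => force c' fun c'' => force (Nat.shiftRight refs (nat_lit 20)) fun refs' =>
          ih c'' p'' refs' cont) m

/-- The fact `j` follows from earlier facts by the justification `r`. -/
noncomputable def okJust (j r : ℕ) : Bool :=
  force (D.fact j) fun f => force (lab f) fun x => force (src f) fun a => force (tgt f) fun b =>
  force (fld r (nat_lit 0) (nat_lit 12)) fun w =>
    Bool.rec
      (Nat.blt w D.nw && Nat.ble x D.k && force (D.words.get w) fun u =>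
        force (fld r (nat_lit 12) (nat_lit 12)) fun i => force (fld r (nat_lit 24) (nat_lit 20)) fun st =>
          (Bool.rec true (Nat.beq st (nat_lit 0)) (Nat.blt w D.nh)) &&
          D.walk j u (fld r (nat_lit 44) (nat_lit 12)) st (nat_lit 0) (Nat.shiftRight r (nat_lit 68)) fun c p refs =>
            Nat.beq c a && Nat.beq p i &&
              (Bool.rec (Nat.blt i (wlen u) && Nat.beq (letter u i) x) true (Nat.beq x D.k)) &&
              force (Bool.rec (Nat.succ i) i (Nat.beq x D.k)) fun i' =>
                D.walk j u (fld r (nat_lit 56) (nat_lit 12)) b i' refs fun c' p' _ =>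
                  Nat.beq c' st && Nat.beq p' (wlen u))
      (Nat.blt a b && Nat.blt x D.k && Nat.beq (D.parent b) (Nat.add (Nat.mul a (nat_lit 16)) x))
      (Nat.beq w (nat_lit 4095))

/-- A chunk of justifications starting at the fact `lo`. -/
noncomputable def okChunk (lo : ℕ) (L : List ℕ) : Bool :=
  List.rec (motive := fun _ => ℕ → Bool) (fun _ => true)
    (fun r _ ih j => D.okJust j r && force (Nat.succ j) ih) L lo

end Data

/-- The final table of a certificate. -/
structure Table where
  /-- the number of cosets -/
  n : ℕ
  /-- representatives, 20 bits each -/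
  rep : Tree
  /-- the rows, `k` entries of 20 bits in each row, 8 rows in each leaf -/
  tab : Tree
  /-- parent and letter in the final table, 24 bits each -/
  tpar : Tree

namespace Table

variable (T : Table)

/-- The representative of a coset. -/
noncomputable def repr (d : ℕ) : ℕ := entry T.rep (nat_lit 64) (nat_lit 20) d

/-- An entry of the table. -/
noncomputable def act (k d x : ℕ) : ℕ :=
  force d fun d' => fld (entry T.tab (nat_lit 8) (Nat.mul k (nat_lit 20)) d') (Nat.mul x (nat_lit 20)) (nat_lit 20)

/-- The parent of a coset in the final table. -/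
noncomputable def up (d : ℕ) : ℕ := entry T.tpar (nat_lit 64) (nat_lit 24) d

end Table

/-- One row is completed by the given paths. -/
noncomputable def okRow (D : Data) (T : Table) (nf d : ℕ) (L : List ℕ) : Bool :=
  force (T.repr d) fun c0 =>
  List.rec (motive := fun _ => ℕ → Bool) (fun x => Nat.beq x D.k)
    (fun r _ ih x => force (T.act D.k d x) (fun d' => Nat.blt d' T.n && force (T.repr d') fun c1 =>
      D.walk nf (Nat.add (nat_lit 1) (Nat.mul x (nat_lit 4096))) (fld r (nat_lit 0) (nat_lit 12)) c0 (nat_lit 0)
        (Nat.shiftRight r (nat_lit 12)) fun c p _ => Nat.beq c c1 && Nat.beq p (nat_lit 1)) &&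
      force (Nat.succ x) ih) L (nat_lit 0)

/-- A chunk of rows. -/
noncomputable def okRows (D : Data) (T : Table) (nf lo : ℕ) (L : List (List ℕ)) : Bool :=
  List.rec (motive := fun _ => ℕ → Bool) (fun _ => true)
    (fun r _ ih d => okRow D T nf d r && force (Nat.succ d) ih) L lo

/-- `allN m f`: `f i` holds for all `i < m`. -/
noncomputable def allN (m : ℕ) (f : ℕ → Bool) : Bool :=
  Nat.rec true (fun i acc => f i && acc) m

/-- The image of a point under a word. -/
noncomputable def runT (T : Table) (k : ℕ) (w : List ℕ) : ℕ → ℕ :=
  List.rec (motive := fun _ => ℕ → ℕ) (fun d => d) (fun x _ ih d => force (T.act k d x) ih) w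

/-- The checks of the table at one point. -/
noncomputable def okPoint (T : Table) (k : ℕ) (rels : List (List ℕ)) (d : ℕ) : Bool :=
  allN k (fun x' => force x' fun x => force (T.act k d x) fun d' => Nat.blt d' T.n && Nat.beq (T.act k d' x) d) &&
  List.rec (motive := fun _ => Bool) true (fun w _ acc => Nat.beq (runT T k w d) d && acc) rels &&
  (Bool.rec (force (T.up d) fun e => force (Nat.div e (nat_lit 16)) fun a => force (Nat.mod e (nat_lit 16)) fun x =>
      Nat.blt a d && Nat.blt x k && Nat.beq (T.act k a x) d) true (Nat.beq d (nat_lit 0)))

/-- The checks of the table at the points `lo, …, lo + m - 1`. -/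
noncomputable def okPoints (T : Table) (k : ℕ) (rels : List (List ℕ)) (lo m : ℕ) : Bool :=
  allN m fun i => force (Nat.add lo i) fun d => okPoint T k rels d

end CfsgLib.CosetEnum
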