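/-
Soundness of certified coset enumeration.
-/
import Cfsg.Agent.Lib.CosetEnum.Basic
import Mathlib.Data.Fintype.Card
import Mathlib.Tactic.ByContra
import Mathlib.Data.List.Range
import Mathlib.Algebra.Group.Subgroup.Lattice
import Mathlib.GroupTheory.Perm.Basic

set_option autoImplicit false

namespace CfsgLib.CosetEnum

theorem force_eq {α : Type} (i : ℕ) (k : ℕ → α) : force i k = k i := by
  cases i <;> rfl

theorem blt_iff {a b : ℕ} : Nat.blt a b = true ↔ a < b := Iff.of_eq Nat.blt_eq

/-- The image of a point under a list of letters. -/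
def run {Ω : Type*} (s : ℕ → Ω → Ω) (w : List ℕ) (v : Ω) : Ω := w.foldl (fun v x => s x v) v

theorem run_append {Ω : Type*} (s : ℕ → Ω → Ω) (w w' : List ℕ) (v : Ω) :
    run s (w ++ w') v = run s w' (run s w v) := List.foldl_append

theorem run_cancel {Ω : Type*} {s : ℕ → Ω → Ω} (h : ∀ x v, s x (s x v) = v) :
    ∀ (w : List ℕ) (v : Ω), run s w.reverse (run s w v) = v := by
  intro w
  induction w with
  | nil => intro v; rfl
  | cons x w ih =>
    intro v
    rw [List.reverse_cons, run_append, show run s (x :: w) v = run s w (s x v) from rfl, ih]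
    exact h x v

theorem run_injective {Ω : Type*} {s : ℕ → Ω → Ω} (h : ∀ x v, s x (s x v) = v) (w : List ℕ) :
    Function.Injective (run s w) := fun a b e => by
  rw [← run_cancel h w a, e, run_cancel h w b]

theorem seg_self (u p : ℕ) : seg u p p = [] := by
  rw [seg, Nat.sub_self]; rfl

theorem seg_trans (u : ℕ) {p q r : ℕ} (h₁ : p ≤ q) (h₂ : q ≤ r) : seg u p r = seg u p q ++ seg u q r := by
  rw [seg, seg, seg, ← List.map_append]
  congr 1
  rw [show r - p = (q - p) + (r - q) by omega, List.range'_eq_append_iff]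
  refine ⟨q - p, by omega, rfl, ?_⟩
  congr 1 <;> omega

theorem seg_succ (u p : ℕ) : seg u p (p + 1) = [letter u p] := by
  rw [seg, Nat.add_sub_cancel_left]; rfl

namespace Data

variable (D : Data) {Ω : Type*} (base : Ω) (s : ℕ → Ω → Ω)

/-- The point of a coset given by the definitions. -/
noncomputable def val (b : ℕ) : Ω :=
  if b = 0 then base
  else if h : D.parent b / 16 < b then s (D.parent b % 16) (val (D.parent b / 16)) else base
termination_by b

/-- A fact holds. -/
def Holds (j : ℕ) : Prop :=
  s (lab (D.fact j)) (D.val base s (src (D.fact j))) = D.val base s (tgt (D.fact j))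

variable {D base s}
variable (hinv : ∀ x v, s x (s x v) = v) (hk : ∀ v, s D.k v = v)

include hinv in
theorem step_sound {u f c p : ℕ} {cont : ℕ → ℕ → Bool}
    (hf : s (lab f) (D.val base s (src f)) = D.val base s (tgt f)) (h : D.step u f c p cont = true)
    (hk : ∀ v, s D.k v = v) :
    ∃ c' p', cont c' p' = true ∧ p ≤ p' ∧
      run s (seg u p p') (D.val base s c) = D.val base s c' := by
  simp only [step, force_eq] at h
  have key : ∀ c', s (lab f) (D.val base s c) = D.val base s c' →
      cont c' (Bool.rec (Nat.succ p) p (Nat.beq (lab f) D.k)) = true →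
      (Bool.rec (Nat.blt p (wlen u) && Nat.beq (letter u p) (lab f)) true (Nat.beq (lab f) D.k)) = true →
      ∃ c'' p', cont c'' p' = true ∧ p ≤ p' ∧
        run s (seg u p p') (D.val base s c) = D.val base s c'' := by
    intro c' hc hcont hok
    cases hb : Nat.beq (lab f) D.k with
    | true =>
      rw [hb] at hcont
      refine ⟨c', p, hcont, le_rfl, ?_⟩
      rw [seg_self, ← hc, Nat.eq_of_beq_eq_true hb, hk]
      rfl
    | false =>
      rw [hb] at hcont hok
      simp only [Bool.and_eq_true] at hok
      refine ⟨c', p + 1, hcont, Nat.le_succ p, ?_⟩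
      rw [seg_succ, Nat.eq_of_beq_eq_true hok.2, ← hc]
      rfl
  generalize hok : (Bool.rec (motive := fun _ => Bool) (Nat.blt p (wlen u) && Nat.beq (letter u p) (lab f)) true
    (Nat.beq (lab f) D.k)) = ok at h key
  cases ok
  · cases h1 : Nat.beq c (src f) <;> rw [h1] at h
    · cases h2 : Nat.beq c (tgt f) <;> rw [h2] at h <;> exact absurd h Bool.false_ne_true
    · exact absurd h Bool.false_ne_true
  · cases h1 : Nat.beq c (src f) <;> rw [h1] at h
    · cases h2 : Nat.beq c (tgt f) <;> rw [h2] at h
      · exact absurd h Bool.false_ne_true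
      · refine key (src f) ?_ h rfl
        rw [Nat.eq_of_beq_eq_true h2, ← hf, hinv]
    · refine key (tgt f) ?_ h rfl
      rw [Nat.eq_of_beq_eq_true h1, hf]

include hinv hk in
theorem walk_sound (j u : ℕ) (hj : ∀ i < j, D.Holds base s i) :
    ∀ (m c p refs : ℕ) (cont : ℕ → ℕ → ℕ → Bool), D.walk j u m c p refs cont = true →
      ∃ c' p' refs', cont c' p' refs' = true ∧ p ≤ p' ∧
        run s (seg u p p') (D.val base s c) = D.val base s c' := by
  intro m
  induction m with
  | zero =>
    intro c p refs cont h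
    exact ⟨c, p, refs, h, le_rfl, by rw [seg_self]; rfl⟩
  | succ m ih =>
    intro c p refs cont h
    simp only [walk, force_eq] at h
    rw [Bool.and_eq_true, blt_iff] at h
    obtain ⟨c₁, p₁, h₁, hp₁, e₁⟩ := step_sound hinv (hj _ h.1) h.2 hk
    obtain ⟨c', p', refs', h₂, hp₂, e₂⟩ := ih c₁ p₁ (Nat.shiftRight refs 20) cont (by simp only [walk, force_eq]; exact h₁)
    exact ⟨c', p', refs', h₂, hp₁.trans hp₂, by rw [seg_trans u hp₁ hp₂, run_append, e₁, e₂]⟩

include hinv hk in
theorem okJust_sound (hwh : ∀ w < D.nh, run s (wordOf (D.words.get w)) base = base)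
    (hwr : ∀ w, D.nh ≤ w → w < D.nw → ∀ v, run s (wordOf (D.words.get w)) v = v)
    (j r : ℕ) (hj : ∀ i < j, D.Holds base s i) (h : D.okJust j r = true) : D.Holds base s j := by
  simp only [okJust, force_eq] at h
  unfold Holds
  set x := lab (D.fact j)
  set a := src (D.fact j)
  set b := tgt (D.fact j)
  cases hd : Nat.beq (fld r (nat_lit 0) (nat_lit 12)) (nat_lit 4095) with
  | true =>
    rw [hd] at h
    simp only [Bool.and_eq_true, blt_iff] at h
    obtain ⟨⟨hab, hx⟩, he⟩ := h
    have he' : D.parent b = a * 16 + x := Nat.eq_of_beq_eq_true he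
    have hx' : x < 16 := Nat.mod_lt _ (Nat.two_pow_pos 4)
    conv_rhs => rw [val]
    rw [if_neg (by omega : ¬ b = 0), he', dif_pos (by omega : (a * 16 + x) / 16 < b),
      show (a * 16 + x) / 16 = a by omega, show (a * 16 + x) % 16 = x by omega]
  | false =>
    rw [hd] at h
    simp only [Bool.and_eq_true, blt_iff] at h
    set w := fld r (nat_lit 0) (nat_lit 12)
    set i := fld r (nat_lit 12) (nat_lit 12)
    set st := fld r (nat_lit 24) (nat_lit 20)
    set u := D.words.get w
    obtain ⟨⟨hw, -⟩, hst, hwalk⟩ := h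
    obtain ⟨c, p, refs, hc, hp, e₁⟩ := walk_sound hinv hk j u hj _ _ _ _ _ hwalk
    simp only [Bool.and_eq_true] at hc
    obtain ⟨⟨⟨hca, hpi⟩, hxi⟩, hwalk₂⟩ := hc
    obtain ⟨c', p', refs', hc', hp', e₂⟩ := walk_sound hinv hk j u hj _ _ _ _ _ hwalk₂
    rw [Bool.and_eq_true] at hc'
    rw [Nat.eq_of_beq_eq_true hca, Nat.eq_of_beq_eq_true hpi] at e₁
    rw [Nat.eq_of_beq_eq_true hc'.1, Nat.eq_of_beq_eq_true hc'.2] at e₂
    have hfix : run s (wordOf u) (D.val base s st) = D.val base s st := by
      by_cases hwn : w < D.nh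
      · have hst0 : st = 0 := by
          rw [show Nat.blt w D.nh = true from blt_iff.mpr hwn] at hst
          exact Nat.eq_of_beq_eq_true hst
        rw [hst0, val, if_pos rfl]
        exact hwh w hwn
      · exact hwr w (by omega) hw _
    have hi' : ∀ i', i ≤ i' → i' ≤ wlen u → run s (seg u i' (wlen u)) (run s (seg u i i') (D.val base s a)) =
        D.val base s st := by
      intro i' h1 h2
      rw [← e₁, ← run_append, ← run_append, ← seg_trans u h1 h2, ← seg_trans u (Nat.zero_le i) (h1.trans h2)]
      exact hfix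
    cases hb : Nat.beq x D.k with
    | true =>
      rw [hb] at e₂ hp'
      rw [Nat.eq_of_beq_eq_true hb, hk]
      refine run_injective hinv (seg u i (wlen u)) ?_
      rw [show run s (seg u i (wlen u)) (D.val base s b) = D.val base s st from e₂]
      have := hi' i le_rfl (Nat.eq_of_beq_eq_true hc'.2 ▸ hp')
      rwa [seg_self] at this
    | false =>
      rw [hb] at e₂ hp' hxi
      simp only [Bool.and_eq_true, blt_iff] at hxi
      refine run_injective hinv (seg u (i + 1) (wlen u)) ?_
      rw [show run s (seg u (i + 1) (wlen u)) (D.val base s b) = D.val base s st from e₂]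
      have := hi' (i + 1) (Nat.le_succ i) hxi.1
      rw [seg_succ, Nat.eq_of_beq_eq_true hxi.2] at this
      exact this

include hinv hk in
theorem okChunk_sound (hwh : ∀ w < D.nh, run s (wordOf (D.words.get w)) base = base)
    (hwr : ∀ w, D.nh ≤ w → w < D.nw → ∀ v, run s (wordOf (D.words.get w)) v = v) :
    ∀ (L : List ℕ) (lo : ℕ), D.okChunk lo L = true → (∀ i < lo, D.Holds base s i) →
      ∀ i < lo + L.length, D.Holds base s i := by
  intro L
  induction L with
  | nil => intro lo _ h i hi; exact h i (by simpa using hi)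
  | cons r L ih =>
    intro lo h hlo i hi
    simp only [okChunk, force_eq, Bool.and_eq_true] at h
    have h0 := okJust_sound hinv hk hwh hwr lo r hlo h.1
    refine ih (lo + 1) h.2 (fun i hi => ?_) i (by simp only [List.length_cons] at hi; omega)
    rcases Nat.lt_succ_iff_lt_or_eq.mp hi with h' | rfl
    · exact hlo i h'
    · exact h0

end Data

end CfsgLib.CosetEnum
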