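/-
Soundness of the final table of a coset enumeration.
-/
import Cfsg.Agent.Lib.CosetEnum.Sound

set_option autoImplicit false

namespace CfsgLib.CosetEnum

theorem allN_spec {f : ℕ → Bool} : ∀ {m : ℕ}, allN m f = true → ∀ i < m, f i = true := by
  intro m
  induction m with
  | zero => intro _ i hi; omega
  | succ m ih =>
    intro h i hi
    simp only [allN, Bool.and_eq_true] at h
    rcases Nat.lt_succ_iff_lt_or_eq.mp hi with h' | rfl
    · exact ih h.2 i h'
    · exact h.1

variable {D : Data} {T : Table} {Ω : Type*} {base : Ω} {s : ℕ → Ω → Ω}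

/-- The point of a coset of the final table. -/
noncomputable def Table.point (T : Table) (D : Data) (base : Ω) (s : ℕ → Ω → Ω) (d : ℕ) : Ω :=
  D.val base s (T.repr d)

/-- A row of the final table is correct. -/
def RowOK (D : Data) (T : Table) (base : Ω) (s : ℕ → Ω → Ω) (d : ℕ) : Prop :=
  ∀ x < D.k, T.act D.k d x < T.n ∧ s x (T.point D base s d) = T.point D base s (T.act D.k d x)

theorem okRow_sound (hinv : ∀ x v, s x (s x v) = v) (hk : ∀ v, s D.k v = v) {nf : ℕ} (hk16 : D.k < 16)
    (hf : ∀ i < nf, D.Holds base s i) {d : ℕ} {L : List ℕ} (h : okRow D T nf d L = true) :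
    RowOK D T base s d := by
  simp only [okRow, force_eq] at h
  have main : ∀ (L : List ℕ) (x₀ : ℕ),
      List.rec (motive := fun _ => ℕ → Bool) (fun x => Nat.beq x D.k)
        (fun r _ ih x => (Nat.blt (T.act D.k d x) T.n &&
          D.walk nf (Nat.add (nat_lit 1) (Nat.mul x (nat_lit 4096))) (fld r (nat_lit 0) (nat_lit 12)) (T.repr d)
            (nat_lit 0) (Nat.shiftRight r (nat_lit 12))
            fun c p _ => Nat.beq c (T.repr (T.act D.k d x)) && Nat.beq p (nat_lit 1)) && ih (Nat.succ x)) L x₀ = true →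
      ∀ x, x₀ ≤ x → x < D.k → T.act D.k d x < T.n ∧
        s x (T.point D base s d) = T.point D base s (T.act D.k d x) := by
    intro L
    induction L with
    | nil => intro x₀ h x h1 h2; have := Nat.eq_of_beq_eq_true h; omega
    | cons r L ih =>
      intro x₀ h x h1 h2
      simp only [Bool.and_eq_true, blt_iff] at h
      rcases Nat.eq_or_lt_of_le h1 with rfl | h3
      · obtain ⟨c, p, refs, hc, -, e⟩ := Data.walk_sound hinv hk nf _ hf _ _ _ _ _ h.1.2
        rw [Bool.and_eq_true] at hc
        rw [Nat.eq_of_beq_eq_true hc.1, Nat.eq_of_beq_eq_true hc.2, seg_succ] at e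
        have hl : letter (Nat.add 1 (Nat.mul x₀ 4096)) 0 = x₀ := by
          show (1 + x₀ * 4096) >>> (12 + 4 * 0) % 2 ^ 4 = x₀
          rw [Nat.shiftRight_eq_div_pow]
          omega
        rw [hl] at e
        exact ⟨h.1.1, e⟩
      · exact ih (x₀ + 1) h.2 x h3 h2
  exact fun x hx => main L 0 h x (Nat.zero_le x) hx

theorem okRows_sound (hinv : ∀ x v, s x (s x v) = v) (hk : ∀ v, s D.k v = v) {nf : ℕ} (hk16 : D.k < 16)
    (hf : ∀ i < nf, D.Holds base s i) :
    ∀ (L : List (List ℕ)) (lo : ℕ), okRows D T nf lo L = true → (∀ d < lo, RowOK D T base s d) →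
      ∀ d < lo + L.length, RowOK D T base s d := by
  intro L
  induction L with
  | nil => intro lo _ h d hd; exact h d (by simpa using hd)
  | cons r L ih =>
    intro lo h hlo d hd
    simp only [okRows, force_eq, Bool.and_eq_true] at h
    refine ih (lo + 1) h.2 (fun i hi => ?_) d (by simp only [List.length_cons] at hd; omega)
    rcases Nat.lt_succ_iff_lt_or_eq.mp hi with h' | rfl
    · exact hlo i h'
    · exact okRow_sound hinv hk hk16 hf h.1

/-- The checks of the table at a point. -/
def PointOK (T : Table) (k : ℕ) (rels : List (List ℕ)) (d : ℕ) : Prop :=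
  (∀ x < k, T.act k d x < T.n ∧ T.act k (T.act k d x) x = d) ∧
    (∀ w ∈ rels, run (fun x e => T.act k e x) w d = d) ∧
    (d ≠ 0 → ∃ a x, a < d ∧ x < k ∧ T.act k a x = d)

theorem runT_eq (T : Table) (k : ℕ) : ∀ (w : List ℕ) (d : ℕ), runT T k w d = run (fun x e => T.act k e x) w d := by
  intro w
  induction w with
  | nil => intro d; rfl
  | cons x w ih =>
    intro d
    show force (T.act k d x) (runT T k w) = _
    rw [force_eq]
    exact ih _

theorem okPoint_sound {k : ℕ} {rels : List (List ℕ)} {d : ℕ} (h : okPoint T k rels d = true) :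
    PointOK T k rels d := by
  simp only [okPoint, force_eq, Bool.and_eq_true] at h
  obtain ⟨⟨h1, h2⟩, h3⟩ := h
  refine ⟨fun x hx => ?_, fun w hw => ?_, fun hd => ?_⟩
  · have := allN_spec h1 x hx
    rw [Bool.and_eq_true, blt_iff] at this
    exact ⟨this.1, Nat.eq_of_beq_eq_true this.2⟩
  · clear h1 h3
    induction rels with
    | nil => simp at hw
    | cons v rels ih =>
      simp only [Bool.and_eq_true] at h2
      rcases List.mem_cons.mp hw with rfl | hw
      · rw [← runT_eq]; exact Nat.eq_of_beq_eq_true h2.1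
      · exact ih h2.2 hw
  · have hb : Nat.beq d 0 = false := by
      cases hb : Nat.beq d 0
      · rfl
      · exact absurd (Nat.eq_of_beq_eq_true hb) hd
    rw [hb] at h3
    simp only [Bool.and_eq_true, blt_iff] at h3
    exact ⟨_, _, h3.1.1, h3.1.2, Nat.eq_of_beq_eq_true h3.2⟩

theorem okPoints_sound {k : ℕ} {rels : List (List ℕ)} {lo m : ℕ} (h : okPoints T k rels lo m = true) :
    (∀ d < lo, PointOK T k rels d) → ∀ d < lo + m, PointOK T k rels d := by
  intro hlo d hd
  by_cases hd' : d < lo
  · exact hlo d hd'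
  · have := allN_spec (f := fun i => force (Nat.add lo i) fun d => okPoint T k rels d) h (d - lo) (by omega)
    rw [force_eq, show Nat.add lo (d - lo) = d by show lo + (d - lo) = d; omega] at this
    exact okPoint_sound this

end CfsgLib.CosetEnum
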