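/-
The index of a subgroup from a certified coset enumeration, and orbits on the cosets.
-/
import Cfsg.Agent.Lib.CosetEnum.Rows
import Mathlib.GroupTheory.Index
import Mathlib.GroupTheory.GroupAction.Quotient
import Mathlib.Tactic.Group

set_option autoImplicit false

namespace CfsgLib.CosetEnum

variable {G : Type*} [Group G] (σ : ℕ → G)

theorem run_smul {α : Type*} [MulAction G α] : ∀ (w : List ℕ) (v : α),
    run (fun x u => σ x • u) w v = (w.reverse.map σ).prod • v := by
  intro w
  induction w with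
  | nil => intro v; simp [run]
  | cons x w ih =>
    intro v
    rw [show run (fun x u => σ x • u) (x :: w) v = run (fun x u => σ x • u) w (σ x • v) from rfl, ih,
      List.reverse_cons, List.map_append, List.prod_append, List.map_cons, List.map_nil, List.prod_cons,
      List.prod_nil, mul_one, mul_smul]

theorem prod_reverse_inv (hσ : ∀ x, σ x * σ x = 1) : ∀ w : List ℕ, (w.reverse.map σ).prod = ((w.map σ).prod)⁻¹ := by
  intro w
  induction w with
  | nil => simp
  | cons x w ih =>
    rw [List.reverse_cons, List.map_append, List.prod_append, ih, List.map_cons, List.map_cons, List.map_nil,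
      List.prod_cons, List.prod_cons, List.prod_nil, mul_one, mul_inv_rev, inv_eq_of_mul_eq_one_right (hσ x)]

/-- The images of the letters in a permutation group of the table. -/
def PermOK (T : Table) (k : ℕ) (π : G →* Equiv.Perm (Fin T.n)) : Prop :=
  ∀ x < k, ∀ d : Fin T.n, (π (σ x) d : ℕ) = T.act k d x

theorem exists_equiv (H : Subgroup G) (D : Data) (T : Table) (hn : 0 < T.n)
    (hσ : ∀ x, σ x * σ x = 1) (hσk : σ D.k = 1) (hgen : Subgroup.closure (σ '' Set.Iio D.k) = ⊤)
    (π : G →* Equiv.Perm (Fin T.n)) (hπ : PermOK σ T D.k π) (hH : ∀ h ∈ H, π h ⟨0, hn⟩ = ⟨0, hn⟩)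
    (hrep : T.repr 0 = 0)
    (hup : ∀ d < T.n, d ≠ 0 → ∃ a x, a < d ∧ x < D.k ∧ T.act D.k a x = d)
    (hrow : ∀ d < T.n, RowOK D T ((1 : G) : G ⧸ H) (fun x u => σ x • u) d) :
    ∃ e : Fin T.n ≃ G ⧸ H, ∀ (g : G) (d : Fin T.n), e (π g d) = g • e d := by
  let f : Fin T.n → G ⧸ H := fun d => T.point D ((1 : G) : G ⧸ H) (fun x u => σ x • u) d
  have hf : ∀ (g : G) (d : Fin T.n), f (π g d) = g • f d := by
    let S : Subgroup G :=
      { carrier := {g | ∀ d, f (π g d) = g • f d}
        one_mem' := fun d => by rw [map_one, Equiv.Perm.one_apply, one_smul]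
        mul_mem' := fun {a b} ha hb d => by rw [map_mul, Equiv.Perm.mul_apply, ha, hb, mul_smul]
        inv_mem' := fun {a} ha d => by
          have h := ha (π a⁻¹ d)
          rw [← Equiv.Perm.mul_apply, ← map_mul, mul_inv_cancel, map_one, Equiv.Perm.one_apply] at h
          rw [h, inv_smul_smul] }
    have hS : S = ⊤ := by
      rw [eq_top_iff, ← hgen, Subgroup.closure_le]
      rintro _ ⟨x, hx, rfl⟩ d
      show T.point D _ _ (π (σ x) d : ℕ) = _
      rw [hπ x hx d]
      exact ((hrow d d.2 x hx).2).symm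
    intro g
    exact (show g ∈ S from hS ▸ Subgroup.mem_top g)
  let φ : G ⧸ H → Fin T.n := fun q => Quotient.liftOn' q (fun g => π g ⟨0, hn⟩) fun a b hab => by
    rw [QuotientGroup.leftRel_apply] at hab
    show π a ⟨0, hn⟩ = π b ⟨0, hn⟩
    conv_rhs => rw [show b = a * (a⁻¹ * b) by group, map_mul, Equiv.Perm.mul_apply, hH _ hab]
  have hφ : ∀ g : G, φ (g : G ⧸ H) = π g ⟨0, hn⟩ := fun g => rfl
  have hbase : f ⟨0, hn⟩ = ((1 : G) : G ⧸ H) := by
    show D.val _ _ (T.repr 0) = _
    rw [hrep, Data.val, if_pos rfl]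
  have hsurj : Function.Surjective f := by
    intro q
    induction q using QuotientGroup.induction_on with
    | H g => exact ⟨π g ⟨0, hn⟩, by rw [hf, hbase, MulAction.Quotient.smul_coe, smul_eq_mul, mul_one]⟩
  have hφsurj : Function.Surjective φ := by
    have : ∀ d, ∀ hd : d < T.n, ∃ g : G, π g ⟨0, hn⟩ = ⟨d, hd⟩ := by
      intro d
      induction d using Nat.strong_induction_on with
      | _ d ih =>
        intro hd
        by_cases h0 : d = 0
        · subst h0; exact ⟨1, by rw [map_one, Equiv.Perm.one_apply]⟩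
        obtain ⟨a, x, ha, hx, e⟩ := hup d hd h0
        obtain ⟨g, hg⟩ := ih a ha (ha.trans hd)
        refine ⟨σ x * g, Fin.ext ?_⟩
        rw [map_mul, Equiv.Perm.mul_apply, hg, hπ x hx]
        exact e
    intro d
    obtain ⟨g, hg⟩ := this d.1 d.2
    exact ⟨(g : G ⧸ H), by rw [hφ, hg]⟩
  haveI : Finite (G ⧸ H) := Finite.of_surjective f hsurj
  have hcard : Nat.card (G ⧸ H) = Nat.card (Fin T.n) :=
    le_antisymm (Nat.card_le_card_of_surjective f hsurj) (Nat.card_le_card_of_surjective φ hφsurj)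
  exact ⟨Equiv.ofBijective f ((Nat.bijective_iff_surjective_and_card f).mpr ⟨hsurj, hcard.symm⟩), hf⟩

theorem index_eq_of_equiv {H : Subgroup G} {n : ℕ} (e : Fin n ≃ G ⧸ H) : H.index = n := by
  rw [Subgroup.index, ← Nat.card_congr e, Nat.card_eq_fintype_card, Fintype.card_fin]

theorem orbit_ncard {H : Subgroup G} {n : ℕ} (e : Fin n ≃ G ⧸ H) (π : G →* Equiv.Perm (Fin n))
    (he : ∀ (g : G) (d : Fin n), e (π g d) = g • e d) (d₀ : Fin n) (S : Set (Fin n))
    (hS : ∀ d, d ∈ S ↔ ∃ h ∈ H, π h d₀ = d) :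
    (MulAction.orbit H (e d₀)).ncard = S.ncard := by
  have : MulAction.orbit H (e d₀) = e '' S := by
    ext q
    constructor
    · rintro ⟨⟨h, hh⟩, rfl⟩
      exact ⟨π h d₀, (hS _).mpr ⟨h, hh, rfl⟩, he h d₀⟩
    · rintro ⟨d, hd, rfl⟩
      obtain ⟨h, hh, rfl⟩ := (hS d).mp hd
      exact ⟨⟨h, hh⟩, (he h d₀).symm⟩
  rw [this, Set.ncard_image_of_injective _ e.injective]

end CfsgLib.CosetEnum
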