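/-
Certified coset enumeration in Coxeter-graph presentations.
-/
import Cfsg.Agent.Lib.CosetEnum.Index
import Cfsg.Prelude.Def_SporCoxeter

set_option autoImplicit false

namespace CfsgLib.CosetEnum

open Cfsg.Spor

/-- The word `(i j)^m`. -/
def coxWord (i j m : ℕ) : List ℕ := (List.replicate m [i, j]).flatten

theorem prod_coxWord {M : Type*} [Monoid M] (τ : ℕ → M) (i j : ℕ) : ∀ m,
    ((coxWord i j m).map τ).prod = (τ i * τ j) ^ m := by
  intro m
  induction m with
  | zero => simp [coxWord]
  | succ m ih =>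
    rw [pow_succ', ← ih]
    simp [coxWord, List.replicate_succ, mul_assoc]

theorem prod_rotate_eq_one {M : Type*} [Group M] (L : List M) (s : ℕ) (h : L.prod = 1) : (L.rotate s).prod = 1 := by
  rw [List.rotate_eq_drop_append_take_mod, List.prod_append]
  have h' : (L.take (s % L.length)).prod * (L.drop (s % L.length)).prod = 1 := by
    rw [← List.prod_append, List.take_append_drop]; exact h
  rw [eq_inv_of_mul_eq_one_right h', inv_mul_cancel]

/-- A presentation with numbered generators, all of them nodes of the graph. -/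
structure Pres where
  /-- the generators -/
  α : Type
  /-- equality of generators is decidable -/
  dec : DecidableEq α
  /-- the graph -/
  edges : List (α × ℕ × α)
  /-- the further relators -/
  extra : List (FreeGroup α)
  /-- the number of generators -/
  k : ℕ
  /-- the generator with a given number -/
  gen : ℕ → α
  /-- the number of a generator -/
  idx : α → ℕ
  /-- the further relators as words -/
  extraW : List (List ℕ)
  idx_spec : ∀ a, idx a < k ∧ gen (idx a) = a
  node : ∀ a, a ∈ @coxNodes α dec edges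
  symm : ∀ a b, @coxLabel α dec edges a b = @coxLabel α dec edges b a
  extra_spec : ∀ (M : Type) [Group M] (τ : ℕ → M), (∀ x, τ x * τ x = 1) →
    extra.map (FreeGroup.lift (τ ∘ idx)) = extraW.map fun w => (w.map τ).prod

namespace Pres

variable (P : Pres)

/-- The relators. -/
abbrev relSet : Set (FreeGroup P.α) := @coxRelators P.α P.dec P.edges ∪ {r | r ∈ P.extra}

/-- The presented group. -/
abbrev Grp : Type := PresentedGroup P.relSet

/-- The label of two numbered generators. -/
def m (i j : ℕ) : ℕ := @coxLabel P.α P.dec P.edges (P.gen i) (P.gen j)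

/-- All relators as words. -/
def rels : List (List ℕ) :=
  ((List.range P.k).flatMap fun i => ((List.range P.k).filter fun j => i ≤ j).map fun j => coxWord i j (P.m i j)) ++
    P.extraW

/-- The generator with a given number in the group. -/
noncomputable def σ (x : ℕ) : P.Grp := if x < P.k then PresentedGroup.of (P.gen x) else 1

theorem σ_idx (a : P.α) : P.σ (P.idx a) = PresentedGroup.of a := by
  rw [σ, if_pos (P.idx_spec a).1, (P.idx_spec a).2]

theorem lift_σ (r : FreeGroup P.α) : FreeGroup.lift (P.σ ∘ P.idx) r = PresentedGroup.mk P.relSet r := by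
  suffices h : FreeGroup.lift (P.σ ∘ P.idx) = PresentedGroup.mk P.relSet from DFunLike.congr_fun h r
  refine FreeGroup.ext_hom _ _ fun a => ?_
  rw [FreeGroup.lift_apply_of, Function.comp_apply, σ_idx]
  rfl

theorem σ_sq (x : ℕ) : P.σ x * P.σ x = 1 := by
  letI := P.dec
  unfold σ
  split
  · have h : PresentedGroup.mk P.relSet ((FreeGroup.of (P.gen x) * FreeGroup.of (P.gen x)) ^ 1) = 1 :=
      (PresentedGroup.mk_eq_one_iff).mpr (Subgroup.subset_normalClosure
        (Or.inl ⟨P.gen x, P.node _, P.gen x, P.node _, by simp [coxLabel]⟩))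
    rw [pow_one, map_mul] at h
    exact h
  · exact one_mul 1

theorem gen_closure : Subgroup.closure (P.σ '' Set.Iio P.k) = ⊤ := by
  rw [eq_top_iff, ← PresentedGroup.closure_range_of P.relSet, Subgroup.closure_le]
  rintro _ ⟨a, rfl⟩
  exact Subgroup.subset_closure ⟨P.idx a, (P.idx_spec a).1, P.σ_idx a⟩

theorem mem_rels {w : List ℕ} (hw : w ∈ P.rels) :
    (∃ i < P.k, ∃ j < P.k, w = coxWord i j (P.m i j)) ∨ w ∈ P.extraW := by
  simp only [rels, List.mem_append, List.mem_flatMap, List.mem_range, List.mem_map, List.mem_filter] at hw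
  rcases hw with ⟨i, hi, j, ⟨hj, -⟩, rfl⟩ | hw
  · exact Or.inl ⟨i, hi, j, hj, rfl⟩
  · exact Or.inr hw

theorem rels_one {w : List ℕ} (hw : w ∈ P.rels) : (w.map P.σ).prod = 1 := by
  rcases P.mem_rels hw with ⟨i, hi, j, hj, rfl⟩ | hw
  · rw [prod_coxWord, σ, σ, if_pos hi, if_pos hj]
    show (PresentedGroup.mk P.relSet (FreeGroup.of (P.gen i)) * PresentedGroup.mk P.relSet (FreeGroup.of (P.gen j))) ^ _ = 1
    rw [← map_mul, ← map_pow]
    exact (PresentedGroup.mk_eq_one_iff).mpr (Subgroup.subset_normalClosure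
      (Or.inl ⟨P.gen i, P.node _, P.gen j, P.node _, rfl⟩))
  · have h := P.extra_spec P.Grp P.σ P.σ_sq
    have hm : (w.map P.σ).prod ∈ P.extraW.map fun w => (w.map P.σ).prod := List.mem_map_of_mem hw
    rw [← h, List.mem_map] at hm
    obtain ⟨r, hr, e⟩ := hm
    rw [← e, lift_σ]
    exact (PresentedGroup.mk_eq_one_iff).mpr (Subgroup.subset_normalClosure (Or.inr hr))

theorem lift_rel {M : Type} [Group M] {τ : ℕ → M} (hτ : ∀ x, τ x * τ x = 1)
    (h : ∀ w ∈ P.rels, (w.map τ).prod = 1) : ∀ r ∈ P.relSet, FreeGroup.lift (τ ∘ P.idx) r = 1 := by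
  letI := P.dec
  rintro r (⟨a, ha, b, hb, rfl⟩ | hr)
  · rw [map_pow, map_mul, FreeGroup.lift_apply_of, FreeGroup.lift_apply_of, Function.comp_apply, Function.comp_apply]
    have key : ∀ i < P.k, ∀ j < P.k, i ≤ j → (τ i * τ j) ^ P.m i j = 1 := fun i hi j hj hij => by
      rw [← prod_coxWord]
      refine h _ (List.mem_append_left _ ?_)
      simp only [List.mem_flatMap, List.mem_range, List.mem_map, List.mem_filter, decide_eq_true_eq]
      exact ⟨i, hi, j, ⟨hj, hij⟩, rfl⟩
    obtain ⟨hai, hag⟩ := P.idx_spec a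
    obtain ⟨hbi, hbg⟩ := P.idx_spec b
    rcases le_total (P.idx a) (P.idx b) with hle | hle
    · have := key _ hai _ hbi hle
      rwa [m, hag, hbg] at this
    · have := key _ hbi _ hai hle
      rw [m, hag, hbg, P.symm] at this
      have e : τ (P.idx a) * τ (P.idx b) = (τ (P.idx b) * τ (P.idx a))⁻¹ := by
        rw [mul_inv_rev, inv_eq_of_mul_eq_one_right (hτ _), inv_eq_of_mul_eq_one_right (hτ _)]
      rw [e, inv_pow, this, inv_one]
  · have hm : FreeGroup.lift (τ ∘ P.idx) r ∈ P.extra.map (FreeGroup.lift (τ ∘ P.idx)) := List.mem_map_of_mem hr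
    rw [P.extra_spec M τ hτ, List.mem_map] at hm
    obtain ⟨w, hw, e⟩ := hm
    rw [← e]
    exact h w (List.mem_append_right _ hw)

end Pres

/-- The words of a certificate are rotations of relators or words generating the subgroup. -/
noncomputable def okWords (D : Data) (rels hw : List (List ℕ)) (rots : List (ℕ × ℕ)) : Bool :=
  (List.range D.nw).all fun w =>
    if w < D.nh then wordOf (D.words.get w) == hw.getD (rots.getD w (0, 0)).1 []
    else wordOf (D.words.get w) == (rels.getD (rots.getD w (0, 0)).1 []).rotate (rots.getD w (0, 0)).2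

/-- A certificate that the subgroup generated by the given words has the index of a table. -/
structure Cert (P : Pres) where
  /-- the certificate -/
  D : Data
  /-- the table -/
  T : Table
  /-- the words generating the subgroup -/
  hw : List (List ℕ)
  /-- the origin of the words -/
  rots : List (ℕ × ℕ)
  /-- the number of facts -/
  nf : ℕ
  hk : D.k = P.k
  hk16 : D.k < 16
  nh_le : D.nh ≤ D.nw
  hn : 0 < T.n
  hrep : T.repr 0 = 0
  words_ok : okWords D P.rels hw rots = true
  facts_ok : ∀ {Ω : Type} (base : Ω) (s : ℕ → Ω → Ω), (∀ x v, s x (s x v) = v) → (∀ v, s D.k v = v) →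
    (∀ w < D.nh, run s (wordOf (D.words.get w)) base = base) →
    (∀ w, D.nh ≤ w → w < D.nw → ∀ v, run s (wordOf (D.words.get w)) v = v) →
    ∀ d < T.n, RowOK D T base s d
  points_ok : ∀ d < T.n, PointOK T D.k P.rels d
  base_ok : (hw.all fun w => Nat.beq (runT T D.k w 0) 0) = true

namespace Cert

variable {P : Pres} (C : Cert P)

/-- The subgroup generated by the words. -/
noncomputable def sub : Subgroup P.Grp := Subgroup.closure {g | ∃ w ∈ C.hw, (w.map P.σ).prod = g}

/-- The permutation of a letter. -/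
noncomputable def perm (x : ℕ) : Equiv.Perm (Fin C.T.n) :=
  if h : x < C.D.k then
    Function.Involutive.toPerm (fun d => (⟨C.T.act C.D.k d x, ((C.points_ok d d.2).1 x h).1⟩ : Fin C.T.n))
      fun d => Fin.ext ((C.points_ok d d.2).1 x h).2
  else 1

theorem perm_val {x : ℕ} (hx : x < C.D.k) (d : Fin C.T.n) : (C.perm x d : ℕ) = C.T.act C.D.k d x := by
  rw [perm, dif_pos hx]; rfl

theorem perm_sq (x : ℕ) : C.perm x * C.perm x = 1 := by
  by_cases hx : x < C.D.k
  · refine Equiv.ext fun d => Fin.ext ?_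
    rw [Equiv.Perm.mul_apply, C.perm_val hx, C.perm_val hx, Equiv.Perm.one_apply]
    exact ((C.points_ok d d.2).1 x hx).2
  · rw [perm, dif_neg hx, one_mul]

theorem run_perm (w : List ℕ) (hw : ∀ x ∈ w, x < C.D.k) :
    ∀ d : Fin C.T.n, ((run (fun x u => C.perm x • u) w d : Fin C.T.n) : ℕ) = run (fun x e => C.T.act C.D.k e x) w (d : ℕ) := by
  induction w with
  | nil => intro d; rfl
  | cons x w ih =>
    intro d
    show ((run (fun x u => C.perm x • u) w (C.perm x • d) : Fin C.T.n) : ℕ) =
      run (fun x e => C.T.act C.D.k e x) w (C.T.act C.D.k d x)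
    rw [ih (fun y hy => hw y (List.mem_cons_of_mem _ hy)), ← C.perm_val (hw x List.mem_cons_self)]
    rfl

theorem perm_rel (hlt : ∀ w ∈ P.rels, ∀ x ∈ w, x < P.k) {w : List ℕ} (hw : w ∈ P.rels) :
    (w.map C.perm).prod = 1 := by
  rw [← inv_eq_one, ← prod_reverse_inv C.perm C.perm_sq]
  refine Equiv.ext fun d => Fin.ext ?_
  have h := C.run_perm w (fun x hx => by rw [C.hk]; exact hlt w hw x hx) d
  rw [run_smul] at h
  exact h.trans ((C.points_ok d d.2).2.1 w hw)

/-- The representation on the cosets of the table. -/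
noncomputable def hom (hlt : ∀ w ∈ P.rels, ∀ x ∈ w, x < P.k) : P.Grp →* Equiv.Perm (Fin C.T.n) :=
  PresentedGroup.toGroup (f := C.perm ∘ P.idx) (P.lift_rel C.perm_sq fun _ hw => C.perm_rel hlt hw)

theorem hom_σ (hlt : ∀ w ∈ P.rels, ∀ x ∈ w, x < P.k) (hid : ∀ i < P.k, P.idx (P.gen i) = i) {x : ℕ}
    (hx : x < P.k) : C.hom hlt (P.σ x) = C.perm x := by
  rw [Pres.σ, if_pos hx]
  exact (PresentedGroup.toGroup.of _).trans (congrArg C.perm (hid x hx))

theorem hom_word (hlt : ∀ w ∈ P.rels, ∀ x ∈ w, x < P.k) (hid : ∀ i < P.k, P.idx (P.gen i) = i) :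
    ∀ w : List ℕ, (∀ x ∈ w, x < P.k) → C.hom hlt (w.map P.σ).prod = (w.map C.perm).prod := by
  intro w
  induction w with
  | nil => intro _; simp
  | cons x w ih =>
    intro h
    rw [List.map_cons, List.prod_cons, List.map_cons, List.prod_cons, map_mul,
      ih fun y hy => h y (List.mem_cons_of_mem _ hy), C.hom_σ hlt hid (h x List.mem_cons_self)]

theorem word_smul (w : List ℕ) (hw : ∀ x ∈ w, x < C.D.k) (d : Fin C.T.n) :
    ((w.map C.perm).prod d : ℕ) = run (fun x e => C.T.act C.D.k e x) w.reverse (d : ℕ) := by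
  rw [← C.run_perm w.reverse (fun x hx => hw x (List.mem_reverse.mp hx)) d, run_smul, List.reverse_reverse]
  rfl

theorem act_run_cancel : ∀ w : List ℕ, (∀ x ∈ w, x < C.D.k) → ∀ d < C.T.n,
    run (fun x e => C.T.act C.D.k e x) w.reverse (run (fun x e => C.T.act C.D.k e x) w d) = d := by
  intro w hw d hd
  rw [← C.run_perm w hw ⟨d, hd⟩, ← C.run_perm w.reverse (fun x hx => hw x (List.mem_reverse.mp hx)),
    run_cancel fun x u => by rw [smul_smul, C.perm_sq, one_smul]]

theorem exists_equiv (hlt : ∀ w ∈ P.rels, ∀ x ∈ w, x < P.k) (hid : ∀ i < P.k, P.idx (P.gen i) = i)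
    (hhw : ∀ w ∈ C.hw, ∀ x ∈ w, x < P.k) :
    ∃ e : Fin C.T.n ≃ P.Grp ⧸ C.sub, ∀ (g : P.Grp) (d : Fin C.T.n), e (C.hom hlt g d) = g • e d := by
  have hσk : P.σ C.D.k = 1 := by rw [Pres.σ, if_neg (by rw [C.hk]; exact lt_irrefl _)]
  refine CosetEnum.exists_equiv P.σ C.sub C.D C.T C.hn P.σ_sq hσk (by rw [C.hk]; exact P.gen_closure)
    (C.hom hlt) (fun x hx d => by rw [C.hom_σ hlt hid (C.hk ▸ hx)]; exact C.perm_val hx d) ?_ C.hrep
    (fun d hd h0 => (C.points_ok d hd).2.2 h0) (C.facts_ok _ _ ?_ ?_ ?_ ?_)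
  · intro h hh
    suffices hle : C.sub ≤ (MulAction.stabilizer (Equiv.Perm (Fin C.T.n)) (⟨0, C.hn⟩ : Fin C.T.n)).comap (C.hom hlt) from
      hle hh
    rw [sub, Subgroup.closure_le]
    rintro _ ⟨w, hw, rfl⟩
    rw [SetLike.mem_coe, Subgroup.mem_comap, MulAction.mem_stabilizer_iff, C.hom_word hlt hid w (hhw w hw)]
    refine Fin.ext ?_
    show ((w.map C.perm).prod ⟨0, C.hn⟩ : ℕ) = 0
    have hw' : ∀ x ∈ w, x < C.D.k := fun x hx => by rw [C.hk]; exact hhw w hw x hx
    have hb := List.all_eq_true.mp C.base_ok w hw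
    rw [runT_eq] at hb
    have h0 := C.act_run_cancel w hw' 0 C.hn
    rw [Nat.eq_of_beq_eq_true hb] at h0
    rw [C.word_smul w hw']
    exact h0
  · intro x v
    rw [smul_smul, P.σ_sq, one_smul]
  · intro v
    show P.σ C.D.k • v = v
    rw [hσk, one_smul]
  · intro w hw
    have h := List.all_eq_true.mp C.words_ok w
    have hok : w < C.D.nw → (wordOf (C.D.words.get w)).map P.σ =
        (C.hw.getD (C.rots.getD w (0, 0)).1 []).map P.σ := fun hw' => by
      have h' := h (List.mem_range.mpr hw')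
      rw [if_pos hw, beq_iff_eq] at h'
      rw [h']
    rw [run_smul, prod_reverse_inv P.σ P.σ_sq, MulAction.Quotient.smul_coe, smul_eq_mul, mul_one]
    refine (QuotientGroup.eq).mpr ?_
    rw [inv_inv, mul_one]
    by_cases hw' : w < C.D.nw
    · rw [hok hw']
      set r := (C.rots.getD w (0, 0)).1
      by_cases hr : r < C.hw.length
      · rw [List.getD_eq_getElem _ _ hr]
        exact Subgroup.subset_closure ⟨_, List.getElem_mem hr, rfl⟩
      · rw [List.getD_eq_default _ _ (not_lt.mp hr)]
        exact one_mem _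
    · exact absurd hw' (not_not.mpr (lt_of_lt_of_le hw C.nh_le))
  · intro w hw hw' v
    have h := List.all_eq_true.mp C.words_ok w (List.mem_range.mpr hw')
    rw [if_neg (not_lt.mpr hw), beq_iff_eq] at h
    rw [run_smul, prod_reverse_inv P.σ P.σ_sq, h, List.map_rotate]
    set r := (C.rots.getD w (0, 0)).1
    have h1 : ((P.rels.getD r []).map P.σ).prod = 1 := by
      by_cases hr : r < P.rels.length
      · rw [List.getD_eq_getElem _ _ hr]; exact P.rels_one (List.getElem_mem hr)
      · rw [List.getD_eq_default _ _ (not_lt.mp hr)]; rfl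
    rw [prod_rotate_eq_one _ _ h1, inv_one, one_smul]

end Cert

end CfsgLib.CosetEnum
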