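/-
The presentation of Fi22 with numbered generators.
-/
import Cfsg.Agent.Lib.CosetEnum.Cox
import Cfsg.Prelude.Def_Spor_Fi22

set_option autoImplicit false

namespace CfsgLib.CosetEnum

open Cfsg.Spor

/-- The number of a generator. -/
def idxFi22 : Fi22.Gen → ℕ
  | .a => 0
  | .b => 1
  | .c => 2
  | .d => 3
  | .e => 4
  | .f => 5
  | .g => 6
  | .h => 7
  | .i => 8

/-- The further relators of Fi22 as words. -/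
def extraWFi22 : List (List ℕ) := [[3, 2, 1, 3, 4, 5, 3, 7, 8, 3, 2, 1, 3, 4, 5, 3, 7, 8, 3, 2, 1, 3, 4, 5, 3, 7, 8, 3, 2, 1, 3, 4, 5, 3, 7, 8, 3, 2, 1, 3, 4, 5, 3, 7, 8, 3, 2, 1, 3, 4, 5, 3, 7, 8, 3, 2, 1, 3, 4, 5, 3, 7, 8, 3, 2, 1, 3, 4, 5, 3, 7, 8, 3, 2, 1, 3, 4, 5, 3, 7, 8, 3, 2, 1, 3, 4, 5, 3, 7, 8], [0, 1, 2, 3, 4, 5, 7, 0, 1, 2, 3, 4, 5, 7, 0, 1, 2, 3, 4, 5, 7, 0, 1, 2, 3, 4, 5, 7, 0, 1, 2, 3, 4, 5, 7, 0, 1, 2, 3, 4, 5, 7, 0, 1, 2, 3, 4, 5, 7, 0, 1, 2, 3, 4, 5, 7, 0, 1, 2, 3, 4, 5, 7], [1, 2, 3, 4, 5, 6, 7, 1, 2, 3, 4, 5, 6, 7, 1, 2, 3, 4, 5, 6, 7, 1, 2, 3, 4, 5, 6, 7, 1, 2, 3, 4, 5, 6, 7, 1, 2, 3, 4, 5, 6, 7, 1, 2, 3, 4, 5, 6, 7, 1, 2, 3, 4, 5, 6, 7, 1, 2, 3, 4, 5, 6, 7]]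

/-- The numbered presentation of Fi22. -/
abbrev presFi22 : Pres where
  α := Fi22.Gen
  dec := inferInstance
  edges := Fi22.edges
  extra := Fi22.extra
  k := 9
  gen := fun i => ([.a, .b, .c, .d, .e, .f, .g, .h, .i] : List Fi22.Gen).getD i .a
  idx := idxFi22
  extraW := extraWFi22
  idx_spec a := by cases a <;> exact ⟨by decide, rfl⟩
  node a := by cases a <;> decide
  symm a b := by cases a <;> cases b <;> decide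
  extra_spec M _ τ h := by
    have hi : ∀ x, (τ x)⁻¹ = τ x := fun x => inv_eq_of_mul_eq_one_right (h x)
    simp [Fi22.extra, extraWFi22, idxFi22, pow_succ, mul_assoc, hi]

end CfsgLib.CosetEnum
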