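/-
Orbits of the subgroup on the cosets of a certified coset enumeration.
-/
import Cfsg.Agent.Lib.CosetEnum.Cox

set_option autoImplicit false

namespace CfsgLib.CosetEnum

/-- The packed orbit data of a point: label, generator, parent and rank. -/
noncomputable def orbE (O : Tree) (d : ℕ) : ℕ := entry O (nat_lit 32) (nat_lit 48) d

/-- The label of the orbit of a point. -/
noncomputable def orbLab (O : Tree) (d : ℕ) : ℕ := fld (orbE O d) (nat_lit 0) (nat_lit 4)

/-- The rank of a point in its orbit. -/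
noncomputable def orbRank (O : Tree) (d : ℕ) : ℕ := fld (orbE O d) (nat_lit 28) (nat_lit 20)

/-- The orbit checks at one point. -/
noncomputable def okOrb (T : Table) (k : ℕ) (gens : List (List ℕ)) (O : Tree) (roots : List ℕ) (d : ℕ) : Bool :=
  force (orbE O d) fun e => force (fld e (nat_lit 0) (nat_lit 4)) fun l =>
    List.rec (motive := fun _ => Bool) true
      (fun w _ acc => Nat.beq (orbLab O (runT T k w d)) l && acc) gens &&
    (Bool.rec
      (force (fld e (nat_lit 4) (nat_lit 4)) fun g => force (fld e (nat_lit 8) (nat_lit 20)) fun p =>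
        Nat.blt g gens.length && Nat.blt p T.n && Nat.blt (orbRank O p) (fld e (nat_lit 28) (nat_lit 20)) &&
          Nat.beq (runT T k (gens.getD g []) p) d)
      true (Nat.beq d (roots.getD l (nat_lit 0))))

/-- The orbit checks at the points `lo, …, lo + m - 1`. -/
noncomputable def okOrbs (T : Table) (k : ℕ) (gens : List (List ℕ)) (O : Tree) (roots : List ℕ) (lo m : ℕ) : Bool :=
  allN m fun i => force (Nat.add lo i) fun d => okOrb T k gens O roots d

/-- The number of points with a given label. -/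
noncomputable def countLab (O : Tree) (l : ℕ) (m : ℕ) : ℕ :=
  Nat.rec (nat_lit 0) (fun d acc => force acc fun a => Bool.rec a (Nat.succ a) (Nat.beq (orbLab O d) l)) m

theorem countLab_eq (O : Tree) (l : ℕ) : ∀ m,
    countLab O l m = ((Finset.range m).filter fun d => orbLab O d = l).card := by
  intro m
  induction m with
  | zero => rfl
  | succ m ih =>
    have e : countLab O l (m + 1) = force (countLab O l m) (fun a =>
        Bool.rec (motive := fun _ => ℕ) a (Nat.succ a) (Nat.beq (orbLab O m) l)) := rfl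
    rw [e, force_eq, ih, Finset.range_add_one, Finset.filter_insert]
    cases hb : Nat.beq (orbLab O m) l with
    | true =>
      rw [if_pos (Nat.eq_of_beq_eq_true hb), Finset.card_insert_of_notMem (by simp)]
    | false =>
      have : orbLab O m ≠ l := fun e => by rw [e, show Nat.beq l l = true from Nat.beq_refl l] at hb; simp at hb
      rw [if_neg this]

theorem okOrbs_sound {T : Table} {k : ℕ} {gens : List (List ℕ)} {O : Tree} {roots : List ℕ} {lo m : ℕ}
    (h : okOrbs T k gens O roots lo m = true) :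
    (∀ d < lo, okOrb T k gens O roots d = true) → ∀ d < lo + m, okOrb T k gens O roots d = true := by
  intro hlo d hd
  by_cases hd' : d < lo
  · exact hlo d hd'
  · have := allN_spec (f := fun i => force (Nat.add lo i) fun d => okOrb T k gens O roots d) h (d - lo) (by omega)
    rwa [force_eq, show Nat.add lo (d - lo) = d by show lo + (d - lo) = d; omega] at this

theorem okOrb_lab {T : Table} {k : ℕ} {gens : List (List ℕ)} {O : Tree} {roots : List ℕ} {d : ℕ}
    (h : okOrb T k gens O roots d = true) :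
    (∀ w ∈ gens, orbLab O (runT T k w d) = orbLab O d) ∧
      (d ≠ roots.getD (orbLab O d) 0 →
        ∃ w ∈ gens, ∃ p < T.n, orbRank O p < orbRank O d ∧ runT T k w p = d) := by
  simp only [okOrb, force_eq, Bool.and_eq_true] at h
  refine ⟨fun w hw => ?_, fun hd => ?_⟩
  · have h1 := h.1
    clear h
    induction gens with
    | nil => simp at hw
    | cons v gens ih =>
      simp only [Bool.and_eq_true] at h1
      rcases List.mem_cons.mp hw with rfl | hw
      · exact Nat.eq_of_beq_eq_true h1.1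
      · exact ih hw h1.2
  · have hb : Nat.beq d (roots.getD (fld (orbE O d) 0 4) 0) = false := by
      cases hb : Nat.beq d (roots.getD (fld (orbE O d) 0 4) 0)
      · rfl
      · exact absurd (Nat.eq_of_beq_eq_true hb) hd
    have h2 := h.2
    rw [hb] at h2
    simp only [Bool.and_eq_true, blt_iff] at h2
    obtain ⟨⟨⟨hg, hp⟩, hr⟩, he⟩ := h2
    exact ⟨gens.getD (fld (orbE O d) 4 4) [], by rw [List.getD_eq_getElem _ _ hg]; exact List.getElem_mem hg,
      _, hp, hr, Nat.eq_of_beq_eq_true he⟩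

namespace Cert

variable {P : Pres} (C : Cert P)

theorem hom_word_run (hlt : ∀ w ∈ P.rels, ∀ x ∈ w, x < P.k) (hid : ∀ i < P.k, P.idx (P.gen i) = i)
    (hhw : ∀ w ∈ C.hw, ∀ x ∈ w, x < P.k) {w : List ℕ} (hw : w ∈ C.hw) (d : Fin C.T.n) :
    (C.hom hlt (w.map P.σ).prod d : ℕ) = runT C.T C.D.k w.reverse d := by
  rw [C.hom_word hlt hid w (hhw w hw), C.word_smul w (fun x hx => by rw [C.hk]; exact hhw w hw x hx), runT_eq]

theorem lab_invariant (hlt : ∀ w ∈ P.rels, ∀ x ∈ w, x < P.k) (hid : ∀ i < P.k, P.idx (P.gen i) = i)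
    (hhw : ∀ w ∈ C.hw, ∀ x ∈ w, x < P.k)
    (O : Tree) (roots : List ℕ) (gens : List (List ℕ)) (hgens : gens = C.hw.map List.reverse)
    (hok : ∀ d < C.T.n, okOrb C.T C.D.k gens O roots d = true) :
    ∀ h ∈ C.sub, ∀ d : Fin C.T.n, orbLab O (C.hom hlt h d : ℕ) = orbLab O (d : ℕ) := by
  intro h hh
  induction hh using Subgroup.closure_induction with
  | mem g hg =>
    obtain ⟨w, hw, rfl⟩ := hg
    intro d
    rw [C.hom_word_run hlt hid hhw hw]
    exact (okOrb_lab (hok d d.2)).1 _ (by rw [hgens]; exact List.mem_map_of_mem hw)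
  | one => intro d; rw [map_one, Equiv.Perm.one_apply]
  | mul g g' _ _ hg hg' => intro d; rw [map_mul, Equiv.Perm.mul_apply, hg, hg']
  | inv g _ hg =>
    intro d
    have := hg (C.hom hlt g⁻¹ d)
    rw [← Equiv.Perm.mul_apply, ← map_mul, mul_inv_cancel, map_one, Equiv.Perm.one_apply] at this
    exact this.symm

theorem orbit_ne (hlt : ∀ w ∈ P.rels, ∀ x ∈ w, x < P.k) (hid : ∀ i < P.k, P.idx (P.gen i) = i)
    (hhw : ∀ w ∈ C.hw, ∀ x ∈ w, x < P.k) (e : Fin C.T.n ≃ P.Grp ⧸ C.sub)
    (he : ∀ (g : P.Grp) (d : Fin C.T.n), e (C.hom hlt g d) = g • e d)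
    (O : Tree) (roots : List ℕ) (gens : List (List ℕ)) (hgens : gens = C.hw.map List.reverse)
    (hok : ∀ d < C.T.n, okOrb C.T C.D.k gens O roots d = true) {d d' : Fin C.T.n}
    (hne : orbLab O (d : ℕ) ≠ orbLab O (d' : ℕ)) :
    MulAction.orbit C.sub (e d) ≠ MulAction.orbit C.sub (e d') := by
  intro h
  obtain ⟨⟨g, hg⟩, hgd⟩ : e d' ∈ MulAction.orbit C.sub (e d) := h ▸ MulAction.mem_orbit_self _
  have h' : C.hom hlt g d = d' := e.injective ((he g d).trans hgd)
  exact hne (by rw [← h', C.lab_invariant hlt hid hhw O roots gens hgens hok g hg])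

theorem orbit_ncard (hlt : ∀ w ∈ P.rels, ∀ x ∈ w, x < P.k) (hid : ∀ i < P.k, P.idx (P.gen i) = i)
    (hhw : ∀ w ∈ C.hw, ∀ x ∈ w, x < P.k) (e : Fin C.T.n ≃ P.Grp ⧸ C.sub)
    (he : ∀ (g : P.Grp) (d : Fin C.T.n), e (C.hom hlt g d) = g • e d)
    (O : Tree) (roots : List ℕ) (gens : List (List ℕ)) (hgens : gens = C.hw.map List.reverse)
    (hok : ∀ d < C.T.n, okOrb C.T C.D.k gens O roots d = true)
    {l : ℕ} (hr : roots.getD l 0 < C.T.n) (hl : orbLab O (roots.getD l 0) = l) :
    (MulAction.orbit C.sub (e ⟨roots.getD l 0, hr⟩)).ncard = countLab O l C.T.n := by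
  have hstep := fun w (hw : w ∈ C.hw) d => C.hom_word_run hlt hid hhw hw d
  have hinv := C.lab_invariant hlt hid hhw O roots gens hgens hok
  rw [CosetEnum.orbit_ncard e (C.hom hlt) he ⟨_, hr⟩ {d | orbLab O (d : ℕ) = l} fun d => ⟨fun hd => ?_, ?_⟩,
    countLab_eq]
  · rw [← Set.ncard_coe_finset]
    refine Set.ncard_congr (fun d _ => (d : ℕ)) (fun d hd => ?_) (fun a b _ _ h => Fin.ext h) fun d hd => ?_
    · simp only [Finset.coe_filter, Finset.mem_range, Set.mem_setOf_eq]
      exact ⟨d.2, hd⟩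
    · simp only [Finset.coe_filter, Finset.mem_range, Set.mem_setOf_eq] at hd
      exact ⟨⟨d, hd.1⟩, hd.2, rfl⟩
  · have main : ∀ r, ∀ d : Fin C.T.n, orbRank O (d : ℕ) = r → orbLab O (d : ℕ) = l →
        ∃ h ∈ C.sub, C.hom hlt h ⟨_, hr⟩ = d := by
      intro r
      induction r using Nat.strong_induction_on with
      | _ r ih =>
        intro d hd hdl
        by_cases h0 : (d : ℕ) = roots.getD l 0
        · exact ⟨1, one_mem _, by rw [map_one, Equiv.Perm.one_apply]; exact Fin.ext h0.symm⟩
        obtain ⟨w, hw, p, hp, hlt', he'⟩ := (okOrb_lab (hok d d.2)).2 (by rw [hdl]; exact h0)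
        have hpl : orbLab O p = l := by
          rw [← (okOrb_lab (hok p hp)).1 w hw, he']
          exact hdl
        rw [hgens, List.mem_map] at hw
        obtain ⟨v, hv, rfl⟩ := hw
        obtain ⟨h, hh, hhp⟩ := ih _ (hd ▸ hlt') ⟨p, hp⟩ rfl hpl
        refine ⟨(v.map P.σ).prod * h, mul_mem (Subgroup.subset_closure ⟨v, hv, rfl⟩) hh, Fin.ext ?_⟩
        rw [map_mul, Equiv.Perm.mul_apply, hhp, hstep v hv]
        exact he'
    exact main _ d rfl hd
  · rintro ⟨h, hh, rfl⟩
    exact (hinv h hh _).trans hl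

end Cert

end CfsgLib.CosetEnum
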