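/-
Lower bounds for orders from a chain of stabilisers in a certified permutation representation.
-/
import Cfsg.Agent.Lib.CosetEnum.Orbit

set_option autoImplicit false

namespace CfsgLib.CosetEnum

/-- One level of a chain: the base point and generators fixing the earlier points, with the orbit. -/
structure Level where
  /-- the point -/
  b : ℕ
  /-- generators of the stabiliser of the earlier points -/
  gens : List (List ℕ)
  /-- the orbit, 48 bits for each position: point, position of the parent, generator -/
  pts : Tree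
  /-- the position of a point, 20 bits each -/
  pos : Tree
  /-- the length of the orbit -/
  m : ℕ

/-- The point at a position of an orbit. -/
noncomputable def Level.point (L : Level) (i : ℕ) : ℕ :=
  fld (entry L.pts (nat_lit 32) (nat_lit 48) i) (nat_lit 0) (nat_lit 20)

/-- The check of one position of an orbit. -/
noncomputable def Level.okPos (T : Table) (k : ℕ) (L : Level) (i : ℕ) : Bool :=
  force (entry L.pts (nat_lit 32) (nat_lit 48) i) fun e => force (fld e (nat_lit 0) (nat_lit 20)) fun p =>
    Nat.blt p T.n && Nat.beq (entry L.pos (nat_lit 64) (nat_lit 20) p) i &&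
    Bool.rec
      (force (fld e (nat_lit 20) (nat_lit 20)) fun j => force (fld e (nat_lit 40) (nat_lit 8)) fun g =>
        Nat.blt j i && Nat.blt g L.gens.length && Nat.beq (runT T k (L.gens.getD g []) (L.point j)) p)
      (Nat.beq p L.b) (Nat.beq i (nat_lit 0))

/-- The check of a level. -/
noncomputable def Level.ok (T : Table) (k : ℕ) (prev : List ℕ) (L : Level) : Bool :=
  (L.gens.all fun w => prev.all fun d => Nat.beq (runT T k w d) d) &&
    (L.gens.all fun w => w.all fun x => Nat.blt x k) && allN L.m fun i' => force i' (L.okPos T k)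

namespace Cert

variable {P : Pres} (C : Cert P) (hlt : ∀ w ∈ P.rels, ∀ x ∈ w, x < P.k)

/-- The pointwise stabiliser of some points. -/
noncomputable def fixSub (prev : List ℕ) : Subgroup P.Grp where
  carrier := {g | ∀ d : Fin C.T.n, (d : ℕ) ∈ prev → C.hom hlt g d = d}
  one_mem' d _ := by rw [map_one, Equiv.Perm.one_apply]
  mul_mem' {a b} ha hb d hd := by rw [map_mul, Equiv.Perm.mul_apply, hb d hd, ha d hd]
  inv_mem' {a} ha d hd := by
    conv_lhs => rw [← ha d hd]
    rw [← Equiv.Perm.mul_apply, ← map_mul, inv_mul_cancel, map_one, Equiv.Perm.one_apply]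

theorem mem_fixSub {prev : List ℕ} {g : P.Grp} :
    g ∈ C.fixSub hlt prev ↔ ∀ d : Fin C.T.n, (d : ℕ) ∈ prev → C.hom hlt g d = d := Iff.rfl

theorem hom_rev (hid : ∀ i < P.k, P.idx (P.gen i) = i) (w : List ℕ) (hw : ∀ x ∈ w, x < P.k) (d : Fin C.T.n) :
    (C.hom hlt (w.reverse.map P.σ).prod d : ℕ) = runT C.T C.D.k w d := by
  rw [C.hom_word hlt hid w.reverse (fun x hx => hw x (List.mem_reverse.mp hx)),
    C.word_smul w.reverse (fun x hx => by rw [C.hk]; exact hw x (List.mem_reverse.mp hx)), List.reverse_reverse, runT_eq]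

theorem level_step [Finite P.Grp] (hid : ∀ i < P.k, P.idx (P.gen i) = i) (prev : List ℕ) (L : Level)
    (hok : L.ok C.T C.D.k prev = true) (hb : L.b < C.T.n) {N : ℕ}
    (hN : N ≤ Nat.card (C.fixSub hlt (prev ++ [L.b]))) : L.m * N ≤ Nat.card (C.fixSub hlt prev) := by
  classical
  simp only [Level.ok, Bool.and_eq_true, List.all_eq_true] at hok
  obtain ⟨⟨hfix, hlet⟩, hpts⟩ := hok
  set S := C.fixSub hlt prev
  let act : MulAction S (Fin C.T.n) := MulAction.compHom (Fin C.T.n) ((C.hom hlt).comp S.subtype)
  set b : Fin C.T.n := ⟨L.b, hb⟩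
  have hgen : ∀ w ∈ L.gens, (w.reverse.map P.σ).prod ∈ S := fun w hw d hd => by
    refine Fin.ext ?_
    rw [C.hom_rev hlt hid w (fun x hx => by
      have := hlet w hw x hx
      rw [blt_iff, C.hk] at this
      exact this)]
    exact Nat.eq_of_beq_eq_true (hfix w hw d hd)
  have hpos : ∀ i < L.m, L.okPos C.T C.D.k i = true := fun i hi => by
    have := allN_spec (f := fun i' => force i' (L.okPos C.T C.D.k)) hpts i hi
    rwa [force_eq] at this
  have hreach : ∀ i, ∀ hi : i < L.m, ∃ p : MulAction.orbit S b, ((p : Fin C.T.n) : ℕ) = L.point i := by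
    intro i
    induction i using Nat.strong_induction_on with
    | _ i ih =>
      intro hi
      have h := hpos i hi
      simp only [Level.okPos, force_eq, Bool.and_eq_true] at h
      cases hb0 : Nat.beq i 0 with
      | true =>
        rw [hb0] at h
        exact ⟨⟨b, MulAction.mem_orbit_self b⟩, (Nat.eq_of_beq_eq_true h.2).symm⟩
      | false =>
        rw [hb0] at h
        simp only [Bool.and_eq_true, blt_iff] at h
        obtain ⟨⟨hj, hg⟩, he⟩ := h.2
        obtain ⟨⟨q, hq⟩, hqv⟩ := ih _ hj (hj.trans hi)
        obtain ⟨w, hw, hwe⟩ : ∃ w, w ∈ L.gens ∧ L.gens.getD (fld (entry L.pts 32 48 i) 40 8) [] = w :=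
          ⟨_, List.getD_eq_getElem _ _ hg ▸ List.getElem_mem hg, rfl⟩
        rw [hwe] at he
        refine ⟨⟨(⟨_, hgen w hw⟩ : S) • q, MulAction.mem_orbit_of_mem_orbit _ hq⟩, ?_⟩
        show (C.hom hlt (w.reverse.map P.σ).prod q : ℕ) = _
        rw [C.hom_rev hlt hid w (fun x hx => by
          have := hlet w hw x hx
          rw [blt_iff, C.hk] at this
          exact this), hqv]
        exact Nat.eq_of_beq_eq_true he
  choose f hf using hreach
  have hinj : Function.Injective fun i : Fin L.m => f i i.2 := by
    intro i j hij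
    have hij' : L.point i = L.point j := by
      rw [← hf i i.2, ← hf j j.2]
      exact congrArg (fun p : MulAction.orbit S b => ((p : Fin C.T.n) : ℕ)) hij
    have hi := hpos i i.2
    have hj := hpos j j.2
    simp only [Level.okPos, force_eq, Bool.and_eq_true] at hi hj
    have e1 : entry L.pos 64 20 (L.point i) = i := Nat.eq_of_beq_eq_true hi.1.2
    have e2 : entry L.pos 64 20 (L.point j) = j := Nat.eq_of_beq_eq_true hj.1.2
    rw [hij', e2] at e1
    exact Fin.ext e1.symm
  have hm : L.m ≤ Nat.card (MulAction.orbit S b) := by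
    simpa using Nat.card_le_card_of_injective _ hinj
  have hstab : (MulAction.stabilizer S b).map S.subtype = C.fixSub hlt (prev ++ [L.b]) := by
    ext g
    constructor
    · rintro ⟨⟨g, hg⟩, hgb, rfl⟩ d hd
      rcases List.mem_append.mp hd with hd | hd
      · exact hg d hd
      · have : d = b := Fin.ext (List.mem_singleton.mp hd)
        subst this
        exact hgb
    · intro hg
      exact ⟨⟨g, fun d hd => hg d (List.mem_append_left _ hd)⟩,
        hg b (List.mem_append_right _ (List.mem_singleton_self _)), rfl⟩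
  have hc := (MulAction.stabilizer S b).card_mul_index
  rw [MulAction.index_stabilizer, ← Nat.card_coe_set_eq] at hc
  rw [← hstab, Subgroup.card_map_of_injective S.subtype_injective] at hN
  rw [← hc, mul_comm (Nat.card _)]
  exact Nat.mul_le_mul hm hN

theorem card_le_of_fixSub [Finite P.Grp] {N : ℕ} (h : N ≤ Nat.card (C.fixSub hlt [])) :
    N ≤ Nat.card P.Grp :=
  h.trans (Nat.le_of_dvd Nat.card_pos (Subgroup.card_subgroup_dvd_card _))

theorem fixSub_one [Finite P.Grp] (prev : List ℕ) : 1 ≤ Nat.card (C.fixSub hlt prev) := Nat.card_pos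

theorem ker_le_fixSub [Finite P.Grp] (prev : List ℕ) :
    Nat.card (C.hom hlt).ker ≤ Nat.card (C.fixSub hlt prev) := by
  refine Nat.card_le_card_of_injective (Subgroup.inclusion ?_) (Subgroup.inclusion_injective _)
  intro g hg d _
  rw [MonoidHom.mem_ker.mp hg, Equiv.Perm.one_apply]

theorem hom_injective [Finite P.Grp] {N : ℕ} (hle : N * Nat.card (C.hom hlt).ker ≤ Nat.card P.Grp)
    (hge : Nat.card P.Grp ≤ N) : Function.Injective (C.hom hlt) := by
  rw [← MonoidHom.ker_eq_bot_iff, ← Subgroup.card_eq_one]
  have h1 : 0 < Nat.card (C.hom hlt).ker := Nat.card_pos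
  have hN : 0 < N := Nat.card_pos.trans_le hge
  have h2 : N * Nat.card (C.hom hlt).ker ≤ N * 1 := by rw [mul_one]; exact hle.trans hge
  exact le_antisymm (Nat.le_of_mul_le_mul_left h2 hN) h1

end Cert

end CfsgLib.CosetEnum
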