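/-
Upper bounds for orders from certified coset enumerations inside subgroups.
-/
import Cfsg.Agent.Lib.CosetEnum.Cox

set_option autoImplicit false

namespace CfsgLib.CosetEnum

/-- A certificate that `n` cosets cover a group given by generators and relators. -/
structure Sheet where
  /-- the certificate -/
  D : Data
  /-- the table -/
  T : Table
  /-- the relators -/
  rels : List (List ℕ)
  /-- the words generating the subgroup -/
  hw : List (List ℕ)
  /-- the origin of the words -/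
  rots : List (ℕ × ℕ)
  nh_le : D.nh ≤ D.nw
  hn : 0 < T.n
  hrep : T.repr 0 = 0
  words_ok : okWords D rels hw rots = true
  facts_ok : ∀ {Ω : Type} (base : Ω) (s : ℕ → Ω → Ω), (∀ x v, s x (s x v) = v) → (∀ v, s D.k v = v) →
    (∀ w < D.nh, run s (wordOf (D.words.get w)) base = base) →
    (∀ w, D.nh ≤ w → w < D.nw → ∀ v, run s (wordOf (D.words.get w)) v = v) →
    ∀ d < T.n, RowOK D T base s d

/-- The subgroup generated by some words. -/
abbrev wordsSub {M : Type} [Group M] (τ : ℕ → M) (W : List (List ℕ)) : Subgroup M :=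
  Subgroup.closure {g | ∃ w ∈ W, (w.map τ).prod = g}

namespace Sheet

variable (C : Sheet) {M : Type} [Group M] (τ : ℕ → M) (hτ : ∀ x, τ x * τ x = 1) (hτk : τ C.D.k = 1)
  (hrel : ∀ w ∈ C.rels, (w.map τ).prod = 1)

include hτ hτk hrel in
theorem rows_ok : ∀ d < C.T.n, RowOK C.D C.T ((1 : M) : M ⧸ wordsSub τ C.hw) (fun x u => τ x • u) d := by
  refine C.facts_ok _ _ (fun x v => ?_) (fun v => ?_) ?_ ?_
  · rw [smul_smul, hτ, one_smul]
  · show τ C.D.k • v = v
    rw [hτk, one_smul]
  · intro w hw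
    have h := List.all_eq_true.mp C.words_ok w (List.mem_range.mpr (lt_of_lt_of_le hw C.nh_le))
    rw [if_pos hw, beq_iff_eq] at h
    rw [run_smul, prod_reverse_inv τ hτ, MulAction.Quotient.smul_coe, smul_eq_mul, mul_one]
    refine (QuotientGroup.eq).mpr ?_
    rw [inv_inv, mul_one, h]
    set r := (C.rots.getD w (0, 0)).1
    by_cases hr : r < C.hw.length
    · rw [List.getD_eq_getElem _ _ hr]
      exact Subgroup.subset_closure ⟨_, List.getElem_mem hr, rfl⟩
    · rw [List.getD_eq_default _ _ (not_lt.mp hr)]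
      exact one_mem _
  · intro w hw hw' v
    have h := List.all_eq_true.mp C.words_ok w (List.mem_range.mpr hw')
    rw [if_neg (not_lt.mpr hw), beq_iff_eq] at h
    rw [run_smul, prod_reverse_inv τ hτ, h, List.map_rotate]
    set r := (C.rots.getD w (0, 0)).1
    have h1 : ((C.rels.getD r []).map τ).prod = 1 := by
      by_cases hr : r < C.rels.length
      · rw [List.getD_eq_getElem _ _ hr]; exact hrel _ (List.getElem_mem hr)
      · rw [List.getD_eq_default _ _ (not_lt.mp hr)]; rfl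
    rw [prod_rotate_eq_one _ _ h1, inv_one, one_smul]

include hτ hτk hrel in
theorem smul_mem {g : M} (hg : g ∈ Subgroup.closure (τ '' Set.Iio C.D.k)) :
    ∃ d : Fin C.T.n, g • ((1 : M) : M ⧸ wordsSub τ C.hw) =
      C.T.point C.D ((1 : M) : M ⧸ wordsSub τ C.hw) (fun x u => τ x • u) d := by
  set f : Fin C.T.n → M ⧸ wordsSub τ C.hw := fun d =>
    C.T.point C.D ((1 : M) : M ⧸ wordsSub τ C.hw) (fun x u => τ x • u) d with hf
  have h0 : f ⟨0, C.hn⟩ = ((1 : M) : M ⧸ wordsSub τ C.hw) := by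
    show C.D.val _ _ (C.T.repr 0) = _
    rw [C.hrep, Data.val, if_pos rfl]
  have key : (∀ d, ∃ d', g • f d = f d') ∧ (∀ d, ∃ d', g⁻¹ • f d = f d') := by
    induction hg using Subgroup.closure_induction with
    | mem a ha =>
      obtain ⟨x, hx, rfl⟩ := ha
      have h : ∀ d, ∃ d', τ x • f d = f d' := fun d =>
        ⟨⟨_, (C.rows_ok τ hτ hτk hrel d d.2 x hx).1⟩, (C.rows_ok τ hτ hτk hrel d d.2 x hx).2⟩
      exact ⟨h, by rw [inv_eq_of_mul_eq_one_right (hτ x)]; exact h⟩
    | one => exact ⟨fun d => ⟨d, one_smul _ _⟩, fun d => ⟨d, by rw [inv_one, one_smul]⟩⟩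
    | mul a b _ _ ha hb =>
      refine ⟨fun d => ?_, fun d => ?_⟩
      · obtain ⟨d₁, h₁⟩ := hb.1 d
        obtain ⟨d₂, h₂⟩ := ha.1 d₁
        exact ⟨d₂, by rw [mul_smul, h₁, h₂]⟩
      · obtain ⟨d₁, h₁⟩ := ha.2 d
        obtain ⟨d₂, h₂⟩ := hb.2 d₁
        exact ⟨d₂, by rw [mul_inv_rev, mul_smul, h₁, h₂]⟩
    | inv a _ ha => exact ⟨ha.2, by rw [inv_inv]; exact ha.1⟩
  obtain ⟨d, hd⟩ := key.1 ⟨0, C.hn⟩
  rw [h0] at hd
  exact ⟨d, hd⟩

include hτ hτk hrel in
/-- The order of the group of the generators is at most `n` times the order of the subgroup of the words. -/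
theorem card_le (hle : wordsSub τ C.hw ≤ Subgroup.closure (τ '' Set.Iio C.D.k)) {N : ℕ}
    (hT : Finite (wordsSub τ C.hw) ∧ Nat.card (wordsSub τ C.hw) ≤ N) :
    Finite (Subgroup.closure (τ '' Set.Iio C.D.k)) ∧
      Nat.card (Subgroup.closure (τ '' Set.Iio C.D.k)) ≤ C.T.n * N := by
  set S := Subgroup.closure (τ '' Set.Iio C.D.k)
  set W := wordsSub τ C.hw
  have := hT.1
  choose f hf using fun q : S ⧸ W.subgroupOf S => C.smul_mem τ hτ hτk hrel q.out.2
  have hinj : Function.Injective f := by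
    intro p q h
    have e : ((p.out : S) : M) • ((1 : M) : M ⧸ W) = ((q.out : S) : M) • ((1 : M) : M ⧸ W) := by
      rw [hf p, hf q, h]
    rw [MulAction.Quotient.smul_coe, MulAction.Quotient.smul_coe, smul_eq_mul, smul_eq_mul, mul_one, mul_one,
      QuotientGroup.eq] at e
    rw [← QuotientGroup.out_eq' p, ← QuotientGroup.out_eq' q, QuotientGroup.eq, Subgroup.mem_subgroupOf]
    exact e
  have : Finite (S ⧸ W.subgroupOf S) := Finite.of_injective f hinj
  have hq : Nat.card (S ⧸ W.subgroupOf S) ≤ C.T.n := by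
    simpa using Nat.card_le_card_of_injective f hinj
  have : Finite (W.subgroupOf S) := Finite.of_equiv W (Subgroup.subgroupOfEquivOfLe hle).symm.toEquiv
  have hc : Nat.card (W.subgroupOf S) = Nat.card W := Nat.card_congr (Subgroup.subgroupOfEquivOfLe hle).toEquiv
  have hS := Subgroup.card_eq_card_quotient_mul_card_subgroup (W.subgroupOf S)
  refine ⟨Nat.finite_of_card_ne_zero ?_, ?_⟩
  · rw [hS]; exact (Nat.mul_pos Nat.card_pos Nat.card_pos).ne'
  · rw [hS, hc]; exact Nat.mul_le_mul hq hT.2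

include hτ hτk hrel in
theorem run_point : ∀ (w : List ℕ), (∀ x ∈ w, x < C.D.k) → ∀ d < C.T.n,
    run (fun x u => τ x • u) w (C.T.point C.D ((1 : M) : M ⧸ wordsSub τ C.hw) (fun x u => τ x • u) d) =
      C.T.point C.D ((1 : M) : M ⧸ wordsSub τ C.hw) (fun x u => τ x • u) (runT C.T C.D.k w d) := by
  intro w
  induction w with
  | nil => intro _ d _; rfl
  | cons x w ih =>
    intro h d hd
    have hx := C.rows_ok τ hτ hτk hrel d hd x (h x List.mem_cons_self)
    show run (fun x u => τ x • u) w (τ x • _) = C.T.point C.D _ _ (force (C.T.act C.D.k d x) (runT C.T C.D.k w))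
    rw [force_eq, show τ x • C.T.point C.D ((1 : M) : M ⧸ wordsSub τ C.hw) (fun x u => τ x • u) d = _ from hx.2]
    exact ih (fun y hy => h y (List.mem_cons_of_mem _ hy)) _ hx.1

include hτ hτk hrel in
/-- A word fixing the first coset lies in the subgroup of the words. -/
theorem mem_of_run (w : List ℕ) (hw : (w.all fun x => Nat.blt x C.D.k) = true) (h : runT C.T C.D.k w 0 = 0) :
    (w.map τ).prod ∈ wordsSub τ C.hw := by
  have h1 := C.run_point τ hτ hτk hrel w (fun x hx => blt_iff.mp (List.all_eq_true.mp hw x hx)) 0 C.hn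
  rw [h, show C.T.point C.D ((1 : M) : M ⧸ wordsSub τ C.hw) (fun x u => τ x • u) 0 =
      C.D.val ((1 : M) : M ⧸ wordsSub τ C.hw) (fun x u => τ x • u) (C.T.repr 0) from rfl, C.hrep, Data.val,
    if_pos rfl, run_smul, prod_reverse_inv τ hτ, MulAction.Quotient.smul_coe, smul_eq_mul, mul_one,
    QuotientGroup.eq, inv_inv, mul_one] at h1
  exact h1

end Sheet

theorem wordsSub_nil {M : Type} [Group M] (τ : ℕ → M) :
    Finite (wordsSub τ []) ∧ Nat.card (wordsSub τ []) ≤ 1 := by
  have h : wordsSub τ [] = ⊥ := by simp [wordsSub]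
  rw [h]
  exact ⟨inferInstance, le_of_eq Subgroup.card_bot⟩

namespace Pres

variable (P : Pres)

theorem closure_eq_wordsSub (sel : List ℕ) :
    Subgroup.closure ((fun x => P.σ (sel.getD x P.k)) '' Set.Iio sel.length) =
      wordsSub P.σ (sel.map fun i => [i]) := by
  congr 1
  ext g
  constructor
  · rintro ⟨x, hx, rfl⟩
    refine ⟨[sel.getD x P.k], List.mem_map.mpr ⟨_, ?_, rfl⟩, by simp⟩
    rw [List.getD_eq_getElem _ _ hx]
    exact List.getElem_mem hx
  · rintro ⟨w, hw, rfl⟩
    obtain ⟨i, hi, rfl⟩ := List.mem_map.mp hw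
    obtain ⟨x, hx, rfl⟩ := List.mem_iff_getElem.mp hi
    exact ⟨x, hx, by simp [hx]⟩

theorem der_nil : ∀ w ∈ ([] : List (List ℕ)), (w.map P.σ).prod = 1 := fun _ h => absurd h List.not_mem_nil

/-- A step of a chain of subgroups generated by some of the generators. -/
theorem card_step (C : Sheet) (sel : List ℕ) (hk : C.D.k = sel.length) (der : List (List ℕ))
    (hder : ∀ w ∈ der, (w.map P.σ).prod = 1)
    (hrels : (C.rels.all fun w => (P.rels ++ der).contains (w.map fun x => sel.getD x P.k)) = true)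
    (hlet : (C.hw.all fun w => w.all fun x => decide (x < sel.length)) = true) {N : ℕ}
    (hT : Finite (wordsSub P.σ (C.hw.map fun w => w.map fun x => sel.getD x P.k)) ∧
      Nat.card (wordsSub P.σ (C.hw.map fun w => w.map fun x => sel.getD x P.k)) ≤ N) :
    Finite (wordsSub P.σ (sel.map fun i => [i])) ∧
      Nat.card (wordsSub P.σ (sel.map fun i => [i])) ≤ C.T.n * N := by
  have e : wordsSub P.σ (C.hw.map fun w => w.map fun x => sel.getD x P.k) =
      wordsSub (fun x => P.σ (sel.getD x P.k)) C.hw := by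
    show Subgroup.closure _ = Subgroup.closure _
    congr 1
    ext g
    simp [List.map_map, Function.comp_def]
  rw [e] at hT
  rw [← closure_eq_wordsSub, ← hk]
  refine C.card_le _ (fun x => P.σ_sq _) ?_ ?_ ?_ hT
  · rw [hk, List.getD_eq_default _ _ le_rfl, σ, if_neg (lt_irrefl _)]
  · intro w hw
    have h : ((w.map fun x => sel.getD x P.k).map P.σ).prod = 1 := by
      rcases List.mem_append.mp (List.contains_iff_mem.mp (List.all_eq_true.mp hrels w hw)) with h | h
      · exact P.rels_one h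
      · exact hder _ h
    rwa [List.map_map] at h
  · rw [wordsSub, Subgroup.closure_le]
    rintro _ ⟨w, hw, rfl⟩
    refine Submonoid.list_prod_mem _ fun a ha => ?_
    obtain ⟨x, hx, rfl⟩ := List.mem_map.mp ha
    exact Subgroup.subset_closure ⟨x, by
      rw [Set.mem_Iio, hk]
      exact of_decide_eq_true (List.all_eq_true.mp (List.all_eq_true.mp hlet w hw) x hx), rfl⟩

end Pres

/-- The first step of a chain. -/
theorem Cert.card_top {P : Pres} (C : Cert P) (hlt : ∀ w ∈ P.rels, ∀ x ∈ w, x < P.k)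
    (hid : ∀ i < P.k, P.idx (P.gen i) = i) (hhw : ∀ w ∈ C.hw, ∀ x ∈ w, x < P.k) {N : ℕ}
    (hT : Finite (wordsSub P.σ C.hw) ∧ Nat.card (wordsSub P.σ C.hw) ≤ N) :
    Finite P.Grp ∧ Nat.card P.Grp ≤ C.T.n * N := by
  obtain ⟨e, -⟩ := C.exists_equiv hlt hid hhw
  have : Finite C.sub := hT.1
  have h := C.sub.card_mul_index
  rw [index_eq_of_equiv e] at h
  refine ⟨Nat.finite_of_card_ne_zero ?_, ?_⟩
  · rw [← h]; exact (Nat.mul_pos Nat.card_pos C.hn).ne'
  · rw [← h, mul_comm]; exact Nat.mul_le_mul_left _ hT.2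

end CfsgLib.CosetEnum
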