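/-
A class of 3-transpositions read from a certified permutation representation: the point stabiliser is
the centraliser of an involution.
-/
import Cfsg.Agent.Lib.CosetEnum.Simple
import Cfsg.Prelude.Def_SporadicB

set_option autoImplicit false

namespace CfsgLib.CosetEnum

open Cfsg

/-- The image of a point under the conjugate of an involution `zf` by the word `g`. -/
noncomputable def conjMap (T : Table) (k : ℕ) (zf : ℕ → ℕ) (g : List ℕ) (d : ℕ) : ℕ :=
  force (runT T k g d) fun p => force (zf p) fun q => runT T k g.reverse q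

/-- The image of a point under the product of `zf` and its conjugate by `g`. -/
noncomputable def pairMap (T : Table) (k : ℕ) (zf : ℕ → ℕ) (g : List ℕ) (d : ℕ) : ℕ :=
  force (conjMap T k zf g d) zf

/-- The checks at one point: `zf` is an involution commuting with the words `gens`, and the products
with the conjugates by the words in `pairs` have the given exponents. -/
noncomputable def okClassPoint (T : Table) (k : ℕ) (zf : ℕ → ℕ) (gens : List (List ℕ))
    (pairs : List (List ℕ × ℕ)) (d : ℕ) : Bool :=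
  force (zf d) fun e => Nat.beq (zf e) d &&
    (gens.all fun w => force (runT T k w d) fun a => Nat.beq (zf a) (runT T k w e)) &&
    (pairs.all fun p => Nat.beq (Nat.rec d (fun _ a => force a (pairMap T k zf p.1)) p.2) d)

/-- The checks at the points `lo, …, lo + m - 1`. -/
noncomputable def okClass (T : Table) (k : ℕ) (zf : ℕ → ℕ) (gens : List (List ℕ))
    (pairs : List (List ℕ × ℕ)) (lo m : ℕ) : Bool :=
  allN m fun i => force (Nat.add lo i) fun d => okClassPoint T k zf gens pairs d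

theorem okClass_sound {T : Table} {k : ℕ} {zf : ℕ → ℕ} {gens : List (List ℕ)} {pairs : List (List ℕ × ℕ)}
    {lo m : ℕ} (h : okClass T k zf gens pairs lo m = true) :
    (∀ d < lo, okClassPoint T k zf gens pairs d = true) → ∀ d < lo + m, okClassPoint T k zf gens pairs d = true := by
  intro hlo d hd
  by_cases hd' : d < lo
  · exact hlo d hd'
  · have := allN_spec (f := fun i => force (Nat.add lo i) fun d => okClassPoint T k zf gens pairs d) h (d - lo) (by omega)
    rwa [force_eq, show Nat.add lo (d - lo) = d by show lo + (d - lo) = d; omega] at this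

namespace Cert

variable {P : Pres} (C : Cert P) (hlt : ∀ w ∈ P.rels, ∀ x ∈ w, x < P.k) (hid : ∀ i < P.k, P.idx (P.gen i) = i)

include hid in
theorem hom_inv_word (w : List ℕ) (hw : ∀ x ∈ w, x < P.k) (d : Fin C.T.n) :
    (C.hom hlt ((w.map P.σ).prod)⁻¹ d : ℕ) = runT C.T C.D.k w d := by
  rw [← prod_reverse_inv P.σ P.σ_sq, C.hom_rev hlt hid w hw]

include hid in
theorem hom_word_run' (w : List ℕ) (hw : ∀ x ∈ w, x < P.k) (d : Fin C.T.n) :
    (C.hom hlt (w.map P.σ).prod d : ℕ) = runT C.T C.D.k w.reverse d := by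
  have := C.hom_rev hlt hid w.reverse (fun x hx => hw x (List.mem_reverse.mp hx)) d
  rwa [List.reverse_reverse] at this

include hid in
theorem sub_fix (hhw : ∀ w ∈ C.hw, ∀ x ∈ w, x < P.k) {h : P.Grp} (hh : h ∈ C.sub) :
    C.hom hlt h ⟨0, C.hn⟩ = ⟨0, C.hn⟩ := by
  suffices hle : C.sub ≤ (MulAction.stabilizer (Equiv.Perm (Fin C.T.n)) (⟨0, C.hn⟩ : Fin C.T.n)).comap (C.hom hlt) from
    hle hh
  rw [Cert.sub, Subgroup.closure_le]
  rintro _ ⟨w, hw, rfl⟩
  rw [SetLike.mem_coe, Subgroup.mem_comap, MulAction.mem_stabilizer_iff]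
  refine Fin.ext ?_
  show (C.hom hlt (w.map P.σ).prod ⟨0, C.hn⟩ : ℕ) = 0
  have hw' : ∀ x ∈ w, x < C.D.k := fun x hx => by rw [C.hk]; exact hhw w hw x hx
  rw [C.hom_word hlt hid w (hhw w hw), C.word_smul w hw']
  have hb := List.all_eq_true.mp C.base_ok w hw
  rw [runT_eq] at hb
  have h0 := C.act_run_cancel w hw' 0 C.hn
  rw [Nat.eq_of_beq_eq_true hb] at h0
  exact h0

include hid in
theorem mem_sub_of_fix [Finite P.Grp] (hhw : ∀ w ∈ C.hw, ∀ x ∈ w, x < P.k) {g : P.Grp}
    (hg : C.hom hlt g ⟨0, C.hn⟩ = ⟨0, C.hn⟩) : g ∈ C.sub := by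
  obtain ⟨e, -⟩ := C.exists_equiv hlt hid hhw
  let act : MulAction P.Grp (Fin C.T.n) := MulAction.compHom (Fin C.T.n) (C.hom hlt)
  set S := MulAction.stabilizer P.Grp (⟨0, C.hn⟩ : Fin C.T.n)
  have hle : C.sub ≤ S := fun h hh => C.sub_fix hlt hid hhw hh
  have : MulAction.IsPretransitive P.Grp (Fin C.T.n) := by
    refine ⟨fun a b => ?_⟩
    obtain ⟨x, hx⟩ := C.exists_hom_zero hlt hid a
    obtain ⟨y, hy⟩ := C.exists_hom_zero hlt hid b
    refine ⟨y * x⁻¹, ?_⟩
    show C.hom hlt (y * x⁻¹) a = b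
    rw [← hx, ← Equiv.Perm.mul_apply, ← map_mul, inv_mul_cancel_right, hy]
  have h1 : S.index = C.T.n := by
    rw [MulAction.index_stabilizer_of_transitive, Nat.card_eq_fintype_card, Fintype.card_fin]
  have h2 : C.sub.index = C.T.n := index_eq_of_equiv e
  have e1 := S.card_mul_index
  have e2 := C.sub.card_mul_index
  rw [h1] at e1
  rw [h2] at e2
  rw [Subgroup.eq_of_le_of_card_ge hle (Nat.eq_of_mul_eq_mul_right C.hn (e1.trans e2.symm)).le]
  exact hg

include hid in
/-- Every point is reached from a root by the subgroup. -/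
theorem exists_root (hhw : ∀ w ∈ C.hw, ∀ x ∈ w, x < P.k)
    (O : Tree) (roots : List ℕ) (gens : List (List ℕ)) (hgens : gens = C.hw.map List.reverse)
    (hok : ∀ d < C.T.n, okOrb C.T C.D.k gens O roots d = true) (d : Fin C.T.n) :
    ∃ h ∈ C.sub, ∃ p : Fin C.T.n, (p : ℕ) = roots.getD (orbLab O (d : ℕ)) 0 ∧ C.hom hlt h p = d := by
  induction hr : orbRank O (d : ℕ) using Nat.strong_induction_on generalizing d with
  | _ r ih =>
    by_cases h0 : (d : ℕ) = roots.getD (orbLab O (d : ℕ)) 0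
    · exact ⟨1, one_mem _, d, h0, by rw [map_one, Equiv.Perm.one_apply]⟩
    obtain ⟨w, hw, p, hp, hlt', he'⟩ := (okOrb_lab (hok d d.2)).2 h0
    obtain ⟨h, hh, p', hp', hhp⟩ := ih _ (hr ▸ hlt') ⟨p, hp⟩ rfl
    have hl : orbLab O p = orbLab O (d : ℕ) := by rw [← (okOrb_lab (hok p hp)).1 w hw, he']
    rw [hgens, List.mem_map] at hw
    obtain ⟨v, hv, rfl⟩ := hw
    refine ⟨(v.map P.σ).prod * h, mul_mem (Subgroup.subset_closure ⟨v, hv, rfl⟩) hh, p', hp'.trans (by rw [hl]), ?_⟩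
    rw [map_mul, Equiv.Perm.mul_apply, hhp]
    exact Fin.ext ((C.hom_word_run hlt hid hhw hv _).trans he')

include hid in
/-- The point stabiliser is the centraliser of `t`, and the conjugates of `t` are 3-transpositions. -/
theorem point_class [Finite P.Grp] [IsSimpleGroup P.Grp] (hinj : Function.Injective (C.hom hlt))
    (hhw : ∀ w ∈ C.hw, ∀ x ∈ w, x < P.k)
    (O : Tree) (roots : List ℕ) (gens : List (List ℕ)) (hgens : gens = C.hw.map List.reverse)
    (hok : ∀ d < C.T.n, okOrb C.T C.D.k gens O roots d = true)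
    (z : List ℕ) (hz : ∀ x ∈ z, x < P.k) (zf : ℕ → ℕ) (hzf : ∀ d < C.T.n, runT C.T C.D.k z.reverse d = zf d)
    (g : List ℕ) (g' : List ℕ) (q q' : ℕ) (hq : q = 2 ∨ q = 3) (hq' : q' = 2 ∨ q' = 3)
    (hg : ∀ x ∈ g, x < P.k) (hg' : ∀ x ∈ g', x < P.k)
    (hr0 : roots.getD 0 0 = 0) (hr : runT C.T C.D.k g.reverse 0 = roots.getD 1 0)
    (hr' : runT C.T C.D.k g'.reverse 0 = roots.getD 2 0) (hlab : okLab O 3 C.T.n = true)
    (hc : ∀ d < C.T.n, okClassPoint C.T C.D.k zf gens [(g, q), (g', q')] d = true)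
    (hne : ∃ d < C.T.n, conjMap C.T C.D.k zf g d ≠ zf d) (hne' : ∃ d < C.T.n, conjMap C.T C.D.k zf g' d ≠ zf d) :
    Subgroup.centralizer ({(z.map P.σ).prod} : Set P.Grp) = C.sub ∧
      IsThreeTranspositionClass (conjugatesOf (z.map P.σ).prod) ∧
      (conjugatesOf (z.map P.σ).prod).ncard = C.T.n := by
  classical
  set t := (z.map P.σ).prod with htdef
  have hchk := fun d (hd : d < C.T.n) => (hc d hd)
  simp only [okClassPoint, force_eq, Bool.and_eq_true, List.all_eq_true] at hchk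
  have hz' : ∀ d : Fin C.T.n, (C.hom hlt t d : ℕ) = zf d := fun d =>
    (C.hom_word_run' hlt hid z hz d).trans (hzf d d.2)
  have ext' : ∀ {x y : P.Grp}, (∀ d : Fin C.T.n, (C.hom hlt x d : ℕ) = C.hom hlt y d) → x = y :=
    fun h => hinj (Equiv.ext fun d => Fin.ext (h d))
  have tt : t * t = 1 := ext' fun d => by
    rw [map_mul, Equiv.Perm.mul_apply, map_one, Equiv.Perm.one_apply, hz', hz']
    exact Nat.eq_of_beq_eq_true (hchk d d.2).1.1
  have hcomm : C.sub ≤ Subgroup.centralizer ({t} : Set P.Grp) := by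
    rw [Cert.sub, Subgroup.closure_le]
    rintro _ ⟨w, hw, rfl⟩
    refine Subgroup.mem_centralizer_singleton_iff.mpr (ext' fun d => ?_)
    have h2 := Nat.eq_of_beq_eq_true ((hchk d d.2).1.2 w.reverse (by rw [hgens]; exact List.mem_map_of_mem hw))
    rw [← hz' d, ← C.hom_word_run' hlt hid w (hhw w hw) d, ← hz'] at h2
    rw [← C.hom_word_run' hlt hid w (hhw w hw)] at h2
    rw [map_mul, Equiv.Perm.mul_apply, map_mul, Equiv.Perm.mul_apply]
    exact h2.symm
  have hconj : ∀ (v : List ℕ), (∀ x ∈ v, x < P.k) → ∀ d : Fin C.T.n,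
      (C.hom hlt ((v.map P.σ).prod * t * ((v.map P.σ).prod)⁻¹) d : ℕ) = conjMap C.T C.D.k zf v d := by
    intro v hv d
    rw [map_mul, Equiv.Perm.mul_apply, map_mul, Equiv.Perm.mul_apply, C.hom_word_run' hlt hid v hv, hz',
      C.hom_inv_word hlt hid v hv, conjMap, force_eq, force_eq]
  have hpair : ∀ (v : List ℕ) (r : ℕ), (∀ x ∈ v, x < P.k) → (v, r) ∈ [(g, q), (g', q')] →
      (t * ((v.map P.σ).prod * t * ((v.map P.σ).prod)⁻¹)) ^ r = 1 := by
    intro v r hv hmem
    set X := t * ((v.map P.σ).prod * t * ((v.map P.σ).prod)⁻¹) with hX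
    have hrec : ∀ r : ℕ, ∀ d : Fin C.T.n, (C.hom hlt (X ^ r) d : ℕ) =
        Nat.rec (d : ℕ) (fun _ a => pairMap C.T C.D.k zf v a) r := by
      intro r
      induction r with
      | zero => intro d; rw [pow_zero, map_one, Equiv.Perm.one_apply]; rfl
      | succ r ih =>
        intro d
        rw [pow_succ', map_mul, Equiv.Perm.mul_apply, hX, map_mul, Equiv.Perm.mul_apply, hz', hconj v hv, ← hX, ih]
        show _ = pairMap C.T C.D.k zf v _
        rw [pairMap, force_eq]
    refine ext' fun d => ?_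
    rw [hrec, map_one, Equiv.Perm.one_apply]
    exact Nat.eq_of_beq_eq_true ((hchk d d.2).2 (v, r) hmem)
  -- the three double cosets
  have key : ∀ x : P.Grp, x ∈ C.sub ∨ (∃ h ∈ C.sub, ∃ k ∈ C.sub, x = h * (g.map P.σ).prod * k) ∨
      ∃ h ∈ C.sub, ∃ k ∈ C.sub, x = h * (g'.map P.σ).prod * k := by
    intro x
    set d := C.hom hlt x ⟨0, C.hn⟩ with hd
    obtain ⟨h, hh, p, hp, hhp⟩ := C.exists_root hlt hid hhw O roots gens hgens hok d
    have hstab : ∀ v : P.Grp, C.hom hlt v ⟨0, C.hn⟩ = p → v⁻¹ * h⁻¹ * x ∈ C.sub := fun v hv => by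
      refine C.mem_sub_of_fix hlt hid hhw ?_
      rw [map_mul, Equiv.Perm.mul_apply, ← hd, ← hhp, ← Equiv.Perm.mul_apply, ← map_mul, inv_mul_cancel_right,
        ← hv, ← Equiv.Perm.mul_apply, ← map_mul, inv_mul_cancel, map_one, Equiv.Perm.one_apply]
    have hl := allN_spec hlab (d : ℕ) d.2
    rw [force_eq, blt_iff] at hl
    rcases Nat.lt_or_ge (orbLab O (d : ℕ)) 1 with hl0 | hl1
    · left
      have hp0 : p = ⟨0, C.hn⟩ := Fin.ext (by rw [hp, Nat.lt_one_iff.mp hl0, hr0])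
      have := hstab 1 (by rw [map_one, Equiv.Perm.one_apply, hp0])
      rw [inv_one, one_mul] at this
      rw [show x = h * (h⁻¹ * x) by group]
      exact mul_mem hh this
    right
    rcases Nat.lt_or_ge (orbLab O (d : ℕ)) 2 with hl2 | hl2
    · left
      have e : orbLab O (d : ℕ) = 1 := by omega
      exact ⟨h, hh, _, hstab (g.map P.σ).prod (Fin.ext (by rw [C.hom_word_run' hlt hid g hg, hp, e]; exact hr)),
        by group⟩
    · right
      have e : orbLab O (d : ℕ) = 2 := by omega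
      exact ⟨h, hh, _, hstab (g'.map P.σ).prod (Fin.ext (by rw [C.hom_word_run' hlt hid g' hg', hp, e]; exact hr')),
        by group⟩
  have hfix : ∀ h ∈ C.sub, h * t * h⁻¹ = t := fun h hh => by
    rw [Subgroup.mem_centralizer_singleton_iff.mp (hcomm hh), mul_inv_cancel_right]
  have hmove : ∀ (v : List ℕ), (∀ x ∈ v, x < P.k) → (∃ d < C.T.n, conjMap C.T C.D.k zf v d ≠ zf d) →
      ∀ h ∈ C.sub, ∀ k ∈ C.sub, h * (v.map P.σ).prod * k ∉ Subgroup.centralizer ({t} : Set P.Grp) := by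
    intro v hv hvne h hh k hk hmem
    obtain ⟨d, hd, hdne⟩ := hvne
    apply hdne
    have hvc : (v.map P.σ).prod ∈ Subgroup.centralizer ({t} : Set P.Grp) := by
      have := mul_mem (mul_mem (inv_mem (hcomm hh)) hmem) (inv_mem (hcomm hk))
      rwa [show h⁻¹ * (h * (v.map P.σ).prod * k) * k⁻¹ = (v.map P.σ).prod by group] at this
    rw [← hconj v hv ⟨d, hd⟩, Subgroup.mem_centralizer_singleton_iff.mp hvc, mul_inv_cancel_right, hz']
  have hC : Subgroup.centralizer ({t} : Set P.Grp) = C.sub := by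
    refine le_antisymm (fun x hx => ?_) hcomm
    rcases key x with h | ⟨h, hh, k, hk, rfl⟩ | ⟨h, hh, k, hk, rfl⟩
    exacts [h, absurd hx (hmove g hg hne h hh k hk), absurd hx (hmove g' hg' hne' h hh k hk)]
  have ht1 : t ≠ 1 := by
    intro e
    obtain ⟨d, hd, hdne⟩ := hne
    apply hdne
    rw [← hconj g hg ⟨d, hd⟩, e, mul_one, mul_inv_cancel, ← hz' ⟨d, hd⟩, e]
  have hmem : ∀ x ∈ conjugatesOf t, ∃ u : P.Grp, u * t * u⁻¹ = x := fun x hx => isConj_iff.mp hx
  have hbase : ∀ x : P.Grp, (t * (x * t * x⁻¹)) ^ 2 = 1 ∨ (t * (x * t * x⁻¹)) ^ 3 = 1 := by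
    intro x
    have step : ∀ (v : List ℕ) (r : ℕ), (∀ x ∈ v, x < P.k) → (v, r) ∈ [(g, q), (g', q')] → r = 2 ∨ r = 3 →
        ∀ h ∈ C.sub, ∀ k ∈ C.sub, (t * (h * (v.map P.σ).prod * k * t * (h * (v.map P.σ).prod * k)⁻¹)) ^ 2 = 1 ∨
          (t * (h * (v.map P.σ).prod * k * t * (h * (v.map P.σ).prod * k)⁻¹)) ^ 3 = 1 := by
      intro v r hv hm hr h hh k hk
      have e : t * (h * (v.map P.σ).prod * k * t * (h * (v.map P.σ).prod * k)⁻¹) =
          h * (t * ((v.map P.σ).prod * t * ((v.map P.σ).prod)⁻¹)) * h⁻¹ := by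
        conv_rhs => rw [show h * (t * ((v.map P.σ).prod * t * ((v.map P.σ).prod)⁻¹)) * h⁻¹ =
          (h * t * h⁻¹) * (h * ((v.map P.σ).prod * t * ((v.map P.σ).prod)⁻¹) * h⁻¹) by group, hfix h hh]
        conv_lhs => rw [show h * (v.map P.σ).prod * k * t * (h * (v.map P.σ).prod * k)⁻¹ =
          h * ((v.map P.σ).prod * (k * t * k⁻¹) * ((v.map P.σ).prod)⁻¹) * h⁻¹ by group, hfix k hk]
      rw [e, conj_pow, conj_pow]
      rcases hr with rfl | rfl
      · left; rw [hpair v 2 hv hm, mul_one, mul_inv_cancel]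
      · right; rw [hpair v 3 hv hm, mul_one, mul_inv_cancel]
    rcases key x with h | ⟨h, hh, k, hk, rfl⟩ | ⟨h, hh, k, hk, rfl⟩
    · left; rw [hfix x h, tt, one_pow]
    · exact step g q hg (List.mem_cons_self) hq h hh k hk
    · exact step g' q' hg' (List.mem_cons_of_mem _ List.mem_cons_self) hq' h hh k hk
  refine ⟨hC, ⟨⟨fun x hx => ?_, fun x hx y hy => ?_⟩, ⟨t, mem_conjugatesOf_self, rfl⟩, ?_⟩, ?_⟩
  · obtain ⟨u, rfl⟩ := hmem x hx
    rw [← MulAut.conj_apply, MulEquiv.orderOf_eq]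
    exact orderOf_eq_prime (by rw [pow_two, tt]) ht1
  · obtain ⟨u, rfl⟩ := hmem x hx
    obtain ⟨v, rfl⟩ := hmem y hy
    have e : u * t * u⁻¹ * (v * t * v⁻¹) = u * (t * ((u⁻¹ * v) * t * (u⁻¹ * v)⁻¹)) * u⁻¹ := by group
    rw [e, conj_pow, conj_pow]
    rcases hbase (u⁻¹ * v) with h | h
    · left; rw [h, mul_one, mul_inv_cancel]
    · right; rw [h, mul_one, mul_inv_cancel]
  · have hn : (Subgroup.closure (conjugatesOf t)).Normal := by
      refine ⟨fun a ha u => ?_⟩
      have e : (Subgroup.closure (conjugatesOf t)).map (MulAut.conj u).toMonoidHom ≤ Subgroup.closure (conjugatesOf t) := by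
        rw [MonoidHom.map_closure]
        refine Subgroup.closure_mono ?_
        rintro _ ⟨y, hy, rfl⟩
        exact IsConj.trans hy (isConj_iff.mpr ⟨u, rfl⟩)
      exact e ⟨a, ha, rfl⟩
    rcases hn.eq_bot_or_eq_top with h | h
    · have hm : t ∈ Subgroup.closure (conjugatesOf t) := Subgroup.subset_closure mem_conjugatesOf_self
      rw [h, Subgroup.mem_bot] at hm
      exact absurd hm ht1
    · exact h
  · choose rep hrep using C.exists_hom_zero hlt hid
    have e : conjugatesOf t = Set.range fun d => rep d * t * (rep d)⁻¹ := by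
      ext x
      constructor
      · intro hx
        obtain ⟨u, rfl⟩ := hmem x hx
        refine ⟨C.hom hlt u ⟨0, C.hn⟩, ?_⟩
        show rep _ * t * (rep _)⁻¹ = _
        set c := C.hom hlt u ⟨0, C.hn⟩
        have hs := hfix _ (C.mem_sub_of_fix hlt hid hhw (g := u⁻¹ * rep (C.hom hlt u ⟨0, C.hn⟩)) (by
          rw [map_mul, Equiv.Perm.mul_apply, hrep, ← Equiv.Perm.mul_apply, ← map_mul, inv_mul_cancel, map_one,
            Equiv.Perm.one_apply]))
        calc rep c * t * (rep c)⁻¹ = u * ((u⁻¹ * rep c) * t * (u⁻¹ * rep c)⁻¹) * u⁻¹ := by group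
          _ = u * t * u⁻¹ := by rw [hs]
      · rintro ⟨d, rfl⟩
        exact isConj_iff.mpr ⟨rep d, rfl⟩
    rw [e, Set.ncard_range_of_injective fun a b hab => ?_, Nat.card_eq_fintype_card, Fintype.card_fin]
    have hm : (rep b)⁻¹ * rep a ∈ C.sub := by
      rw [← hC, Subgroup.mem_centralizer_singleton_iff]
      have hab' : rep a * t * (rep a)⁻¹ = rep b * t * (rep b)⁻¹ := hab
      calc (rep b)⁻¹ * rep a * t = (rep b)⁻¹ * (rep a * t * (rep a)⁻¹) * rep a := by group
        _ = t * ((rep b)⁻¹ * rep a) := by rw [hab']; group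
    calc a = C.hom hlt (rep b * ((rep b)⁻¹ * rep a)) ⟨0, C.hn⟩ := by rw [mul_inv_cancel_left, hrep]
      _ = b := by rw [map_mul, Equiv.Perm.mul_apply, C.sub_fix hlt hid hhw hm, hrep]

end Cert

end CfsgLib.CosetEnum
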