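/-
Homomorphisms from certified presentations, and words fixing all cosets.
-/
import Cfsg.Agent.Lib.CosetEnum.PointClass

set_option autoImplicit false

namespace CfsgLib.CosetEnum

namespace Pres

variable (P : Pres)

/-- Involutions satisfying the relators give a homomorphism to any finite group. -/
theorem exists_hom {G : Type*} [Group G] [Finite G] (τ : ℕ → G) (hτ : ∀ x, τ x * τ x = 1)
    (hrel : ∀ w ∈ P.rels, (w.map τ).prod = 1) (hid : ∀ i < P.k, P.idx (P.gen i) = i) :
    ∃ φ : P.Grp →* G, ∀ x < P.k, φ (P.σ x) = τ x := by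
  let ψ : G →* Equiv.Perm (Fin (Nat.card G)) :=
    (Equiv.permCongrHom (Finite.equivFin G)).toMonoidHom.comp (MulAction.toPermHom G G)
  have hψ : Function.Injective ψ :=
    (Equiv.permCongrHom (Finite.equivFin G)).injective.comp MulAction.toPerm_injective
  have hl := P.lift_rel (τ := fun x => ψ (τ x)) (fun x => by rw [← map_mul, hτ, map_one]) fun w hw => by
    have := map_list_prod ψ (w.map τ)
    rw [hrel w hw, map_one, List.map_map] at this
    exact this.symm
  have he : ψ.comp (FreeGroup.lift (τ ∘ P.idx)) = FreeGroup.lift ((fun x => ψ (τ x)) ∘ P.idx) :=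
    FreeGroup.ext_hom _ _ fun a => by simp
  have hr : ∀ r ∈ P.relSet, FreeGroup.lift (τ ∘ P.idx) r = 1 := fun r hr =>
    hψ (by rw [map_one, ← hl r hr, ← he]; rfl)
  refine ⟨PresentedGroup.toGroup hr, fun x hx => ?_⟩
  rw [σ, if_pos hx]
  exact (PresentedGroup.toGroup.of hr).trans (congrArg τ (hid x hx))

/-- The image of a word. -/
theorem hom_prod {G : Type*} [Group G] {φ : P.Grp →* G} {τ : ℕ → G} (h : ∀ x < P.k, φ (P.σ x) = τ x) :
    ∀ w : List ℕ, (∀ x ∈ w, x < P.k) → φ (w.map P.σ).prod = (w.map τ).prod := by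
  intro w hw
  rw [map_list_prod, List.map_map]
  exact congrArg List.prod (List.map_congr_left fun x hx => h x (hw x hx))

end Pres

namespace Cert

variable {P : Pres} (C : Cert P) (hlt : ∀ w ∈ P.rels, ∀ x ∈ w, x < P.k) (hid : ∀ i < P.k, P.idx (P.gen i) = i)

include hlt hid in
/-- A word fixing every coset commutes with all conjugates of what the subgroup centralises. -/
theorem commute_conjugate (hhw : ∀ w ∈ C.hw, ∀ x ∈ w, x < P.k) {G : Type*} [Group G] (φ : P.Grp →* G) (t : G)
    (ht : ∀ w ∈ C.hw, Commute (φ (w.map P.σ).prod) t) (z : List ℕ) (hz : ∀ x ∈ z, x < P.k)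
    (hfix : allN C.T.n (fun d => Nat.beq (runT C.T C.D.k z d) d) = true) (u : P.Grp) :
    Commute (φ (z.map P.σ).prod) (φ u * t * (φ u)⁻¹) := by
  obtain ⟨e, he⟩ := C.exists_equiv hlt hid hhw
  set g := ((z.map P.σ).prod)⁻¹ with hg
  have h1 : C.hom hlt g = 1 := Equiv.ext fun d => Fin.ext <| by
    rw [hg, C.hom_inv_word hlt hid z hz]
    exact Nat.eq_of_beq_eq_true (allN_spec hfix d d.2)
  obtain ⟨d, hd⟩ := e.surjective (u : P.Grp ⧸ C.sub)
  have h2 := he g d
  rw [h1, Equiv.Perm.one_apply, hd, MulAction.Quotient.smul_coe, smul_eq_mul, QuotientGroup.eq] at h2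
  have hle : C.sub ≤ (Subgroup.centralizer ({t} : Set G)).comap φ := by
    rw [Cert.sub, Subgroup.closure_le]
    rintro _ ⟨w, hw, rfl⟩
    exact Subgroup.mem_centralizer_singleton_iff.mpr (ht w hw).eq
  have h3 : Commute (φ (u⁻¹ * (g * u))) t := Subgroup.mem_centralizer_singleton_iff.mp (hle h2)
  have h4 := h3.map (MulAut.conj (φ u)).toMonoidHom
  simp only [MulEquiv.coe_toMonoidHom, MulAut.conj_apply, map_mul, map_inv, mul_assoc, mul_inv_cancel_left,
    mul_inv_cancel, mul_one, hg] at h4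
  rw [mul_assoc]
  simpa using h4.inv_left

end Cert

/-- Conjugating a word by a braid pair moves its centralised letter. -/
theorem commute_wrap {G : Type*} [Group G] {τ : ℕ → G} (hτ : ∀ x, τ x * τ x = 1) {x y : ℕ}
    (hb : τ x * τ y * τ x = τ y * τ x * τ y) {L : List ℕ} (hL : Commute (L.map τ).prod (τ y)) :
    Commute (([y, x] ++ L ++ [x, y]).map τ).prod (τ x) := by
  have hi : ∀ a, (τ a)⁻¹ = τ a := fun a => inv_eq_of_mul_eq_one_right (hτ a)
  have h1 := hL.map (MulAut.conj (τ y * τ x)).toMonoidHom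
  simp only [MulEquiv.coe_toMonoidHom, MulAut.conj_apply, mul_inv_rev, hi] at h1
  have e : τ y * τ x * τ y * (τ x * τ y) = τ x := by
    rw [← hb]
    simp only [mul_assoc]
    rw [← mul_assoc (τ x) (τ x), hτ, one_mul, hτ, mul_one]
  rw [e] at h1
  simpa [mul_assoc] using h1

end CfsgLib.CosetEnum
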