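/-
A class of involutions identified with the points of a certified representation, and rigid configurations:
if the members of a generating configuration admit, one after another, no more extensions than the order of
the group allows, then every automorphism preserving the class is inner.
-/
import Cfsg.Agent.Lib.CosetEnum.PointClass

set_option autoImplicit false

namespace CfsgLib.CosetEnum

open Cfsg

/-- The number of `r < n` satisfying `f`. -/
noncomputable def countP (f : ℕ → Bool) (n : ℕ) : ℕ :=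
  Nat.rec (nat_lit 0) (fun r acc => force acc fun a => Bool.rec a (Nat.succ a) (f r)) n

theorem countP_eq (f : ℕ → Bool) : ∀ n, countP f n = ((Finset.range n).filter fun r => f r = true).card := by
  intro n
  induction n with
  | zero => rfl
  | succ n ih =>
    have e : countP f (n + 1) = force (countP f n) (fun a => Bool.rec (motive := fun _ => ℕ) a (Nat.succ a) (f n)) := rfl
    rw [e, force_eq, ih, Finset.range_add_one, Finset.filter_insert]
    cases hb : f n with
    | true => rw [if_pos rfl, Finset.card_insert_of_notMem (by simp)]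
    | false => rw [if_neg (by simp)]

theorem conj_comm_iff {G : Type*} [Group G] (α : G ≃* G) (g x y : G) :
    g⁻¹ * α x * g * (g⁻¹ * α y * g) = g⁻¹ * α y * g * (g⁻¹ * α x * g) ↔ x * y = y * x := by
  have e1 : g⁻¹ * α x * g * (g⁻¹ * α y * g) = g⁻¹ * α (x * y) * g := by rw [map_mul]; group
  have e2 : g⁻¹ * α y * g * (g⁻¹ * α x * g) = g⁻¹ * α (y * x) * g := by rw [map_mul]; group
  rw [e1, e2, mul_left_inj, mul_right_inj, EmbeddingLike.apply_eq_iff_eq]

/-- Equality of booleans, for the kernel. -/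
noncomputable def beqB (a b : Bool) : Bool := Bool.rec (Bool.rec true false b) b a

theorem beqB_iff (a b : Bool) : beqB a b = true ↔ a = b := by cases a <;> cases b <;> simp [beqB]

theorem natBeq_eq (a b : ℕ) : Nat.beq a b = decide (a = b) := by
  cases hb : Nat.beq a b with
  | true => exact (decide_eq_true (Nat.eq_of_beq_eq_true hb)).symm
  | false => exact (decide_eq_false (Nat.ne_of_beq_eq_false hb)).symm

/-- The candidate `r` stands to every member of `pre` as the point `q` does. -/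
noncomputable def patOK (T : Table) (k : ℕ) (pre : List (ℕ × ℕ)) (q r : ℕ) : Bool :=
  pre.all fun a => (Bool.rec true false (Nat.beq r a.2)) &&
    beqB (Nat.beq (T.act k r a.1) r) (Nat.beq (T.act k q a.1) q)

/-- The numbers of extensions of the initial segments of a configuration. -/
noncomputable def okCounts (T : Table) (k : ℕ) : List (ℕ × ℕ) → List (ℕ × ℕ) → List ℕ → Bool
  | _, [], [] => true
  | pre, a :: L, c :: cs => Nat.beq (countP (patOK T k pre a.2) T.n) c && okCounts T k (pre ++ [a]) L cs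
  | _, _, _ => false

namespace Cert

variable {P : Pres} (C : Cert P) (hlt : ∀ w ∈ P.rels, ∀ x ∈ w, x < P.k) (hid : ∀ i < P.k, P.idx (P.gen i) = i)
  (t : P.Grp)

/-- `q` is the point of the conjugate `d` of `t`. -/
def IsPt (d : P.Grp) (q : Fin C.T.n) : Prop :=
  ∃ g : P.Grp, g * t * g⁻¹ = d ∧ C.hom hlt g ⟨0, C.hn⟩ = q

variable {t}

theorem isPt_conj {d : P.Grp} {q : Fin C.T.n} (h : C.IsPt hlt t d q) (g : P.Grp) :
    C.IsPt hlt t (g * d * g⁻¹) (C.hom hlt g q) := by
  obtain ⟨u, rfl, rfl⟩ := h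
  exact ⟨g * u, by group, by rw [map_mul, Equiv.Perm.mul_apply]⟩

theorem isPt_base : C.IsPt hlt t t ⟨0, C.hn⟩ := ⟨1, by group, by rw [map_one, Equiv.Perm.one_apply]⟩

theorem isPt_of_mem {d : P.Grp} (hd : d ∈ conjugatesOf t) : ∃ q, C.IsPt hlt t d q := by
  obtain ⟨g, rfl⟩ := isConj_iff.mp hd
  exact ⟨_, g, rfl, rfl⟩

theorem isPt_mem {d : P.Grp} {q : Fin C.T.n} (h : C.IsPt hlt t d q) : d ∈ conjugatesOf t := by
  obtain ⟨g, rfl, -⟩ := h
  exact isConj_iff.mpr ⟨g, rfl⟩

/-- The point stabiliser is the centraliser of `t`. -/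
def StabIsCent (t : P.Grp) : Prop :=
  ∀ g : P.Grp, C.hom hlt g ⟨0, C.hn⟩ = ⟨0, C.hn⟩ ↔ g * t = t * g

include hid in
theorem stabIsCent_of_centralizer [Finite P.Grp] (hhw : ∀ w ∈ C.hw, ∀ x ∈ w, x < P.k)
    (hC : Subgroup.centralizer ({t} : Set P.Grp) = C.sub) : C.StabIsCent hlt t := fun g =>
  ⟨fun h => Subgroup.mem_centralizer_singleton_iff.mp (hC ▸ C.mem_sub_of_fix hlt hid hhw h),
    fun h => C.sub_fix hlt hid hhw (hC ▸ Subgroup.mem_centralizer_singleton_iff.mpr h)⟩

theorem isPt_fix (hS : C.StabIsCent hlt t) {d : P.Grp} {q : Fin C.T.n} (h : C.IsPt hlt t d q) (g : P.Grp) :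
    C.hom hlt g q = q ↔ g * d = d * g := by
  obtain ⟨u, rfl, rfl⟩ := h
  have e := hS (u⁻¹ * g * u)
  rw [map_mul, Equiv.Perm.mul_apply, map_mul, Equiv.Perm.mul_apply] at e
  constructor
  · intro hq
    have h1 := e.mp (by rw [hq, ← Equiv.Perm.mul_apply, ← map_mul, inv_mul_cancel, map_one, Equiv.Perm.one_apply])
    calc g * (u * t * u⁻¹) = u * (u⁻¹ * g * u * t) * u⁻¹ := by group
      _ = u * (t * (u⁻¹ * g * u)) * u⁻¹ := by rw [h1]
      _ = u * t * u⁻¹ * g := by group
  · intro hc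
    have h1 := e.mpr (by
      calc u⁻¹ * g * u * t = u⁻¹ * (g * (u * t * u⁻¹)) * u := by group
        _ = u⁻¹ * (u * t * u⁻¹ * g) * u := by rw [hc]
        _ = t * (u⁻¹ * g * u) := by group)
    have h2 := congrArg (C.hom hlt u) h1
    rwa [← Equiv.Perm.mul_apply (C.hom hlt u), ← map_mul, mul_inv_cancel, map_one, Equiv.Perm.one_apply] at h2

theorem isPt_unique (hS : C.StabIsCent hlt t) {d d' : P.Grp} {q : Fin C.T.n} (h : C.IsPt hlt t d q)
    (h' : C.IsPt hlt t d' q) : d = d' := by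
  obtain ⟨u, rfl, hu⟩ := h
  obtain ⟨v, rfl, hv⟩ := h'
  have e : (v⁻¹ * u) * t = t * (v⁻¹ * u) := (hS _).mp (by
    rw [map_mul, Equiv.Perm.mul_apply, hu, ← hv, ← Equiv.Perm.mul_apply, ← map_mul, inv_mul_cancel, map_one,
      Equiv.Perm.one_apply])
  calc u * t * u⁻¹ = v * ((v⁻¹ * u) * t) * u⁻¹ := by group
    _ = v * (t * (v⁻¹ * u)) * u⁻¹ := by rw [e]
    _ = v * t * v⁻¹ := by group

theorem isPt_comm (hS : C.StabIsCent hlt t) {d d' : P.Grp} {q q' : Fin C.T.n} (h : C.IsPt hlt t d q)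
    (h' : C.IsPt hlt t d' q') : C.hom hlt d q' = q' ↔ C.hom hlt d' q = q := by
  rw [C.isPt_fix hlt hS h', C.isPt_fix hlt hS h]
  exact ⟨Eq.symm, Eq.symm⟩

include hid in
theorem hom_act {x : ℕ} (hx : x < P.k) (d : Fin C.T.n) : (C.hom hlt (P.σ x) d : ℕ) = C.T.act C.D.k d x := by
  have h := C.hom_word_run' hlt hid [x] (by simpa using hx) d
  simpa [runT, force_eq] using h

include hid in
/-- The point of a neighbour along a braid relation. -/
theorem isPt_braid {x y : ℕ} (hx : x < P.k) (hy : y < P.k)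
    (hb : P.σ x * P.σ y * P.σ x = P.σ y * P.σ x * P.σ y)
    {q r : Fin C.T.n} (h : C.IsPt hlt t (P.σ x) q)
    (hr : runT C.T C.D.k [y, x] q = (r : ℕ)) : C.IsPt hlt t (P.σ y) r := by
  have h' := C.isPt_conj hlt h (P.σ x * P.σ y)
  have e : P.σ x * P.σ y * P.σ x * (P.σ x * P.σ y)⁻¹ = P.σ y := by
    rw [hb]; group
  rw [e] at h'
  have e2 : C.hom hlt (P.σ x * P.σ y) q = r := Fin.ext (by
    rw [map_mul, Equiv.Perm.mul_apply, C.hom_act hlt hid hx, C.hom_act hlt hid hy]
    simpa [runT, force_eq] using hr)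
  rwa [e2] at h'

/-! ### Configurations -/

/-- The stabiliser of the points in `pre`. -/
noncomputable def preStab (pre : List (ℕ × ℕ)) : Subgroup P.Grp := C.fixSub hlt (pre.map Prod.snd)

/-- The candidates after `pre` for the place of `q`. -/
noncomputable def patSet (pre : List (ℕ × ℕ)) (q : ℕ) : Set (Fin C.T.n) :=
  {r | patOK C.T C.D.k pre q (r : ℕ) = true}

theorem ncard_patSet (pre : List (ℕ × ℕ)) (q : ℕ) :
    (C.patSet pre q).ncard = countP (patOK C.T C.D.k pre q) C.T.n := by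
  classical
  rw [countP_eq, ← Set.ncard_image_of_injective _ Fin.val_injective, ← Set.ncard_coe_finset]
  congr 1
  ext r
  simp only [Set.mem_image, patSet, Set.mem_setOf_eq, Finset.coe_filter, Finset.mem_range]
  exact ⟨by rintro ⟨a, ha, rfl⟩; exact ⟨a.2, ha⟩, fun h => ⟨⟨r, h.1⟩, h.2, rfl⟩⟩

theorem patOK_iff (pre : List (ℕ × ℕ)) (q r : ℕ) : patOK C.T C.D.k pre q r = true ↔
    ∀ a ∈ pre, r ≠ a.2 ∧ (C.T.act C.D.k r a.1 = r ↔ C.T.act C.D.k q a.1 = q) := by
  simp only [patOK, List.all_eq_true, Bool.and_eq_true, beqB_iff]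
  refine forall_congr' fun a => forall_congr' fun _ => and_congr ?_ ?_
  · cases hb : Nat.beq r a.2 with
    | true => simpa using Nat.eq_of_beq_eq_true hb
    | false => simpa using Nat.ne_of_beq_eq_false hb
  · rw [natBeq_eq, natBeq_eq, decide_eq_decide]

/-- A configuration: members `σ x` of the class with their points. -/
structure Config (t : P.Grp) (L : List (ℕ × ℕ)) : Prop where
  lt : ∀ a ∈ L, a.1 < P.k ∧ a.2 < C.T.n
  pt : ∀ a (h : a ∈ L), C.IsPt hlt t (P.σ a.1) ⟨a.2, (lt a h).2⟩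
  nodup : (L.map Prod.snd).Nodup

include hid in
theorem orbit_sub_pat (hS : C.StabIsCent hlt t) {L : List (ℕ × ℕ)} (hL : C.Config hlt t L)
    {pre : List (ℕ × ℕ)} {a : ℕ × ℕ} {rest : List (ℕ × ℕ)} (hLe : L = pre ++ a :: rest)
    (ha : a.2 < C.T.n) {g : P.Grp} (hg : g ∈ C.preStab hlt pre) :
    C.hom hlt g ⟨a.2, ha⟩ ∈ C.patSet pre a.2 := by
  have hna : ∀ b ∈ pre, a.2 ≠ b.2 := by
    intro b hb e
    have hn := hL.nodup
    rw [hLe, List.map_append, List.nodup_append] at hn
    exact hn.2.2 b.2 (List.mem_map_of_mem hb) a.2 (by simp) e.symm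
  show patOK _ _ _ _ _ = true
  rw [patOK_iff]
  intro b hb
  have hbL : b ∈ L := by rw [hLe]; simp [hb]
  have hbn := (hL.lt b hbL).2
  have hgb : C.hom hlt g ⟨b.2, hbn⟩ = ⟨b.2, hbn⟩ := hg _ (List.mem_map_of_mem hb)
  refine ⟨fun e => hna b hb ?_, ?_⟩
  · have : C.hom hlt g ⟨a.2, ha⟩ = C.hom hlt g ⟨b.2, hbn⟩ := by rw [hgb]; exact Fin.ext e
    exact congrArg Fin.val ((C.hom hlt g).injective this)
  · have hc := (C.isPt_fix hlt hS (hL.pt b hbL) g).mp hgb
    have e1 : C.T.act C.D.k ((C.hom hlt g ⟨a.2, ha⟩ : Fin C.T.n) : ℕ) b.1 =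
        (C.hom hlt g (C.hom hlt (P.σ b.1) ⟨a.2, ha⟩) : ℕ) := by
      rw [← C.hom_act hlt hid (hL.lt b hbL).1, ← Equiv.Perm.mul_apply, ← Equiv.Perm.mul_apply, ← map_mul, ← map_mul,
        hc]
    rw [e1]
    constructor
    · intro h
      have h2 := (C.hom hlt g).injective (Fin.ext h)
      rw [← C.hom_act hlt hid (hL.lt b hbL).1 ⟨a.2, ha⟩]
      exact congrArg Fin.val h2
    · intro h
      have h2 : C.hom hlt (P.σ b.1) ⟨a.2, ha⟩ = ⟨a.2, ha⟩ := Fin.ext (by
        rw [C.hom_act hlt hid (hL.lt b hbL).1]; exact h)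
      rw [h2]

theorem card_step [Finite P.Grp] (pre : List (ℕ × ℕ)) (a : ℕ × ℕ) (ha : a.2 < C.T.n) :
    Nat.card (C.preStab hlt pre) =
      ((fun g : P.Grp => C.hom hlt g ⟨a.2, ha⟩) '' (C.preStab hlt pre : Set P.Grp)).ncard *
        Nat.card (C.preStab hlt (pre ++ [a])) := by
  classical
  set S := C.preStab hlt pre
  let act : MulAction S (Fin C.T.n) := MulAction.compHom (Fin C.T.n) ((C.hom hlt).comp S.subtype)
  have h1 := (MulAction.stabilizer S (⟨a.2, ha⟩ : Fin C.T.n)).card_mul_index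
  have h2 : (MulAction.stabilizer S (⟨a.2, ha⟩ : Fin C.T.n)).index =
      ((fun g : P.Grp => C.hom hlt g ⟨a.2, ha⟩) '' (S : Set P.Grp)).ncard := by
    rw [MulAction.index_stabilizer]
    congr 1
    ext r
    exact ⟨by rintro ⟨g, rfl⟩; exact ⟨g, g.2, rfl⟩, by rintro ⟨g, hg, rfl⟩; exact ⟨⟨g, hg⟩, rfl⟩⟩
  have h3 : Nat.card (MulAction.stabilizer S (⟨a.2, ha⟩ : Fin C.T.n)) = Nat.card (C.preStab hlt (pre ++ [a])) := by
    refine Nat.card_congr
      { toFun := fun g => ⟨g.1.1, ?_⟩
        invFun := fun g => ⟨⟨g.1, ?_⟩, ?_⟩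
        left_inv := fun _ => rfl
        right_inv := fun _ => rfl }
    · intro d hd
      rw [List.map_append, List.mem_append] at hd
      rcases hd with hd | hd
      · exact g.1.2 d hd
      · have hd' : d = ⟨a.2, ha⟩ := Fin.ext (by simpa using hd)
        rw [hd']
        exact g.2
    · intro d hd
      exact g.2 d (by rw [List.map_append, List.mem_append]; exact Or.inl hd)
    · exact g.2 ⟨a.2, ha⟩ (by simp)
  rw [← h2, ← h3, mul_comm, h1]

include hid in
theorem count_chain [Finite P.Grp] (hS : C.StabIsCent hlt t) {L : List (ℕ × ℕ)} (hL : C.Config hlt t L)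
    (hbot : C.preStab hlt L = ⊥) :
    ∀ (rest : List (ℕ × ℕ)) (pre : List (ℕ × ℕ)) (cs : List ℕ), L = pre ++ rest →
      okCounts C.T C.D.k pre rest cs = true →
      Nat.card (C.preStab hlt pre) ≤ cs.prod ∧
        (Nat.card (C.preStab hlt pre) = cs.prod → ∀ pre' a rest', rest = pre' ++ a :: rest' →
          ∀ ha : a.2 < C.T.n, ∀ r ∈ C.patSet (pre ++ pre') a.2,
            ∃ g ∈ C.preStab hlt (pre ++ pre'), C.hom hlt g ⟨a.2, ha⟩ = r) := by
  intro rest
  induction rest with
  | nil =>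
    intro pre cs hLe hok
    cases cs with
    | nil =>
      rw [List.append_nil] at hLe
      refine ⟨?_, fun _ pre' a rest' h => by simp at h⟩
      rw [← hLe, hbot]
      simp
    | cons c cs => simp [okCounts] at hok
  | cons a rest ih =>
    intro pre cs hLe hok
    cases cs with
    | nil => simp [okCounts] at hok
    | cons c cs =>
      simp only [okCounts, Bool.and_eq_true] at hok
      have han : a.2 < C.T.n := (hL.lt a (by rw [hLe]; simp)).2
      obtain ⟨hle, hrec⟩ := ih (pre ++ [a]) cs (by rw [hLe]; simp) hok.2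
      set O := (fun g : P.Grp => C.hom hlt g ⟨a.2, han⟩) '' (C.preStab hlt pre : Set P.Grp) with hO
      have hsub : O ⊆ C.patSet pre a.2 := by
        rintro _ ⟨g, hg, rfl⟩
        exact C.orbit_sub_pat hlt hid hS hL hLe han hg
      have hOc : O.ncard ≤ c := by
        rw [← Nat.eq_of_beq_eq_true hok.1, ← C.ncard_patSet]
        exact Set.ncard_le_ncard hsub (Set.toFinite _)
      have hcard := C.card_step hlt pre a han
      rw [List.prod_cons, hcard]
      refine ⟨Nat.mul_le_mul hOc hle, fun heq => ?_⟩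
      have hpos : 0 < O.ncard :=
        (Set.ncard_pos (Set.toFinite _)).mpr ⟨_, 1, one_mem _, rfl⟩
      have hspos : 0 < Nat.card (C.preStab hlt (pre ++ [a])) := Nat.card_pos
      have hOe : O.ncard = c := by
        rcases hOc.lt_or_eq with h | h
        · exact absurd heq (Nat.ne_of_lt (Nat.mul_lt_mul_of_lt_of_le h hle (by omega)))
        · exact h
      have hse : Nat.card (C.preStab hlt (pre ++ [a])) = cs.prod := by
        rw [hOe] at heq
        exact Nat.eq_of_mul_eq_mul_left (by omega) heq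
      intro pre' b rest' hr hb r hrm
      cases pre' with
      | nil =>
        simp only [List.nil_append, List.cons.injEq] at hr
        obtain ⟨rfl, -⟩ := hr
        rw [List.append_nil] at hrm ⊢
        have : O = C.patSet pre a.2 := Set.eq_of_subset_of_ncard_le hsub (by
          rw [C.ncard_patSet, Nat.eq_of_beq_eq_true hok.1, hOe]) (Set.toFinite _)
        rw [← this] at hrm
        obtain ⟨g, hg, hgr⟩ := hrm
        exact ⟨g, hg, hgr⟩
      | cons a' pre' =>
        simp only [List.cons_append, List.cons.injEq] at hr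
        obtain ⟨rfl, hr⟩ := hr
        have := hrec hse pre' b rest' hr hb r
        rw [List.append_assoc, List.singleton_append] at this
        exact this hrm

include hid in
/-- **Rigidity**: an automorphism preserving the class agrees with a conjugation on a configuration
whose extensions are counted by the order of the group. -/
theorem exists_conj_of_counts [Finite P.Grp] (hS : C.StabIsCent hlt t)
    {L : List (ℕ × ℕ)} (hL : C.Config hlt t L) (hbot : C.preStab hlt L = ⊥) (cs : List ℕ)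
    (hok : okCounts C.T C.D.k [] L cs = true) (hprod : cs.prod = Nat.card P.Grp)
    (α : P.Grp ≃* P.Grp) (hα : α t ∈ conjugatesOf t) :
    ∃ g : P.Grp, ∀ a ∈ L, α (P.σ a.1) = g * P.σ a.1 * g⁻¹ := by
  classical
  have htop : C.preStab hlt ([] : List (ℕ × ℕ)) = ⊤ := by
    rw [eq_top_iff]; intro g _ d hd; simp at hd
  obtain ⟨-, hext⟩ := C.count_chain hlt hid hS hL hbot L [] cs rfl hok
  have hext := hext (by rw [htop, Subgroup.card_top, hprod])
  have hαD : ∀ a ∈ L, α (P.σ a.1) ∈ conjugatesOf t := by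
    intro a ha
    obtain ⟨u, hu⟩ := isConj_iff.mp (C.isPt_mem hlt (hL.pt a ha))
    obtain ⟨v, hv⟩ := isConj_iff.mp hα
    refine isConj_iff.mpr ⟨α u * v, ?_⟩
    rw [← hu, map_mul, map_mul, map_inv, ← hv]
    group
  suffices h : ∀ rest pre, L = pre ++ rest →
      (∃ g : P.Grp, ∀ a ∈ pre, α (P.σ a.1) = g * P.σ a.1 * g⁻¹) →
      ∃ g : P.Grp, ∀ a ∈ L, α (P.σ a.1) = g * P.σ a.1 * g⁻¹ from h L [] rfl ⟨1, by simp⟩
  intro rest
  induction rest with
  | nil => intro pre hLe hg; rw [List.append_nil] at hLe; rw [hLe]; exact hg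
  | cons a rest ih =>
    intro pre hLe ⟨g, hg⟩
    refine ih (pre ++ [a]) (by rw [hLe]; simp) ?_
    have haL : a ∈ L := by rw [hLe]; simp
    have han := (hL.lt a haL).2
    obtain ⟨Q, hQ⟩ := C.isPt_of_mem hlt (hαD a haL)
    have hr := C.isPt_conj hlt hQ g⁻¹
    set r := C.hom hlt g⁻¹ Q
    set d := g⁻¹ * α (P.σ a.1) * g⁻¹⁻¹ with hd
    have hne : ∀ b ∈ pre, a.2 ≠ b.2 := by
      intro b hb e
      have hn := hL.nodup
      rw [hLe, List.map_append, List.nodup_append] at hn
      exact hn.2.2 b.2 (List.mem_map_of_mem hb) a.2 (by simp) e.symm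
    have hpat : r ∈ C.patSet pre a.2 := by
      show patOK _ _ _ _ _ = true
      rw [patOK_iff]
      intro b hb
      have hbL : b ∈ L := by rw [hLe]; simp [hb]
      have hbn := (hL.lt b hbL).2
      have hσb : P.σ b.1 = g⁻¹ * α (P.σ b.1) * g := by rw [hg b hb]; group
      refine ⟨fun e => ?_, ?_⟩
      · have e' : r = ⟨b.2, hbn⟩ := Fin.ext e
        rw [e'] at hr
        have h1 := C.isPt_unique hlt hS hr (hL.pt b hbL)
        rw [hσb, hd, inv_inv] at h1
        have h2 := α.injective (mul_left_cancel (mul_right_cancel h1))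
        have h3 := hL.pt a haL
        rw [h2] at h3
        obtain ⟨u, hu, hu'⟩ := h3
        obtain ⟨v, hv, hv'⟩ := hL.pt b hbL
        have : (v⁻¹ * u) * t = t * (v⁻¹ * u) := by
          calc (v⁻¹ * u) * t = v⁻¹ * (u * t * u⁻¹) * u := by group
            _ = v⁻¹ * (v * t * v⁻¹) * u := by rw [hu, hv]
            _ = t * (v⁻¹ * u) := by group
        have h5 := (hS _).mpr this
        rw [map_mul, Equiv.Perm.mul_apply, hu'] at h5
        have h6 := congrArg (C.hom hlt v) h5
        rw [← Equiv.Perm.mul_apply (C.hom hlt v), ← map_mul, mul_inv_cancel, map_one, Equiv.Perm.one_apply, hv'] at h6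
        exact hne b hb (congrArg Fin.val h6)
      · rw [← C.hom_act hlt hid (hL.lt b hbL).1, ← C.hom_act hlt hid (hL.lt b hbL).1 ⟨a.2, han⟩]
        refine (Fin.ext_iff.symm.trans (C.isPt_fix hlt hS hr _)).trans (Iff.trans ?_
          ((C.isPt_fix hlt hS (hL.pt a haL) (P.σ b.1)).symm.trans
            (Fin.ext_iff (a := C.hom hlt (P.σ b.1) ⟨a.2, han⟩) (b := ⟨a.2, han⟩))))
        rw [hd, inv_inv]
        calc P.σ b.1 * (g⁻¹ * α (P.σ a.1) * g) = g⁻¹ * α (P.σ a.1) * g * P.σ b.1
            ↔ g⁻¹ * α (P.σ b.1) * g * (g⁻¹ * α (P.σ a.1) * g) = g⁻¹ * α (P.σ a.1) * g * (g⁻¹ * α (P.σ b.1) * g) := by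
              rw [← hσb]
          _ ↔ P.σ b.1 * P.σ a.1 = P.σ a.1 * P.σ b.1 := conj_comm_iff α g _ _
    have hr' := hext pre a rest hLe han r (by simpa using hpat)
    obtain ⟨h, hh, hha⟩ := hr'
    rw [List.nil_append] at hh
    refine ⟨g * h, fun b hb => ?_⟩
    rcases List.mem_append.mp hb with hb | hb
    · have hbL : b ∈ L := by rw [hLe]; simp [hb]
      have hc := (C.isPt_fix hlt hS (hL.pt b hbL) h).mp (hh _ (List.mem_map_of_mem hb))
      rw [hg b hb]
      calc g * P.σ b.1 * g⁻¹ = g * (h * P.σ b.1 * h⁻¹) * g⁻¹ := by rw [hc]; group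
        _ = g * h * P.σ b.1 * (g * h)⁻¹ := by group
    · rw [List.mem_singleton] at hb
      subst hb
      have h1 := C.isPt_conj hlt (hL.pt b haL) h
      rw [hha] at h1
      have h2 := C.isPt_unique hlt hS h1 hr
      rw [hd, inv_inv] at h2
      calc α (P.σ b.1) = g * (g⁻¹ * α (P.σ b.1) * g) * g⁻¹ := by group
        _ = g * (h * P.σ b.1 * h⁻¹) * g⁻¹ := by rw [h2]
        _ = g * h * P.σ b.1 * (g * h)⁻¹ := by group

end Cert

end CfsgLib.CosetEnum
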