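/-
The centraliser of an element `x` in the stabiliser of a point: if a point `p` is determined up to the
orbit of `⟨x, t⟩` by its relations to its images, and a few points determine the identity, then this
centraliser is `⟨x⟩ × ⟨t⟩`.
-/
import Cfsg.Agent.Lib.CosetEnum.AutClass
import Mathlib.GroupTheory.Sylow

set_option autoImplicit false

namespace CfsgLib.CosetEnum

open Cfsg

/-- Iteration, for the kernel. -/
noncomputable def iterN (f : ℕ → ℕ) (m : ℕ) (d : ℕ) : ℕ := Nat.rec d (fun _ a => force a f) m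

theorem iterN_succ (f : ℕ → ℕ) (m d : ℕ) : iterN f (m + 1) d = f (iterN f m d) := by
  show force (iterN f m d) f = _
  rw [force_eq]

/-- The map to the partner of a point in the relation `i`. -/
noncomputable def partner (xf zf : ℕ → ℕ) (i q : ℕ) : ℕ :=
  Bool.rec (motive := fun _ => ℕ) (zf (iterN xf (i % 6 + 1) q)) (iterN xf (i % 6 + 1) q) (Nat.blt i 6)

/-- The relation `i` of a point given by the word `v`. -/
noncomputable def relD (T : Table) (k : ℕ) (xf zf : ℕ → ℕ) (i : ℕ) (v : List ℕ) (q : ℕ) : Bool :=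
  Bool.rec (motive := fun _ => Bool) (Nat.beq (zf q) q)
    (force (partner xf zf i q) fun a => Nat.beq (conjMap T k zf v a) a) (Nat.blt i 12)

/-- The data at a point for the reduction to the orbit of `p`. -/
noncomputable def okReach (T : Table) (k : ℕ) (xf zf : ℕ → ℕ) (R : Tree) (reps : Tree) (p : ℕ) (pw : List ℕ)
    (d : ℕ) : Bool :=
  force (entry R (nat_lit 32) (nat_lit 32) d) fun e => force (fld e (nat_lit 0) (nat_lit 20)) fun a =>
  force (fld e (nat_lit 20) (nat_lit 4)) fun kd => force (fld e (nat_lit 24) (nat_lit 8)) fun rk =>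
  (Nat.beq kd (nat_lit 0) && Nat.blt a T.n && Nat.beq (xf a) d &&
      Nat.blt (fld (entry R (nat_lit 32) (nat_lit 32) a) (nat_lit 24) (nat_lit 8)) rk) ||
  (Nat.beq kd (nat_lit 1) && Nat.blt a T.n && Nat.beq (zf a) d &&
      Nat.blt (fld (entry R (nat_lit 32) (nat_lit 32) a) (nat_lit 24) (nat_lit 8)) rk) ||
  (Nat.beq kd (nat_lit 2) && force (reps.get a) fun u => force (fld u (nat_lit 0) (nat_lit 4)) fun i =>
      force (Nat.shiftRight u (nat_lit 4)) fun w =>
        (wordOf w).all (fun x => Nat.blt x k) && Nat.beq (runT T k (wordOf w).reverse (nat_lit 0)) d &&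
          !(beqB (relD T k xf zf i (wordOf w) d) (relD T k xf zf i pw p))) ||
  (Nat.beq kd (nat_lit 3) && (Nat.beq d p || Nat.beq (xf d) d))

/-- The checks at a point for the element given by `xw`. -/
noncomputable def okXPoint (T : Table) (k : ℕ) (xw : List ℕ) (xf zf : ℕ → ℕ) (q : ℕ) (fs : List ℕ) (d : ℕ) : Bool :=
  Nat.beq (runT T k xw d) (xf d) && Nat.beq (iterN xf q d) d && force (xf d) (fun e => Nat.beq (xf (zf d)) (zf e) &&
    (Bool.rec (motive := fun _ => Bool) true (fs.any fun f => Nat.beq f d) (Nat.beq e d)))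

/-- One step of a derivation of fixed points. -/
noncomputable def stepPt (T : Table) (k : ℕ) (xf zf : ℕ → ℕ) (known : List ℕ) (s : ℕ × ℕ × List ℕ) : Option ℕ :=
  match s with
  | (0, b, _) => if b < known.length then some (xf (known.getD b 0)) else none
  | (1, b, _) => if b < known.length then some (zf (known.getD b 0)) else none
  | (a + 2, b, v) =>
      if (v.all fun x => Nat.blt x k) && Nat.beq (runT T k v.reverse 0) (known.getD a 0) && Nat.blt a known.length &&
          Nat.blt b known.length then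
        some (conjMap T k zf v (known.getD b 0)) else none

/-- The points derived by a list of steps. -/
noncomputable def derive (T : Table) (k : ℕ) (xf zf : ℕ → ℕ) : List ℕ → List (ℕ × ℕ × List ℕ) → Option (List ℕ)
  | known, [] => some known
  | known, s :: ss => match stepPt T k xf zf known s with
    | some c => derive T k xf zf (known ++ [c]) ss
    | none => none

/-- The derived points contain all of `goal`. -/
noncomputable def okDerive (T : Table) (k : ℕ) (xf zf : ℕ → ℕ) (start : List ℕ) (ss : List (ℕ × ℕ × List ℕ))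
    (goal : List ℕ) : Bool :=
  match derive T k xf zf start ss with
  | some known => goal.all fun q => known.any fun r => Nat.beq r q
  | none => false

/-- The checks at the points `lo, …, lo + m - 1`. -/
noncomputable def okRange (f : ℕ → Bool) (lo m : ℕ) : Bool := allN m fun i => force (Nat.add lo i) f

theorem okRange_sound {f : ℕ → Bool} {lo m : ℕ} (h : okRange f lo m = true) :
    (∀ d < lo, f d = true) → ∀ d < lo + m, f d = true := by
  intro hlo d hd
  by_cases hd' : d < lo
  · exact hlo d hd'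
  · have := allN_spec (f := fun i => force (Nat.add lo i) f) h (d - lo) (by omega)
    rwa [force_eq, show Nat.add lo (d - lo) = d by show lo + (d - lo) = d; omega] at this

namespace Cert

variable {P : Pres} (C : Cert P) (hlt : ∀ w ∈ P.rels, ∀ x ∈ w, x < P.k) (hid : ∀ i < P.k, P.idx (P.gen i) = i)

/-- An element realising a function on points. -/
def Realises (g : P.Grp) (f : ℕ → ℕ) : Prop := ∀ d : Fin C.T.n, (C.hom hlt g d : ℕ) = f d

include hid in
theorem isPt_word {t : P.Grp} (v : List ℕ) (hv : ∀ x ∈ v, x < P.k) {q : ℕ} (hq : q < C.T.n)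
    (hr : runT C.T C.D.k v.reverse 0 = q) :
    C.IsPt hlt t ((v.map P.σ).prod * t * ((v.map P.σ).prod)⁻¹) ⟨q, hq⟩ :=
  ⟨_, rfl, Fin.ext ((C.hom_word_run' hlt hid v hv _).trans hr)⟩

include hid in
theorem realises_conj {t : P.Grp} {zf : ℕ → ℕ} (hz : C.Realises hlt t zf) (v : List ℕ) (hv : ∀ x ∈ v, x < P.k) :
    C.Realises hlt ((v.map P.σ).prod * t * ((v.map P.σ).prod)⁻¹) (conjMap C.T C.D.k zf v) := by
  intro d
  rw [map_mul, Equiv.Perm.mul_apply, map_mul, Equiv.Perm.mul_apply, C.hom_word_run' hlt hid v hv, hz,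
    C.hom_inv_word hlt hid v hv, conjMap, force_eq, force_eq]

theorem realises_pow {g : P.Grp} {f : ℕ → ℕ} (hg : C.Realises hlt g f) :
    ∀ m : ℕ, C.Realises hlt (g ^ m) (iterN f m) := by
  intro m
  induction m with
  | zero => intro d; rw [pow_zero, map_one, Equiv.Perm.one_apply]; rfl
  | succ m ih => intro d; rw [pow_succ', map_mul, Equiv.Perm.mul_apply, hg, ih, iterN_succ]

variable {t xe : P.Grp} {xf zf : ℕ → ℕ}

include hid in
theorem relD_iff (hS : C.StabIsCent hlt t) (hz : C.Realises hlt t zf) (hx : C.Realises hlt xe xf)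
    (v : List ℕ) (hv : ∀ x ∈ v, x < P.k) {q : Fin C.T.n}
    (hr : runT C.T C.D.k v.reverse 0 = (q : ℕ)) (i : ℕ) :
    relD C.T C.D.k xf zf i v q = true ↔
      if i < 12 then
        ∀ d d', C.IsPt hlt t d q →
          C.IsPt hlt t d' (C.hom hlt (if i < 6 then xe ^ (i % 6 + 1) else t * xe ^ (i % 6 + 1)) q) → d * d' = d' * d
      else C.hom hlt t q = q := by
  unfold relD
  cases hb : Nat.blt i 12 with
  | false =>
    rw [if_neg (by intro h; rw [blt_iff.mpr h] at hb; simp at hb)]
    constructor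
    · intro h
      exact Fin.ext ((hz q).trans (Nat.eq_of_beq_eq_true h))
    · intro h
      show Nat.beq (zf q) q = true
      rw [← hz q, h]
      exact Nat.beq_refl _
  | true =>
    rw [if_pos (blt_iff.mp hb)]
    set e := if i < 6 then xe ^ (i % 6 + 1) else t * xe ^ (i % 6 + 1) with he
    have ha : partner xf zf i q = (C.hom hlt e q : ℕ) := by
      unfold partner
      cases hb6 : Nat.blt i 6 with
      | true =>
        rw [he, if_pos (blt_iff.mp hb6), C.realises_pow hlt hx]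
      | false =>
        rw [he, if_neg (by intro h; rw [blt_iff.mpr h] at hb6; simp at hb6), map_mul, Equiv.Perm.mul_apply,
          hz, C.realises_pow hlt hx]
    show force (partner xf zf i q) (fun a => Nat.beq (conjMap C.T C.D.k zf v a) a) = true ↔ _
    rw [force_eq, ha, ← C.realises_conj hlt hid hz v hv]
    have hq0 : C.IsPt hlt t ((v.map P.σ).prod * t * ((v.map P.σ).prod)⁻¹) q := C.isPt_word hlt hid v hv q.2 hr
    constructor
    · intro h d d' hd hd'
      rw [C.isPt_unique hlt hS hd hq0]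
      exact (C.isPt_fix hlt hS hd' _).mp (Fin.ext (Nat.eq_of_beq_eq_true h))
    · intro h
      obtain ⟨u, hu⟩ := C.exists_hom_zero hlt hid (C.hom hlt e q)
      have hd' : C.IsPt hlt t (u * t * u⁻¹) (C.hom hlt e q) := ⟨u, rfl, hu⟩
      rw [(C.isPt_fix hlt hS hd' _).mpr (h _ _ hq0 hd')]
      exact Nat.beq_refl _

include hid in
theorem relD_eq_of_cent (hS : C.StabIsCent hlt t) (hz : C.Realises hlt t zf) (hx : C.Realises hlt xe xf)
    {g : P.Grp} (hgt : g * t = t * g) (hgx : g * xe = xe * g)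
    (v : List ℕ) (hv : ∀ x ∈ v, x < P.k) {q : Fin C.T.n} (hr : runT C.T C.D.k v.reverse 0 = (q : ℕ))
    (w : List ℕ) (hw : ∀ x ∈ w, x < P.k) (hr' : runT C.T C.D.k w.reverse 0 = (C.hom hlt g q : ℕ)) (i : ℕ) :
    relD C.T C.D.k xf zf i w (C.hom hlt g q : ℕ) = relD C.T C.D.k xf zf i v q := by
  rw [Bool.eq_iff_iff, C.relD_iff hlt hid hS hz hx w hw hr', C.relD_iff hlt hid hS hz hx v hv hr]
  by_cases hi : i < 12
  · rw [if_pos hi, if_pos hi]
    set e := if i < 6 then xe ^ (i % 6 + 1) else t * xe ^ (i % 6 + 1) with he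
    have hge : e * g = g * e := by
      have hpow : ∀ m : ℕ, g * xe ^ m = xe ^ m * g := fun m => (Commute.pow_right hgx m).eq
      rw [he]
      split
      · exact (hpow _).symm
      · rw [mul_assoc, ← hpow, ← mul_assoc, ← hgt, mul_assoc]
    have ha : C.hom hlt e (C.hom hlt g q) = C.hom hlt g (C.hom hlt e q) := by
      rw [← Equiv.Perm.mul_apply, ← map_mul, hge, map_mul, Equiv.Perm.mul_apply]
    show (∀ d d', C.IsPt hlt t d _ → C.IsPt hlt t d' (C.hom hlt e (C.hom hlt g q)) → _) ↔ _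
    rw [ha]
    constructor
    · intro h d d' hd hd'
      have := h _ _ (C.isPt_conj hlt hd g) (C.isPt_conj hlt hd' g)
      calc d * d' = g⁻¹ * (g * d * g⁻¹ * (g * d' * g⁻¹)) * g := by group
        _ = g⁻¹ * (g * d' * g⁻¹ * (g * d * g⁻¹)) * g := by rw [this]
        _ = d' * d := by group
    · intro h d d' hd hd'
      have cancel : ∀ r, C.hom hlt g⁻¹ (C.hom hlt g r) = r := fun r => by
        rw [← Equiv.Perm.mul_apply, ← map_mul, inv_mul_cancel, map_one, Equiv.Perm.one_apply]
      have h1 := C.isPt_conj hlt hd g⁻¹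
      have h2 := C.isPt_conj hlt hd' g⁻¹
      rw [cancel] at h1 h2
      have := h _ _ h1 h2
      calc d * d' = g * (g⁻¹ * d * g⁻¹⁻¹ * (g⁻¹ * d' * g⁻¹⁻¹)) * g⁻¹ := by group
        _ = g * (g⁻¹ * d' * g⁻¹⁻¹ * (g⁻¹ * d * g⁻¹⁻¹)) * g⁻¹ := by rw [this]
        _ = d' * d := by group
  · rw [if_neg hi, if_neg hi, ← Equiv.Perm.mul_apply, ← map_mul, ← hgt, map_mul, Equiv.Perm.mul_apply]
    exact (C.hom hlt g).injective.eq_iff

include hid in
/-- An element centralising `t` and `x` sends `p` into its orbit under `⟨x, t⟩`. -/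
theorem exists_orbit_of_cent (hS : C.StabIsCent hlt t) (hz : C.Realises hlt t zf) (hx : C.Realises hlt xe xf)
    (hxt : xe * t = t * xe) (R reps : Tree) {p : Fin C.T.n} (pw : List ℕ) (hpw : ∀ x ∈ pw, x < P.k)
    (hp : runT C.T C.D.k pw.reverse 0 = (p : ℕ)) (hpx : xf p ≠ p)
    (hok : ∀ d < C.T.n, okReach C.T C.D.k xf zf R reps p pw d = true)
    {g : P.Grp} (hgt : g * t = t * g) (hgx : g * xe = xe * g) :
    ∃ h : P.Grp, (∃ i j : ℕ, h = xe ^ i * t ^ j) ∧ C.hom hlt h p = C.hom hlt g p := by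
  induction hr : fld (entry R 32 32 (C.hom hlt g p : ℕ)) 24 8 using Nat.strong_induction_on generalizing g with
  | _ r ih =>
    set d := C.hom hlt g p with hd
    have h := hok (d : ℕ) d.2
    simp only [okReach, force_eq, Bool.or_eq_true, Bool.and_eq_true, blt_iff] at h
    rcases h with ((⟨⟨⟨-, han⟩, hax⟩, hrk⟩ | ⟨⟨⟨-, han⟩, haz⟩, hrk⟩) | ⟨-, ⟨hw, hwd⟩, hne⟩) | ⟨-, h3⟩
    · have e : C.hom hlt xe ⟨_, han⟩ = d := Fin.ext ((hx _).trans (Nat.eq_of_beq_eq_true hax))
      have e' : C.hom hlt (xe⁻¹ * g) p = ⟨_, han⟩ := by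
        rw [map_mul, Equiv.Perm.mul_apply, ← hd]
        refine (congrArg _ e.symm).trans ?_
        rw [← Equiv.Perm.mul_apply, ← map_mul, inv_mul_cancel, map_one, Equiv.Perm.one_apply]
      obtain ⟨h, ⟨i, j, rfl⟩, hh⟩ := ih _ (hr ▸ hrk) (g := xe⁻¹ * g)
        ((Commute.mul_left (Commute.inv_left (show Commute xe t from hxt)) (show Commute g t from hgt)).eq)
        ((Commute.mul_left (Commute.inv_left (Commute.refl xe)) (show Commute g xe from hgx)).eq)
        (by rw [e'])
      refine ⟨xe * (xe ^ i * t ^ j), ⟨i + 1, j, by rw [pow_succ', mul_assoc]⟩, ?_⟩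
      rw [map_mul, Equiv.Perm.mul_apply, hh, e', e]
    · have e : C.hom hlt t ⟨_, han⟩ = d := Fin.ext ((hz _).trans (Nat.eq_of_beq_eq_true haz))
      have e' : C.hom hlt (t⁻¹ * g) p = ⟨_, han⟩ := by
        rw [map_mul, Equiv.Perm.mul_apply, ← hd]
        refine (congrArg _ e.symm).trans ?_
        rw [← Equiv.Perm.mul_apply, ← map_mul, inv_mul_cancel, map_one, Equiv.Perm.one_apply]
      obtain ⟨h, ⟨i, j, rfl⟩, hh⟩ := ih _ (hr ▸ hrk) (g := t⁻¹ * g)
        ((Commute.mul_left (Commute.inv_left (Commute.refl t)) (show Commute g t from hgt)).eq)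
        ((Commute.mul_left (Commute.inv_left (show Commute t xe from hxt.symm)) (show Commute g xe from hgx)).eq)
        (by rw [e'])
      refine ⟨t * (xe ^ i * t ^ j), ⟨i, j + 1, ?_⟩, ?_⟩
      · rw [pow_succ', ← mul_assoc, ← (Commute.pow_left (show Commute xe t from hxt) i).eq, mul_assoc]
      · rw [map_mul, Equiv.Perm.mul_apply, hh, e', e]
    · exfalso
      rw [List.all_eq_true] at hw
      have := C.relD_eq_of_cent hlt hid hS hz hx hgt hgx pw hpw hp _ (fun x hx => blt_iff.mp (hw x hx) |>.trans_eq C.hk)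
        (Nat.eq_of_beq_eq_true hwd) (fld (reps.get (fld (entry R 32 32 (d : ℕ)) 0 20)) 0 4)
      rw [this, Bool.not_eq_true'] at hne
      rw [Bool.eq_false_iff] at hne
      exact hne ((beqB_iff _ _).mpr rfl)
    · rcases h3 with h3 | h3
      · exact ⟨1, ⟨0, 0, by simp⟩, by rw [map_one, Equiv.Perm.one_apply]; exact (Fin.ext (Nat.eq_of_beq_eq_true h3)).symm⟩
      · exfalso
        apply hpx
        have e : C.hom hlt xe d = d := Fin.ext ((hx d).trans (Nat.eq_of_beq_eq_true h3))
        rw [hd, ← Equiv.Perm.mul_apply, ← map_mul, ← hgx, map_mul, Equiv.Perm.mul_apply] at e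
        have := (C.hom hlt g).injective e
        rw [← hx p, this]

include hid in
theorem derive_fixed (hS : C.StabIsCent hlt t) (hz : C.Realises hlt t zf) (hx : C.Realises hlt xe xf)
    {g : P.Grp} (hgt : g * t = t * g) (hgx : g * xe = xe * g) :
    ∀ (ss : List (ℕ × ℕ × List ℕ)) (known res : List ℕ),
      (∀ r ∈ known, ∃ hr : r < C.T.n, C.hom hlt g ⟨r, hr⟩ = ⟨r, hr⟩) →
      derive C.T C.D.k xf zf known ss = some res →
      ∀ r ∈ res, ∃ hr : r < C.T.n, C.hom hlt g ⟨r, hr⟩ = ⟨r, hr⟩ := by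
  intro ss
  induction ss with
  | nil => intro known res hk h; simp only [derive, Option.some.injEq] at h; exact h ▸ hk
  | cons s ss ih =>
    intro known res hk h
    simp only [derive] at h
    cases hs : stepPt C.T C.D.k xf zf known s with
    | none => rw [hs] at h; simp at h
    | some c =>
      rw [hs] at h
      refine ih _ res (fun r hr => ?_) h
      rcases List.mem_append.mp hr with hr | hr
      · exact hk r hr
      rw [List.mem_singleton] at hr
      subst hr
      have hget : ∀ b, b < known.length →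
          ∃ hb : known.getD b 0 < C.T.n, C.hom hlt g ⟨_, hb⟩ = ⟨_, hb⟩ := fun b hb => by
        rw [List.getD_eq_getElem _ _ hb]
        exact hk _ (List.getElem_mem _)
      obtain ⟨a, b, v⟩ := s
      rcases a with _ | _ | a
      · simp only [stepPt, Option.ite_none_right_eq_some, Option.some.injEq] at hs
        obtain ⟨hb, rfl⟩ := hs
        obtain ⟨hbn, hbf⟩ := hget b hb
        rw [← hx ⟨_, hbn⟩]
        refine ⟨Fin.isLt _, ?_⟩
        show C.hom hlt g (C.hom hlt xe ⟨_, hbn⟩) = C.hom hlt xe ⟨_, hbn⟩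
        rw [← Equiv.Perm.mul_apply, ← map_mul, hgx, map_mul, Equiv.Perm.mul_apply, hbf]
      · simp only [stepPt, Option.ite_none_right_eq_some, Option.some.injEq] at hs
        obtain ⟨hb, rfl⟩ := hs
        obtain ⟨hbn, hbf⟩ := hget b hb
        rw [← hz ⟨_, hbn⟩]
        refine ⟨Fin.isLt _, ?_⟩
        show C.hom hlt g (C.hom hlt t ⟨_, hbn⟩) = C.hom hlt t ⟨_, hbn⟩
        rw [← Equiv.Perm.mul_apply, ← map_mul, hgt, map_mul, Equiv.Perm.mul_apply, hbf]
      · simp only [stepPt, Option.ite_none_right_eq_some, Option.some.injEq, Bool.and_eq_true, List.all_eq_true,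
          blt_iff] at hs
        obtain ⟨⟨⟨⟨hv, hva⟩, ha⟩, hb⟩, rfl⟩ := hs
        obtain ⟨han, haf⟩ := hget a ha
        obtain ⟨hbn, hbf⟩ := hget b hb
        have hv' : ∀ x ∈ v, x < P.k := fun x hx => (hv x hx).trans_eq C.hk
        rw [← C.realises_conj hlt hid hz v hv' ⟨_, hbn⟩]
        refine ⟨Fin.isLt _, ?_⟩
        have hc := (C.isPt_fix hlt hS (C.isPt_word hlt hid v hv' han (Nat.eq_of_beq_eq_true hva)) g).mp haf
        set u := (v.map P.σ).prod * t * ((v.map P.σ).prod)⁻¹
        show C.hom hlt g (C.hom hlt u ⟨_, hbn⟩) = C.hom hlt u ⟨_, hbn⟩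
        rw [← Equiv.Perm.mul_apply, ← map_mul, hc, map_mul, Equiv.Perm.mul_apply, hbf]

include hid in
/-- The centraliser of `t` and `x` is `⟨x⟩ ⟨t⟩`. -/
theorem cent_eq (hS : C.StabIsCent hlt t) (hz : C.Realises hlt t zf) (hx : C.Realises hlt xe xf)
    (hxt : xe * t = t * xe) (R reps : Tree) {p : Fin C.T.n} (pw : List ℕ) (hpw : ∀ x ∈ pw, x < P.k)
    (hp : runT C.T C.D.k pw.reverse 0 = (p : ℕ)) (hpx : xf p ≠ p)
    (hok : ∀ d < C.T.n, okReach C.T C.D.k xf zf R reps p pw d = true)
    (ss : List (ℕ × ℕ × List ℕ)) {L : List (ℕ × ℕ)} (hL : C.Config hlt t L)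
    (hder : okDerive C.T C.D.k xf zf [0, (p : ℕ)] ss (L.map Prod.snd) = true)
    (hbot : ∀ g : P.Grp, (∀ a ∈ L, g * P.σ a.1 = P.σ a.1 * g) → g = 1)
    {g : P.Grp} (hgt : g * t = t * g) (hgx : g * xe = xe * g) : ∃ i j : ℕ, g = xe ^ i * t ^ j := by
  obtain ⟨h, ⟨i, j, rfl⟩, hh⟩ := C.exists_orbit_of_cent hlt hid hS hz hx hxt R reps pw hpw hp hpx hok hgt hgx
  refine ⟨i, j, ?_⟩
  set h := xe ^ i * t ^ j with hhd
  have hht : h * t = t * h := ((Commute.pow_left (show Commute xe t from hxt) i).mul_left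
    (Commute.pow_left (Commute.refl t) j)).eq
  have hhx : h * xe = xe * h := ((Commute.pow_left (Commute.refl xe) i).mul_left
    (Commute.pow_left (show Commute t xe from hxt.symm) j)).eq
  set u := h⁻¹ * g with hu
  have hut : u * t = t * u := ((Commute.inv_left (show Commute h t from hht)).mul_left (show Commute g t from hgt)).eq
  have hux : u * xe = xe * u := ((Commute.inv_left (show Commute h xe from hhx)).mul_left (show Commute g xe from hgx)).eq
  have hup : C.hom hlt u p = p := by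
    rw [hu, map_mul, Equiv.Perm.mul_apply, ← hh, ← Equiv.Perm.mul_apply, ← map_mul, inv_mul_cancel, map_one,
      Equiv.Perm.one_apply]
  unfold okDerive at hder
  cases hd : derive C.T C.D.k xf zf [0, (p : ℕ)] ss with
  | none => rw [hd] at hder; simp at hder
  | some res =>
    rw [hd] at hder
    simp only [List.all_eq_true, List.any_eq_true] at hder
    have hfix := C.derive_fixed hlt hid hS hz hx hut hux ss _ res (fun r hr => by
      rcases List.mem_cons.mp hr with rfl | hr
      · exact ⟨C.hn, (hS u).mpr hut⟩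
      · rw [List.mem_singleton] at hr
        subst hr
        exact ⟨p.2, hup⟩) hd
    have h1 : u = 1 := hbot u fun a ha => by
      obtain ⟨r, hr, he⟩ := hder a.2 (List.mem_map_of_mem ha)
      obtain ⟨hrn, hrf⟩ := hfix r hr
      refine (C.isPt_fix hlt hS (hL.pt a ha) u).mp ?_
      have : (⟨a.2, (hL.lt a ha).2⟩ : Fin C.T.n) = ⟨r, hrn⟩ := Fin.ext (Nat.eq_of_beq_eq_true he).symm
      rw [this]; exact hrf
    rw [hu, inv_mul_eq_one] at h1
    exact h1.symm

include hid in
/-- **Every involution commuting with `x` lies in the class.** -/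
theorem invol_cent_mem (hS : C.StabIsCent hlt t) (hz : C.Realises hlt t zf)
    (hx : C.Realises hlt xe xf) (hxt : xe * t = t * xe) (htt : t * t = 1) {q : ℕ} (hq : Odd q) (hxq : xe ^ q = 1)
    (hcent : ∀ g : P.Grp, g * t = t * g → g * xe = xe * g → ∃ i j : ℕ, g = xe ^ i * t ^ j)
    {A B : Fin C.T.n} (vA vB : List ℕ) (hvA : ∀ x ∈ vA, x < P.k) (hvB : ∀ x ∈ vB, x < P.k)
    (hrA : runT C.T C.D.k vA.reverse 0 = (A : ℕ)) (hrB : runT C.T C.D.k vB.reverse 0 = (B : ℕ))
    (hxA : xf A = A) (hxB : xf B = B) (hAB : A ≠ B) (hA0 : (A : ℕ) ≠ 0) (hB0 : (B : ℕ) ≠ 0)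
    (hswA : conjMap C.T C.D.k zf vA B = 0) (hswB : conjMap C.T C.D.k zf vB A = 0)
    (hfs : ∀ d : Fin C.T.n, xf d = d → (d : ℕ) = 0 ∨ d = A ∨ d = B)
    {s : P.Grp} (hs2 : s * s = 1) (hs1 : s ≠ 1) (hsx : s * xe = xe * s) : s ∈ conjugatesOf t := by
  -- involutions centralising both
  have base : ∀ u : P.Grp, u * u = 1 → u ≠ 1 → u * xe = xe * u → C.hom hlt u ⟨0, C.hn⟩ = ⟨0, C.hn⟩ → u = t := by
    intro u hu2 hu1 hux hu0
    obtain ⟨i, j, rfl⟩ := hcent u ((hS u).mp hu0) hux
    have hc : Commute (xe ^ i) (t ^ j) := ((show Commute xe t from hxt).pow_left i).pow_right j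
    have ht2 : t ^ j * t ^ j = 1 := by rw [← (Commute.refl t).mul_pow, htt, one_pow]
    have e : (xe ^ i) ^ 2 = 1 := by
      rw [pow_two, ← hu2, mul_assoc (xe ^ i) (t ^ j), ← mul_assoc (t ^ j) (xe ^ i), ← hc.eq, mul_assoc (xe ^ i) (t ^ j),
        ht2, mul_one]
    have hi : xe ^ i = 1 := by
      obtain ⟨m, hm⟩ := hq
      have e2 : (xe ^ i) ^ q = 1 := by rw [← pow_mul, mul_comm, pow_mul, hxq, one_pow]
      rw [hm, pow_succ, pow_mul, e, one_pow, one_mul] at e2
      exact e2
    rw [hi, one_mul] at hu1 ⊢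
    rcases Nat.even_or_odd j with ⟨m, rfl⟩ | ⟨m, rfl⟩
    · rw [← two_mul, pow_mul, pow_two, htt, one_pow] at hu1
      exact absurd rfl hu1
    · rw [pow_succ, pow_mul, pow_two, htt, one_pow, one_mul]
  have fixA : C.hom hlt xe A = A := Fin.ext ((hx A).trans hxA)
  have fixB : C.hom hlt xe B = B := Fin.ext ((hx B).trans hxB)
  set y := C.hom hlt s ⟨0, C.hn⟩ with hy
  have hy' : xf y = y := by
    rw [← hx y, hy, ← Equiv.Perm.mul_apply, ← map_mul, ← hsx, map_mul, Equiv.Perm.mul_apply,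
      show C.hom hlt xe ⟨0, C.hn⟩ = ⟨0, C.hn⟩ from (hS xe).mpr hxt]
  have sinv : ∀ d, C.hom hlt s (C.hom hlt s d) = d := fun d => by
    rw [← Equiv.Perm.mul_apply, ← map_mul, hs2, map_one, Equiv.Perm.one_apply]
  -- moving a fixed point of `s` to the base point
  have mv : ∀ (X Y : Fin C.T.n) (v : List ℕ), (∀ x ∈ v, x < P.k) → runT C.T C.D.k v.reverse 0 = (X : ℕ) →
      C.hom hlt xe X = X → conjMap C.T C.D.k zf v Y = 0 → C.hom hlt s Y = Y → s ∈ conjugatesOf t := by
    intro X Y v hv hr hX hsw hsY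
    set u := (v.map P.σ).prod * t * ((v.map P.σ).prod)⁻¹ with hu
    have hux : Commute u xe :=
      ((C.isPt_fix hlt hS (C.isPt_word hlt hid v hv X.2 hr) xe).mp hX).symm
    have huY : C.hom hlt u Y = ⟨0, C.hn⟩ := Fin.ext ((C.realises_conj hlt hid hz v hv Y).trans hsw)
    have h0 : C.hom hlt (u * s * u⁻¹) ⟨0, C.hn⟩ = ⟨0, C.hn⟩ := by
      rw [← huY, ← Equiv.Perm.mul_apply, ← map_mul, inv_mul_cancel_right, map_mul, Equiv.Perm.mul_apply, hsY]
    have := base (u * s * u⁻¹) (by rw [show u * s * u⁻¹ * (u * s * u⁻¹) = u * (s * s) * u⁻¹ by group, hs2, mul_one,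
      mul_inv_cancel]) (fun e => hs1 (conj_eq_one_iff.mp e))
      ((hux.mul_left (show Commute s xe from hsx)).mul_left hux.inv_left).eq h0
    exact isConj_iff.mpr ⟨u⁻¹, by rw [← this]; group⟩
  rcases hfs y hy' with h | h | h
  · exact (base s hs2 hs1 hsx (Fin.ext h)) ▸ mem_conjugatesOf_self
  · -- `s` exchanges the base point with `A`, so fixes `B`
    refine mv A B vA hvA hrA fixA hswA ?_
    have hsA : C.hom hlt s A = ⟨0, C.hn⟩ := by rw [← h, hy, sinv]
    have hB' : xf (C.hom hlt s B) = C.hom hlt s B := by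
      rw [← hx (C.hom hlt s B), ← Equiv.Perm.mul_apply, ← map_mul, ← hsx, map_mul, Equiv.Perm.mul_apply, fixB]
    rcases hfs _ hB' with e | e | e
    · exact absurd ((C.hom hlt s).injective ((show C.hom hlt s B = ⟨0, C.hn⟩ from Fin.ext e).trans hsA.symm)) hAB.symm
    · have := congrArg (C.hom hlt s) e
      rw [sinv, hsA] at this
      exact absurd (congrArg Fin.val this) hB0
    · exact e
  · refine mv B A vB hvB hrB fixB hswB ?_
    have hsB : C.hom hlt s B = ⟨0, C.hn⟩ := by rw [← h, hy, sinv]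
    have hA' : xf (C.hom hlt s A) = C.hom hlt s A := by
      rw [← hx (C.hom hlt s A), ← Equiv.Perm.mul_apply, ← map_mul, ← hsx, map_mul, Equiv.Perm.mul_apply, fixA]
    rcases hfs _ hA' with e | e | e
    · exact absurd ((C.hom hlt s).injective ((show C.hom hlt s A = ⟨0, C.hn⟩ from Fin.ext e).trans hsB.symm)) hAB
    · exact e
    · have := congrArg (C.hom hlt s) e
      rw [sinv, hsB] at this
      exact absurd (congrArg Fin.val this) hA0

/-- An automorphism sends `t` into the class when every involution commuting with `x` lies in it and `⟨x⟩` is a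
Sylow subgroup. -/
theorem aut_mem [Finite P.Grp] {q : ℕ} [Fact q.Prime] (hx : orderOf xe = q) (hnd : ¬ q * q ∣ Nat.card P.Grp)
    (hxt : xe * t = t * xe) (htt : t * t = 1) (ht1 : t ≠ 1)
    (hinv : ∀ s : P.Grp, s * s = 1 → s ≠ 1 → s * xe = xe * s → s ∈ conjugatesOf t)
    (α : P.Grp ≃* P.Grp) : α t ∈ conjugatesOf t := by
  have mk : ∀ y : P.Grp, orderOf y = q → ∃ S : Sylow q P.Grp, (S : Subgroup P.Grp) = Subgroup.zpowers y := by
    intro y hy
    have hp : IsPGroup q (Subgroup.zpowers y) := IsPGroup.of_card (n := 1) (by rw [Nat.card_zpowers, hy, pow_one])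
    have hi : ¬ q ∣ (Subgroup.zpowers y).index := fun hd => hnd (by
      rw [← (Subgroup.zpowers y).card_mul_index, Nat.card_zpowers, hy]
      exact mul_dvd_mul_left _ hd)
    exact ⟨hp.toSylow hi, rfl⟩
  obtain ⟨S, hS⟩ := mk xe hx
  obtain ⟨S', hS'⟩ := mk (α xe) (by rw [MulEquiv.orderOf_eq, hx])
  obtain ⟨g, hg⟩ := MulAction.exists_smul_eq P.Grp S S'
  have hmem : g * xe * g⁻¹ ∈ Subgroup.zpowers (α xe) := by
    rw [← hS', ← hg, Sylow.coe_subgroup_smul]
    exact ⟨xe, by rw [hS]; exact Subgroup.mem_zpowers xe, rfl⟩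
  have hc : Commute (α t) (g * xe * g⁻¹) := by
    obtain ⟨m, hm⟩ := Subgroup.mem_zpowers_iff.mp hmem
    rw [← hm]
    refine Commute.zpow_right ?_ m
    show α t * α xe = α xe * α t
    rw [← map_mul, ← map_mul, hxt]
  have h := hinv (g⁻¹ * α t * g) (by
      rw [show g⁻¹ * α t * g * (g⁻¹ * α t * g) = g⁻¹ * (α t * α t) * g by group, ← map_mul, htt, map_one, mul_one,
        inv_mul_cancel])
    (fun e => ht1 (α.injective (by
      rw [map_one]
      calc α t = g * (g⁻¹ * α t * g) * g⁻¹ := by group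
        _ = 1 := by rw [e]; group)))
    (by
      calc g⁻¹ * α t * g * xe = g⁻¹ * (α t * (g * xe * g⁻¹)) * g := by group
        _ = g⁻¹ * (g * xe * g⁻¹ * α t) * g := by rw [hc.eq]
        _ = xe * (g⁻¹ * α t * g) := by group)
  obtain ⟨u, hu⟩ := isConj_iff.mp h
  exact isConj_iff.mpr ⟨g * u, by
    calc g * u * t * (g * u)⁻¹ = g * (u * t * u⁻¹) * g⁻¹ := by group
      _ = α t := by rw [hu]; group⟩

end Cert

end CfsgLib.CosetEnum
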