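/-
The number of automorphisms preserving a class is at most the product of the numbers of extensions of the
initial segments of a generating configuration; the sign of an involutory permutation.
-/
import Cfsg.Agent.Lib.CosetEnum.AutCent
import Mathlib.GroupTheory.Perm.Cycle.Type

set_option autoImplicit false

namespace CfsgLib.CosetEnum

open Cfsg

theorem sign_of_sq {n : ℕ} (π : Equiv.Perm (Fin n)) (h : π * π = 1) :
    Equiv.Perm.sign π = (-1 : ℤˣ) ^ (π.support.card / 2) := by
  have h2 : ∀ i ∈ π.cycleType, i = 2 := fun i hi => by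
    have h1 := Equiv.Perm.two_le_of_mem_cycleType hi
    have h3 : i ∣ 2 := (Equiv.Perm.dvd_of_mem_cycleType hi).trans (orderOf_dvd_of_pow_eq_one (by rw [pow_two, h]))
    have := Nat.le_of_dvd (by norm_num) h3
    omega
  have hr := Multiset.eq_replicate_card.mpr h2
  have hs : π.support.card = π.cycleType.card * 2 := by
    rw [← Equiv.Perm.sum_cycleType]
    conv_lhs => rw [hr]
    rw [Multiset.sum_replicate, smul_eq_mul]
  rw [Equiv.Perm.sign_of_cycleType, Equiv.Perm.sum_cycleType, hs, Nat.mul_div_cancel _ (by norm_num),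
    pow_add, mul_comm π.cycleType.card 2, pow_mul]
  simp

namespace Cert

variable {P : Pres} (C : Cert P) (hlt : ∀ w ∈ P.rels, ∀ x ∈ w, x < P.k) (hid : ∀ i < P.k, P.idx (P.gen i) = i)
  {t : P.Grp}

theorem isPt_unique' (hS : C.StabIsCent hlt t) {d : P.Grp} {q q' : Fin C.T.n} (h : C.IsPt hlt t d q)
    (h' : C.IsPt hlt t d q') : q = q' := by
  obtain ⟨u, hu, rfl⟩ := h
  obtain ⟨v, hv, rfl⟩ := h'
  have hc : (v⁻¹ * u) * t = t * (v⁻¹ * u) := by
    calc (v⁻¹ * u) * t = v⁻¹ * (u * t * u⁻¹) * u := by group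
      _ = v⁻¹ * (v * t * v⁻¹) * u := by rw [hu, hv]
      _ = t * (v⁻¹ * u) := by group
  have h2 := congrArg (C.hom hlt v) ((hS _).mpr hc)
  rwa [← Equiv.Perm.mul_apply (C.hom hlt v), ← map_mul, mul_inv_cancel_left] at h2

/-- The automorphisms fixing the members in `pre`. -/
def autFix (pre : List (ℕ × ℕ)) : Subgroup (MulAut P.Grp) where
  carrier := {α | ∀ a ∈ pre, α (P.σ a.1) = P.σ a.1}
  one_mem' a _ := rfl
  mul_mem' {α β} hα hβ a ha := by show α (β _) = _; rw [hβ a ha, hα a ha]
  inv_mem' {α} hα a ha := by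
    show α.symm _ = _
    rw [MulEquiv.symm_apply_eq, hα a ha]

include hid in
theorem autFix_card_le [Finite P.Grp] (hS : C.StabIsCent hlt t) (hα : ∀ α : MulAut P.Grp, α t ∈ conjugatesOf t)
    {L : List (ℕ × ℕ)} (hL : C.Config hlt t L) (hbot : autFix (P := P) L = ⊥) :
    ∀ (rest pre : List (ℕ × ℕ)) (cs : List ℕ), L = pre ++ rest → okCounts C.T C.D.k pre rest cs = true →
      Nat.card (autFix (P := P) pre) ≤ cs.prod := by
  intro rest
  induction rest with
  | nil =>
    intro pre cs hLe hok
    cases cs with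
    | nil =>
      rw [List.append_nil] at hLe
      rw [← hLe, hbot]
      simp
    | cons c cs => simp [okCounts] at hok
  | cons a rest ih =>
    intro pre cs hLe hok
    cases cs with
    | nil => simp [okCounts] at hok
    | cons c cs =>
      simp only [okCounts, Bool.and_eq_true] at hok
      have haL : a ∈ L := by rw [hLe]; simp
      have hle := ih (pre ++ [a]) cs (by rw [hLe]; simp) hok.2
      haveI : Finite (MulAut P.Grp) := Finite.of_injective (fun α => (α : P.Grp → P.Grp)) DFunLike.coe_injective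
      set A := autFix (P := P) pre
      have h1 := (MulAction.stabilizer A (P.σ a.1)).card_mul_index
      have h3 : Nat.card (MulAction.stabilizer A (P.σ a.1)) = Nat.card (autFix (P := P) (pre ++ [a])) := by
        refine Nat.card_congr
          { toFun := fun α => ⟨α.1.1, ?_⟩
            invFun := fun α => ⟨⟨α.1, ?_⟩, ?_⟩
            left_inv := fun _ => rfl
            right_inv := fun _ => rfl }
        · intro b hb
          rcases List.mem_append.mp hb with hb | hb
          · exact α.1.2 b hb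
          · rw [List.mem_singleton] at hb; subst hb; exact α.2
        · intro b hb
          exact α.2 b (List.mem_append_left _ hb)
        · exact α.2 a (by simp)
      have himg : ∀ x ∈ MulAction.orbit A (P.σ a.1), ∃ r ∈ C.patSet pre a.2, C.IsPt hlt t x r := by
        rintro _ ⟨α, rfl⟩
        have hsm : (fun m : A => m • P.σ a.1) α = α.1 (P.σ a.1) := rfl
        rw [hsm]
        have hmem : α.1 (P.σ a.1) ∈ conjugatesOf t := by
          obtain ⟨u, hu⟩ := isConj_iff.mp (C.isPt_mem hlt (hL.pt a haL))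
          obtain ⟨v, hv⟩ := isConj_iff.mp (hα α.1)
          refine isConj_iff.mpr ⟨α.1 u * v, ?_⟩
          rw [← hu, map_mul, map_mul, map_inv, ← hv]
          group
        obtain ⟨r, hr⟩ := C.isPt_of_mem hlt hmem
        refine ⟨r, ?_, hr⟩
        show patOK _ _ _ _ _ = true
        rw [patOK_iff]
        intro b hb
        have hbL : b ∈ L := by rw [hLe]; simp [hb]
        have hb' := α.2 b hb
        refine ⟨fun e => ?_, ?_⟩
        · have e' : r = ⟨b.2, (hL.lt b hbL).2⟩ := Fin.ext e
          rw [e'] at hr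
          have hpb := hL.pt b hbL
          rw [← hb'] at hpb
          have h4 := α.1.injective (C.isPt_unique hlt hS hr hpb)
          have h5 := hL.pt a haL
          rw [h4] at h5
          have h6 := congrArg Fin.val (C.isPt_unique' hlt hS h5 (hL.pt b hbL))
          have hn := hL.nodup
          rw [hLe, List.map_append, List.nodup_append] at hn
          exact hn.2.2 b.2 (List.mem_map_of_mem hb) a.2 (by simp) h6.symm
        · rw [← C.hom_act hlt hid (hL.lt b hbL).1, ← C.hom_act hlt hid (hL.lt b hbL).1 ⟨a.2, (hL.lt a haL).2⟩]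
          refine (Fin.ext_iff.symm.trans (C.isPt_fix hlt hS hr _)).trans (Iff.trans ?_
            ((C.isPt_fix hlt hS (hL.pt a haL) (P.σ b.1)).symm.trans
              (Fin.ext_iff (a := C.hom hlt (P.σ b.1) ⟨a.2, (hL.lt a haL).2⟩) (b := ⟨a.2, (hL.lt a haL).2⟩))))
          conv_lhs => rw [← hb']
          rw [← map_mul, ← map_mul, EmbeddingLike.apply_eq_iff_eq]
      choose pt hptmem hpt using himg
      have hidx : (MulAction.stabilizer A (P.σ a.1)).index ≤ c := by
        rw [MulAction.index_stabilizer, ← Nat.eq_of_beq_eq_true hok.1, ← C.ncard_patSet, ← Nat.card_coe_set_eq,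
          ← Nat.card_coe_set_eq]
        refine Nat.card_le_card_of_injective (fun x => ⟨pt x.1 x.2, hptmem x.1 x.2⟩) fun x y e => Subtype.ext ?_
        have e' : pt x.1 x.2 = pt y.1 y.2 := congrArg Subtype.val e
        have hx := hpt x.1 x.2
        rw [e'] at hx
        exact C.isPt_unique hlt hS hx (hpt y.1 y.2)
      rw [List.prod_cons, ← h1, h3, mul_comm]
      exact Nat.mul_le_mul hidx hle

include hid in
/-- **Every involution commuting with `x` is `t`**, when `x` fixes only the base point. -/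
theorem invol_cent_eq (hS : C.StabIsCent hlt t) {xe : P.Grp} {xf : ℕ → ℕ} (hx : C.Realises hlt xe xf)
    (hxt : xe * t = t * xe) (htt : t * t = 1) {q : ℕ} (hq : Odd q) (hxq : xe ^ q = 1)
    (hcent : ∀ g : P.Grp, g * t = t * g → g * xe = xe * g → ∃ i j : ℕ, g = xe ^ i * t ^ j)
    (hfs : ∀ d : Fin C.T.n, xf d = d → (d : ℕ) = 0)
    {s : P.Grp} (hs2 : s * s = 1) (hs1 : s ≠ 1) (hsx : s * xe = xe * s) : s = t := by
  have hs0 : C.hom hlt s ⟨0, C.hn⟩ = ⟨0, C.hn⟩ := Fin.ext (hfs _ (by
    rw [← hx, ← Equiv.Perm.mul_apply, ← map_mul, ← hsx, map_mul, Equiv.Perm.mul_apply,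
      show C.hom hlt xe ⟨0, C.hn⟩ = ⟨0, C.hn⟩ from (hS xe).mpr hxt]))
  obtain ⟨i, j, rfl⟩ := hcent s ((hS s).mp hs0) hsx
  have hc : Commute (xe ^ i) (t ^ j) := ((show Commute xe t from hxt).pow_left i).pow_right j
  have ht2 : t ^ j * t ^ j = 1 := by rw [← (Commute.refl t).mul_pow, htt, one_pow]
  have e : (xe ^ i) ^ 2 = 1 := by
    rw [pow_two, ← hs2, mul_assoc (xe ^ i) (t ^ j), ← mul_assoc (t ^ j) (xe ^ i), ← hc.eq, mul_assoc (xe ^ i) (t ^ j),
      ht2, mul_one]
  have hi : xe ^ i = 1 := by
    obtain ⟨m, hm⟩ := hq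
    have e2 : (xe ^ i) ^ q = 1 := by rw [← pow_mul, mul_comm, pow_mul, hxq, one_pow]
    rw [hm, pow_succ, pow_mul, e, one_pow, one_mul] at e2
    exact e2
  rw [hi, one_mul] at hs1 ⊢
  rcases Nat.even_or_odd j with ⟨m, rfl⟩ | ⟨m, rfl⟩
  · rw [← two_mul, pow_mul, pow_two, htt, one_pow] at hs1
    exact absurd rfl hs1
  · rw [pow_succ, pow_mul, pow_two, htt, one_pow, one_mul]

end Cert

end CfsgLib.CosetEnum
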