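/-
When the numbers of extensions multiply to the order of the automorphism group, every tuple of members with the
pattern of an initial segment of the configuration is the image of that segment.
-/
import Cfsg.Agent.Lib.CosetEnum.AutCount

set_option autoImplicit false

namespace CfsgLib.CosetEnum

namespace Cert

variable {P : Pres} (C : Cert P) (hlt : ∀ w ∈ P.rels, ∀ x ∈ w, x < P.k) (hid : ∀ i < P.k, P.idx (P.gen i) = i)
  {t : P.Grp}

/-- A tuple of members with the pattern of a list of generators. -/
structure Pat (t : P.Grp) (pre : List (ℕ × ℕ)) (y : ℕ → P.Grp) : Prop where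
  mem : ∀ a ∈ pre, y a.1 ∈ conjugatesOf t
  inj : ∀ a ∈ pre, ∀ b ∈ pre, y a.1 = y b.1 → a = b
  comm : ∀ a ∈ pre, ∀ b ∈ pre, Commute (y a.1) (y b.1) ↔ Commute (P.σ a.1) (P.σ b.1)

theorem Pat.mono {pre pre' : List (ℕ × ℕ)} {y : ℕ → P.Grp} (h : Pat t pre y) (hs : ∀ a ∈ pre', a ∈ pre) :
    Pat t pre' y :=
  ⟨fun a ha => h.mem a (hs a ha), fun a ha b hb => h.inj a (hs a ha) b (hs b hb),
    fun a ha b hb => h.comm a (hs a ha) b (hs b hb)⟩

include hid in
theorem pat_iff (hS : C.StabIsCent hlt t) {L : List (ℕ × ℕ)} (hL : C.Config hlt t L) {a b : ℕ × ℕ} (ha : a ∈ L)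
    (hb : b ∈ L) {d : P.Grp} {r : Fin C.T.n} (hr : C.IsPt hlt t d r) :
    ((C.T.act C.D.k r b.1 = r ↔ C.T.act C.D.k a.2 b.1 = a.2) ↔ (Commute d (P.σ b.1) ↔ Commute (P.σ a.1) (P.σ b.1))) := by
  have h1 : C.T.act C.D.k r b.1 = r ↔ Commute d (P.σ b.1) := by
    rw [← C.hom_act hlt hid (hL.lt b hb).1]
    exact Fin.ext_iff.symm.trans ((C.isPt_fix hlt hS hr _).trans ⟨fun h => (h.symm : _), fun h => h.eq.symm⟩)
  have h2 : C.T.act C.D.k a.2 b.1 = a.2 ↔ Commute (P.σ a.1) (P.σ b.1) := by
    rw [← C.hom_act hlt hid (hL.lt b hb).1 ⟨a.2, (hL.lt a ha).2⟩]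
    exact (Fin.ext_iff (a := C.hom hlt (P.σ b.1) ⟨a.2, (hL.lt a ha).2⟩) (b := ⟨a.2, (hL.lt a ha).2⟩)).symm.trans
      ((C.isPt_fix hlt hS (hL.pt a ha) _).trans ⟨fun h => (h.symm : _), fun h => h.eq.symm⟩)
  rw [h1, h2]

include hid in
theorem orbit_full [Finite P.Grp] (hS : C.StabIsCent hlt t) (hα : ∀ α : MulAut P.Grp, α t ∈ conjugatesOf t)
    {L : List (ℕ × ℕ)} (hL : C.Config hlt t L) (hbot : autFix (P := P) L = ⊥) :
    ∀ (rest pre : List (ℕ × ℕ)) (cs : List ℕ), L = pre ++ rest → okCounts C.T C.D.k pre rest cs = true →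
      Nat.card (autFix (P := P) pre) = cs.prod → ∀ (pre' : List (ℕ × ℕ)) (a : ℕ × ℕ) (rest' : List (ℕ × ℕ)),
      rest = pre' ++ a :: rest' → ∀ r ∈ C.patSet (pre ++ pre') a.2,
      ∃ α ∈ autFix (P := P) (pre ++ pre'), C.IsPt hlt t (α (P.σ a.1)) r := by
  intro rest
  induction rest with
  | nil => intro pre cs _ _ _ pre' a rest' h; simp at h
  | cons a rest ih =>
    intro pre cs hLe hok hcard
    cases cs with
    | nil => simp [okCounts] at hok
    | cons c cs =>
      simp only [okCounts, Bool.and_eq_true] at hok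
      have haL : a ∈ L := by rw [hLe]; simp
      haveI : Finite (MulAut P.Grp) := Finite.of_injective (fun α => (α : P.Grp → P.Grp)) DFunLike.coe_injective
      set A := autFix (P := P) pre with hA
      have h1 := (MulAction.stabilizer A (P.σ a.1)).card_mul_index
      have h3 : Nat.card (MulAction.stabilizer A (P.σ a.1)) = Nat.card (autFix (P := P) (pre ++ [a])) := by
        refine Nat.card_congr
          { toFun := fun α => ⟨α.1.1, ?_⟩
            invFun := fun α => ⟨⟨α.1, ?_⟩, ?_⟩
            left_inv := fun _ => rfl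
            right_inv := fun _ => rfl }
        · intro b hb
          rcases List.mem_append.mp hb with hb | hb
          · exact α.1.2 b hb
          · rw [List.mem_singleton] at hb; subst hb; exact α.2
        · intro b hb
          exact α.2 b (List.mem_append_left _ hb)
        · exact α.2 a (by simp)
      have himg : ∀ x ∈ MulAction.orbit A (P.σ a.1), ∃ r ∈ C.patSet pre a.2, C.IsPt hlt t x r := by
        rintro _ ⟨α, rfl⟩
        have hsm : (fun m : A => m • P.σ a.1) α = α.1 (P.σ a.1) := rfl
        rw [hsm]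
        have hmem : α.1 (P.σ a.1) ∈ conjugatesOf t := by
          obtain ⟨u, hu⟩ := isConj_iff.mp (C.isPt_mem hlt (hL.pt a haL))
          obtain ⟨v, hv⟩ := isConj_iff.mp (hα α.1)
          refine isConj_iff.mpr ⟨α.1 u * v, ?_⟩
          rw [← hu, map_mul, map_mul, map_inv, ← hv]
          group
        obtain ⟨r, hr⟩ := C.isPt_of_mem hlt hmem
        refine ⟨r, ?_, hr⟩
        show patOK _ _ _ _ _ = true
        rw [patOK_iff]
        intro b hb
        have hbL : b ∈ L := by rw [hLe]; simp [hb]
        have hb' := α.2 b hb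
        refine ⟨fun e => ?_, (C.pat_iff hlt hid hS hL haL hbL hr).mpr ?_⟩
        · rw [show r = ⟨b.2, (hL.lt b hbL).2⟩ from Fin.ext e] at hr
          have hpb := hL.pt b hbL
          rw [← hb'] at hpb
          have h4 := α.1.injective (C.isPt_unique hlt hS hr hpb)
          have h5 := hL.pt a haL
          rw [h4] at h5
          have h6 := congrArg Fin.val (C.isPt_unique' hlt hS h5 (hL.pt b hbL))
          have hn := hL.nodup
          rw [hLe, List.map_append, List.nodup_append] at hn
          exact hn.2.2 b.2 (List.mem_map_of_mem hb) a.2 (by simp) h6.symm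
        · conv_lhs => rw [← hb']
          unfold Commute SemiconjBy
          rw [← map_mul, ← map_mul, EmbeddingLike.apply_eq_iff_eq]
      set O := MulAction.orbit A (P.σ a.1)
      choose pt hptmem hpt using himg
      let f : O → C.patSet pre a.2 := fun x => ⟨pt x.1 x.2, hptmem x.1 x.2⟩
      have hf : Function.Injective f := fun x y e => by
        apply Subtype.ext
        have e' : pt x.1 x.2 = pt y.1 y.2 := congrArg Subtype.val e
        have hx := hpt x.1 x.2
        rw [e'] at hx
        exact C.isPt_unique hlt hS hx (hpt y.1 y.2)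
      have hpc : Nat.card (C.patSet pre a.2) = c := by
        rw [Nat.card_coe_set_eq, C.ncard_patSet]; exact Nat.eq_of_beq_eq_true hok.1
      have hidx : (MulAction.stabilizer A (P.σ a.1)).index = Nat.card O := by
        rw [MulAction.index_stabilizer, Nat.card_coe_set_eq]
      have hO : Nat.card O ≤ c := hpc ▸ Nat.card_le_card_of_injective f hf
      have hnext : Nat.card (autFix (P := P) (pre ++ [a])) ≤ cs.prod :=
        C.autFix_card_le hlt hid hS hα hL hbot rest (pre ++ [a]) cs (by rw [hLe]; simp) hok.2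
      rw [List.prod_cons, ← h1, h3, hidx] at hcard
      set m := Nat.card (autFix (P := P) (pre ++ [a]))
      have hmpos : 0 < m := Nat.card_pos
      have hOpos : 0 < Nat.card O := by
        haveI : Nonempty O := ⟨⟨_, MulAction.mem_orbit_self _⟩⟩
        exact Nat.card_pos
      have hm : m = cs.prod := by
        by_contra hne
        have : m * Nat.card O < cs.prod * c :=
          lt_of_le_of_lt (Nat.mul_le_mul_left m hO) (Nat.mul_lt_mul_of_pos_right (lt_of_le_of_ne hnext hne) (by omega))
        rw [hcard, mul_comm] at this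
        exact lt_irrefl _ this
      have hOc : Nat.card O = c := Nat.eq_of_mul_eq_mul_left hmpos (by rw [hcard, hm, mul_comm])
      intro pre' b rest' he r hr
      cases pre' with
      | nil =>
        simp only [List.nil_append, List.cons.injEq] at he
        rw [List.append_nil] at hr ⊢
        rw [← he.1] at hr ⊢
        obtain ⟨⟨x, hx⟩, hfx⟩ := ((Nat.bijective_iff_injective_and_card f).mpr ⟨hf, hOc.trans hpc.symm⟩).2 ⟨r, hr⟩
        obtain ⟨α, rfl⟩ := hx
        refine ⟨α.1, α.2, ?_⟩
        have h := hpt _ ⟨α, rfl⟩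
        rwa [show pt _ _ = r from congrArg Subtype.val hfx] at h
      | cons a' pre' =>
        simp only [List.cons_append, List.cons.injEq] at he
        obtain ⟨rfl, he⟩ := he
        rw [show pre ++ a :: pre' = pre ++ [a] ++ pre' by simp] at hr ⊢
        exact ih (pre ++ [a]) cs (by rw [hLe]; simp) hok.2 hm pre' b rest' he r hr

include hid in
/-- **Tuples with the pattern of an initial segment are images of it.** -/
theorem exists_aut_tuple [Finite P.Grp] (hS : C.StabIsCent hlt t) (hα : ∀ α : MulAut P.Grp, α t ∈ conjugatesOf t)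
    {L : List (ℕ × ℕ)} (hL : C.Config hlt t L) (hbot : autFix (P := P) L = ⊥) {cs : List ℕ}
    (hok : okCounts C.T C.D.k [] L cs = true) (hcard : Nat.card (MulAut P.Grp) = cs.prod) {y : ℕ → P.Grp} :
    ∀ (pre rest : List (ℕ × ℕ)), L = pre ++ rest → Pat t pre y → ∃ α : MulAut P.Grp, ∀ a ∈ pre, α (P.σ a.1) = y a.1 := by
  intro pre
  induction pre using List.reverseRecOn with
  | nil => exact fun _ _ _ => ⟨1, by simp⟩
  | append_singleton pre a ih =>
    intro rest hLe hy
    obtain ⟨α, hα'⟩ := ih (a :: rest) (by rw [hLe]; simp) (hy.mono fun b hb => List.mem_append_left _ hb)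
    have haL : a ∈ L := by rw [hLe]; simp
    set d := α.symm (y a.1) with hd
    have hmem : d ∈ conjugatesOf t := by
      obtain ⟨u, hu⟩ := isConj_iff.mp (hy.mem a (by simp))
      obtain ⟨v, hv⟩ := isConj_iff.mp (hα α.symm)
      refine isConj_iff.mpr ⟨α.symm u * v, ?_⟩
      rw [hd, ← hu, map_mul, map_mul, map_inv, ← hv]
      group
    obtain ⟨r, hr⟩ := C.isPt_of_mem hlt hmem
    have htop : Nat.card (autFix (P := P) ([] : List (ℕ × ℕ))) = cs.prod := by
      rw [show autFix (P := P) [] = ⊤ by rw [eq_top_iff]; intro α _ a ha; simp at ha, Subgroup.card_top, hcard]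
    have hrpat : r ∈ C.patSet ([] ++ pre) a.2 := by
      show patOK _ _ _ _ _ = true
      rw [List.nil_append, patOK_iff]
      intro b hb
      have hbL : b ∈ L := by rw [hLe]; simp [hb]
      refine ⟨fun e => ?_, (C.pat_iff hlt hid hS hL haL hbL hr).mpr ?_⟩
      · rw [show r = ⟨b.2, (hL.lt b hbL).2⟩ from Fin.ext e] at hr
        have h4 : y a.1 = y b.1 := by
          rw [← hα' b hb, ← C.isPt_unique hlt hS hr (hL.pt b hbL), hd, MulEquiv.apply_symm_apply]
        have hab := hy.inj a (by simp) b (List.mem_append_left _ hb) h4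
        have hn := hL.nodup
        rw [hLe, List.append_assoc, List.map_append, List.nodup_append] at hn
        exact hn.2.2 b.2 (List.mem_map_of_mem hb) a.2 (by simp) (by rw [hab])
      · rw [← hy.comm a (by simp) b (List.mem_append_left _ hb), ← hα' b hb]
        conv_rhs => rw [← MulEquiv.apply_symm_apply α (y a.1)]
        unfold Commute SemiconjBy
        rw [← map_mul, ← map_mul, EmbeddingLike.apply_eq_iff_eq]
    obtain ⟨β, hβ, hβr⟩ := C.orbit_full hlt hid hS hα hL hbot L [] cs rfl hok htop pre a rest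
      (by rw [hLe]; simp) r hrpat
    refine ⟨α * β, fun b hb => ?_⟩
    show α (β (P.σ b.1)) = _
    rcases List.mem_append.mp hb with hb | hb
    · rw [hβ b (by simpa using hb), hα' b hb]
    · rw [List.mem_singleton] at hb
      subst hb
      rw [C.isPt_unique hlt hS hβr hr, hd, MulEquiv.apply_symm_apply]

end Cert

end CfsgLib.CosetEnum
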