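/-
Maximality of point stabilisers from the orbits of some of their elements.
-/
import Cfsg.Agent.Lib.CosetEnum.Orbit
import Mathlib.GroupTheory.GroupAction.Quotient
import Mathlib.Order.Atoms
import Mathlib.Tactic.NthRewrite

set_option autoImplicit false

namespace CfsgLib.CosetEnum

/-- A point stabiliser is maximal if no union of the orbits of some of its elements can be a block. -/
theorem coatom_of_labels {M : Type*} [Group M] [Finite M] {α : Type*} [Fintype α] [DecidableEq α]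
    (ρ : M →* Equiv.Perm α) (r : α) (S : Subgroup M) (hS : ∀ g, g ∈ S ↔ ρ g r = r)
    (U : Finset α) (hU : ∀ d, d ∈ U ↔ ∃ g, ρ g r = d)
    (lab : α → ℕ) (hlab : ∀ d d', lab d = lab d' → ∃ g ∈ S, ρ g d = d')
    (LU : List ℕ) (sizes : List ℕ) (hnd : LU.Nodup) (hLU : ∀ d ∈ U, lab d ∈ LU) (hLU' : ∀ d, lab d ∈ LU → d ∈ U)
    (hsz : ∀ l ∈ LU, (Finset.univ.filter fun d => lab d = l).card = sizes.getD l 0) (m : ℕ) (hm : U.card = m)
    (h1m : 1 < m) (hr : sizes.getD (lab r) 0 = 1)
    (hsub : (LU.sublists.all fun L => Bool.rec true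
      (decide (L.length = LU.length) || !(Nat.beq (m % (L.map fun l => sizes.getD l 0).sum) 0))
      (L.contains (lab r) && decide (1 < L.length))) = true) :
    IsCoatom S := by
  classical
  have hrU : r ∈ U := (hU r).mpr ⟨1, by rw [map_one, Equiv.Perm.one_apply]⟩
  have hsingle : ∀ d, lab d = lab r → d = r := by
    intro d hd
    have h := hsz (lab r) (hLU r hrU)
    rw [hr] at h
    exact Finset.card_le_one.mp h.le d (by simp [hd]) r (by simp)
  have horb : ∀ K : Subgroup M, S ≤ K →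
      Nat.card K = (Finset.univ.filter fun d => ∃ k ∈ K, ρ k r = d).card * Nat.card S := by
    intro K hK
    let act : MulAction K α := MulAction.compHom α (ρ.comp K.subtype)
    have he : (MulAction.orbit K r).ncard = (Finset.univ.filter fun d => ∃ k ∈ K, ρ k r = d).card := by
      rw [← Set.ncard_coe_finset]
      congr 1
      ext d
      simp only [Finset.coe_filter, Finset.mem_univ, true_and, Set.mem_setOf_eq]
      exact ⟨fun ⟨⟨k, hk⟩, e⟩ => ⟨k, hk, e⟩, fun ⟨k, hk, e⟩ => ⟨⟨k, hk⟩, e⟩⟩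
    have hs : MulAction.stabilizer K r = S.subgroupOf K := by
      ext ⟨k, hk⟩
      rw [MulAction.mem_stabilizer_iff, Subgroup.mem_subgroupOf]
      exact (hS k).symm
    have h := (MulAction.stabilizer K r).card_mul_index
    rw [MulAction.index_stabilizer, he, hs, Nat.card_congr (Subgroup.subgroupOfEquivOfLe hK).toEquiv] at h
    rw [← h, mul_comm]
  have hM := horb ⊤ le_top
  have hUe : (Finset.univ.filter fun d => ∃ k ∈ (⊤ : Subgroup M), ρ k r = d) = U := by
    ext d
    simp [hU d]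
  rw [hUe, Subgroup.card_top, hm] at hM
  refine ⟨fun e => ?_, fun K hK => ?_⟩
  · rw [e, Subgroup.card_top] at hM
    have : 0 < Nat.card M := Nat.card_pos
    nlinarith
  set B : Finset α := Finset.univ.filter fun d => ∃ k ∈ K, ρ k r = d with hB
  have hBm : ∀ d, d ∈ B ↔ ∃ k ∈ K, ρ k r = d := fun d => by simp [hB]
  have hBU : ∀ d ∈ B, d ∈ U := fun d hd => by
    obtain ⟨k, -, hk⟩ := (hBm d).mp hd
    exact (hU d).mpr ⟨k, hk⟩
  have hBlab : ∀ d d', lab d = lab d' → d ∈ B → d' ∈ B := by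
    intro d d' e hd
    obtain ⟨g, hg, rfl⟩ := hlab d d' e
    obtain ⟨k, hk, rfl⟩ := (hBm d).mp hd
    exact (hBm _).mpr ⟨g * k, mul_mem (hK.le hg) hk, by rw [map_mul, Equiv.Perm.mul_apply]⟩
  have hdvd : B.card ∣ m := by
    have h2 : Nat.card K ∣ Nat.card M := Subgroup.card_subgroup_dvd_card K
    rw [horb K hK.le, hM] at h2
    exact Nat.dvd_of_mul_dvd_mul_right Nat.card_pos h2
  obtain ⟨k, hk, hkS⟩ := SetLike.exists_of_lt hK
  have hne : ρ k r ≠ r := fun e => hkS ((hS k).mpr e)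
  set L := LU.filter fun l => decide (∃ d ∈ B, lab d = l) with hL
  have hmem : ∀ d, d ∈ B ↔ lab d ∈ L := by
    intro d
    simp only [hL, List.mem_filter, decide_eq_true_eq]
    exact ⟨fun h => ⟨hLU d (hBU d h), d, h, rfl⟩, fun ⟨_, d', hd', e⟩ => hBlab d' d e hd'⟩
  have hndL : L.Nodup := hnd.filter _
  have hcard : B.card = (L.map fun l => sizes.getD l 0).sum := by
    rw [← List.sum_toFinset _ hndL, Finset.card_eq_sum_card_fiberwise (f := lab) (t := L.toFinset)
      fun d hd => List.mem_toFinset.mpr ((hmem d).mp hd)]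
    refine Finset.sum_congr rfl fun l hl => ?_
    have hl' := List.mem_toFinset.mp hl
    rw [← hsz l (List.mem_of_mem_filter hl')]
    congr 1
    ext d
    simp only [Finset.mem_filter, Finset.mem_univ, true_and, and_iff_right_iff_imp]
    intro h
    exact (hmem d).mpr (h ▸ hl')
  have h0 : lab r ∈ L := (hmem r).mp ((hBm r).mpr ⟨1, one_mem _, by rw [map_one, Equiv.Perm.one_apply]⟩)
  have h1 : lab (ρ k r) ∈ L := (hmem _).mp ((hBm _).mpr ⟨k, hk, rfl⟩)
  have hlen : 1 < L.length := by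
    rw [← List.toFinset_card_of_nodup hndL, Finset.one_lt_card]
    exact ⟨_, List.mem_toFinset.mpr h1, _, List.mem_toFinset.mpr h0, fun e => hne (hsingle _ e)⟩
  have h := List.all_eq_true.mp hsub L (List.mem_sublists.mpr List.filter_sublist)
  rw [show (L.contains (lab r) && decide (1 < L.length)) = true by simp [h0, hlen]] at h
  simp only [Bool.or_eq_true, decide_eq_true_eq, Bool.not_eq_true'] at h
  rcases h with h | h
  · have e : L = LU := List.filter_sublist.eq_of_length h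
    have hall : ∀ g, ∃ k ∈ K, ρ k r = ρ g r := fun g =>
      (hBm _).mp ((hmem _).mpr (e ▸ hLU _ ((hU _).mpr ⟨g, rfl⟩)))
    rw [eq_top_iff]
    intro g _
    obtain ⟨k', hk', he⟩ := hall g
    have : k'⁻¹ * g ∈ S := (hS _).mpr (by
      rw [map_mul, Equiv.Perm.mul_apply, ← he, ← Equiv.Perm.mul_apply, ← map_mul, inv_mul_cancel, map_one,
        Equiv.Perm.one_apply])
    simpa using mul_mem hk' (hK.le this)
  · rw [← hcard, Nat.dvd_iff_mod_eq_zero.mp hdvd] at h
    exact absurd h (by decide)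

/-- Connectedness of the orbits given by packed data. -/
theorem exists_mem_of_lab {T : Table} {k : ℕ} {gens : List (List ℕ)} {O : Tree} {roots : List ℕ} {M : Type*}
    [Group M] (ρ : M →* Equiv.Perm (Fin T.n)) (S : Subgroup M)
    (hgen : ∀ w ∈ gens, ∃ g ∈ S, ∀ d : Fin T.n, (ρ g d : ℕ) = runT T k w d)
    (hok : ∀ d < T.n, okOrb T k gens O roots d = true) {d d' : Fin T.n}
    (h : orbLab O (d : ℕ) = orbLab O (d' : ℕ)) : ∃ g ∈ S, ρ g d = d' := by
  have main : ∀ r, ∀ d : Fin T.n, orbRank O (d : ℕ) = r →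
      ∃ p : Fin T.n, (p : ℕ) = roots.getD (orbLab O (d : ℕ)) 0 ∧ ∃ g ∈ S, ρ g p = d := by
    intro r
    induction r using Nat.strong_induction_on with
    | _ r ih =>
      intro d hd
      by_cases h0 : (d : ℕ) = roots.getD (orbLab O (d : ℕ)) 0
      · exact ⟨d, h0, 1, one_mem _, by rw [map_one, Equiv.Perm.one_apply]⟩
      obtain ⟨w, hw, p, hp, hlt', he'⟩ := (okOrb_lab (hok d d.2)).2 h0
      obtain ⟨q, hq, g, hg, hgq⟩ := ih _ (hd ▸ hlt') ⟨p, hp⟩ rfl
      obtain ⟨u, hu, hu'⟩ := hgen w hw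
      refine ⟨q, ?_, u * g, mul_mem hu hg, Fin.ext ?_⟩
      · rw [hq, ← he', (okOrb_lab (hok p hp)).1 w hw]
      · rw [map_mul, Equiv.Perm.mul_apply, hgq, hu']
        exact he'
  obtain ⟨p, hp, g, hg, hgp⟩ := main _ d rfl
  obtain ⟨p', hp', g', hg', hgp'⟩ := main _ d' rfl
  have e : p' = p := Fin.ext (by rw [hp, hp', h])
  refine ⟨g' * g⁻¹, mul_mem hg' (inv_mem hg), ?_⟩
  rw [← hgp, ← hgp', e, map_mul, Equiv.Perm.mul_apply]
  congr 1
  rw [← Equiv.Perm.mul_apply, ← map_mul, inv_mul_cancel, map_one, Equiv.Perm.one_apply]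

end CfsgLib.CosetEnum
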