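/-
Lifts of a class of involutions to a central extension: when the lift of one member commutes with the lifts of
its centraliser, the lifts form a family indexed by the points and permuted like them, and words in them can be
rewritten by Hurwitz moves checked in the permutation representation.
-/
import Cfsg.Agent.Lib.CosetEnum.AutClass

set_option autoImplicit false

namespace CfsgLib.CosetEnum

/-- One move on a word in the lifts: `0` and `1` are the two Hurwitz moves, `2` cancels a pair, `3` rotates. -/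
noncomputable def hstep (T : Table) (k : ℕ) (zf : ℕ → ℕ) (words : Tree) (s : List ℕ) (m : ℕ) :
    Option (List ℕ × ℕ) :=
  match fld m 0 2, s.drop (fld m 2 10) with
  | 0, x :: y :: rest =>
    if Nat.beq (runT T k (wordOf (words.get (fld m 12 12))).reverse 0) x &&
        (wordOf (words.get (fld m 12 12))).all (fun a => Nat.blt a k) then
      force (conjMap T k zf (wordOf (words.get (fld m 12 12))) y) fun c =>
        some (s.take (fld m 2 10) ++ c :: x :: rest, 0)
    else none
  | 1, x :: y :: rest =>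
    if Nat.beq (runT T k (wordOf (words.get (fld m 12 12))).reverse 0) y &&
        (wordOf (words.get (fld m 12 12))).all (fun a => Nat.blt a k) then
      force (conjMap T k zf (wordOf (words.get (fld m 12 12))) x) fun c =>
        some (s.take (fld m 2 10) ++ y :: c :: rest, 0)
    else none
  | 2, x :: y :: rest => if Nat.beq x y then some (s.take (fld m 2 10) ++ rest, 1) else none
  | 3, rest => some (rest ++ s.take (fld m 2 10), 0)
  | _, _ => none

/-- The moves reduce the word to the empty one with the given number of cancellations. -/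
noncomputable def okHurwitz (T : Table) (k : ℕ) (zf : ℕ → ℕ) (words : Tree) :
    List ℕ → List ℕ → ℕ → ℕ → Bool
  | [], [], acc, c => Nat.beq acc c
  | [], _ :: _, _, _ => false
  | m :: ms, s, acc, c => match hstep T k zf words s m with
    | some (s', e) => okHurwitz T k zf words ms s' (acc + e) c
    | none => false

namespace Cert

variable {P : Pres} (C : Cert P) (hlt : ∀ w ∈ P.rels, ∀ x ∈ w, x < P.k) (hid : ∀ i < P.k, P.idx (P.gen i) = i)
  {t : P.Grp} {E : Type} [Group E]

/-- A family of lifts indexed by the points. -/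
structure LiftFam (π : E →* P.Grp) (x : Fin C.T.n → E) (c : E) (t : P.Grp) : Prop where
  conj : ∀ (e : E) (q : Fin C.T.n), e * x q * e⁻¹ = x (C.hom hlt (π e) q)
  pt : ∀ q, C.IsPt hlt t (π (x q)) q
  sq : ∀ q, x q * x q = c
  central : ∀ e : E, Commute c e

include hid in
/-- The lifts exist when the lift of `t` commutes with all lifts of the elements centralising `t`. -/
theorem exists_liftFam [Finite P.Grp] (π : E →* P.Grp) (hπ : Function.Surjective π)
    (hker : π.ker ≤ Subgroup.center E) (hS : C.StabIsCent hlt t) (htt : t * t = 1) {t' : E} (ht' : π t' = t)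
    (hcomm : ∀ e : E, π e * t = t * π e → Commute e t') :
    ∃ x : Fin C.T.n → E, C.LiftFam hlt π x (t' * t') t := by
  have hr : ∀ q : Fin C.T.n, ∃ r : E, C.hom hlt (π r) ⟨0, C.hn⟩ = q := fun q => by
    obtain ⟨g, hg⟩ := C.exists_hom_zero hlt hid q
    obtain ⟨r, rfl⟩ := hπ g
    exact ⟨r, hg⟩
  choose r hr using hr
  have key : ∀ (e : E) (q : Fin C.T.n), C.hom hlt (π e) ⟨0, C.hn⟩ = q → e * t' * e⁻¹ = r q * t' * (r q)⁻¹ := by
    intro e q he
    have h := hcomm ((r q)⁻¹ * e) ((hS _).mp (by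
      rw [map_mul, map_mul, map_inv, map_inv, Equiv.Perm.mul_apply, he, Equiv.Perm.inv_def, Equiv.symm_apply_eq]
      exact (hr q).symm))
    calc e * t' * e⁻¹ = r q * ((r q)⁻¹ * e * t') * e⁻¹ := by group
      _ = r q * (t' * ((r q)⁻¹ * e)) * e⁻¹ := by rw [h.eq]
      _ = r q * t' * (r q)⁻¹ := by group
  have hc : ∀ e : E, Commute (t' * t') e := fun e => by
    have hk : t' * t' ∈ π.ker := by rw [MonoidHom.mem_ker, map_mul, ht', htt]
    exact (Subgroup.mem_center_iff.mp (hker hk) e).symm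
  refine ⟨fun q => r q * t' * (r q)⁻¹, ⟨fun e q => ?_, fun q => ?_, fun q => ?_, hc⟩⟩
  · show e * (r q * t' * (r q)⁻¹) * e⁻¹ = _
    refine Eq.trans ?_ (key (e * r q) _ (by rw [map_mul, map_mul, Equiv.Perm.mul_apply, hr]))
    group
  · exact ⟨π (r q), by rw [map_mul, map_mul, map_inv, ht'], hr q⟩
  · calc r q * t' * (r q)⁻¹ * (r q * t' * (r q)⁻¹) = r q * (t' * t') * (r q)⁻¹ := by group
      _ = t' * t' := by rw [← (hc (r q)).eq]; group

variable {π : E →* P.Grp} {x : Fin C.T.n → E} {c : E}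

/-- The lift at a point given as a number. -/
noncomputable def lf (x : Fin C.T.n → E) (q : ℕ) : E := if h : q < C.T.n then x ⟨q, h⟩ else 1

/-- The product of the lifts at a list of points. -/
noncomputable def ev (x : Fin C.T.n → E) (s : List ℕ) : E := (s.map (C.lf x)).prod

theorem ev_append (s s' : List ℕ) : C.ev x (s ++ s') = C.ev x s * C.ev x s' := by
  simp [ev]

theorem ev_cons (q : ℕ) (s : List ℕ) : C.ev x (q :: s) = C.lf x q * C.ev x s := by simp [ev]

theorem ev_nil : C.ev x [] = 1 := rfl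

variable {zf : ℕ → ℕ}

include hid in
/-- The image of a point under the member at a point. -/
theorem hom_lift (hF : C.LiftFam hlt π x c t) (hS : C.StabIsCent hlt t)
    (hz : ∀ d : Fin C.T.n, (C.hom hlt t d : ℕ) = zf d) (v : List ℕ) (hv : ∀ a ∈ v, a < P.k) {q : Fin C.T.n}
    (hq : runT C.T C.D.k v.reverse 0 = (q : ℕ)) (d : Fin C.T.n) :
    (C.hom hlt (π (x q)) d : ℕ) = conjMap C.T C.D.k zf v d := by
  have h : C.IsPt hlt t ((v.map P.σ).prod * t * ((v.map P.σ).prod)⁻¹) q :=
    ⟨_, rfl, Fin.ext ((C.hom_word_run' hlt hid v hv _).trans hq)⟩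
  rw [C.isPt_unique hlt hS (hF.pt q) h, map_mul, Equiv.Perm.mul_apply, map_mul, Equiv.Perm.mul_apply,
    C.hom_word_run' hlt hid v hv, hz, C.hom_inv_word hlt hid v hv, conjMap, force_eq, force_eq]

include hid in
theorem hstep_sound (hF : C.LiftFam hlt π x c t) (hS : C.StabIsCent hlt t)
    (hz : ∀ d : Fin C.T.n, (C.hom hlt t d : ℕ) = zf d) (words : Tree) {s s' : List ℕ} {m e : ℕ}
    (h : hstep C.T C.D.k zf words s m = some (s', e)) (hs : ∀ q ∈ s, q < C.T.n) :
    (∀ q ∈ s', q < C.T.n) ∧ ∀ j : ℕ, C.ev x s' = c ^ j → C.ev x s = c ^ (j + e) := by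
  have hcen := hF.central
  set i := fld m 2 10 with hi
  have hsplit : s = s.take i ++ s.drop i := (List.take_append_drop i s).symm
  -- a local change in the middle
  have local_ : ∀ (u u' rest : List ℕ), C.ev x u = C.ev x u' * c ^ e →
      ∀ j : ℕ, C.ev x (s.take i ++ (u' ++ rest)) = c ^ j → C.ev x (s.take i ++ (u ++ rest)) = c ^ (j + e) := by
    intro u u' rest hu j hj
    rw [C.ev_append, C.ev_append, hu, pow_add, ← hj, C.ev_append, C.ev_append,
      mul_assoc (C.ev x u') (c ^ e), ((hcen (C.ev x rest)).pow_left e).eq]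
    simp only [mul_assoc]
  simp only [hstep] at h
  rcases hk : fld m 0 2 with _ | _ | _ | _ | k'
  · -- first Hurwitz move
    rw [hk] at h
    match hd : s.drop i with
    | [] => rw [← hi, hd] at h; simp at h
    | [_] => rw [← hi, hd] at h; simp at h
    | a :: b :: rest =>
      rw [← hi, hd] at h
      simp only [force_eq, Option.ite_none_right_eq_some, Option.some.injEq, Prod.mk.injEq, Bool.and_eq_true,
        List.all_eq_true, blt_iff] at h
      obtain ⟨⟨hw, hwl⟩, rfl, rfl⟩ := h
      have ha : a < C.T.n := hs a (List.mem_of_mem_drop (by rw [hd]; simp))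
      have hb : b < C.T.n := hs b (List.mem_of_mem_drop (by rw [hd]; simp))
      set v := wordOf (words.get (fld m 12 12)) with hv
      have hv' : ∀ y ∈ v, y < P.k := fun y hy => (hwl y hy).trans_eq C.hk
      have hl := C.hom_lift hlt hid hF hS hz v hv' (q := ⟨a, ha⟩) (Nat.eq_of_beq_eq_true hw) ⟨b, hb⟩
      have hcn : conjMap C.T C.D.k zf v b < C.T.n := by rw [← hl]; exact Fin.isLt _
      refine ⟨fun q hq => ?_, fun j hj => ?_⟩
      · simp only [List.mem_append, List.mem_cons] at hq
        rcases hq with hq | rfl | rfl | hq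
        · exact hs q (List.mem_of_mem_take hq)
        · exact hcn
        · exact ha
        · exact hs q (List.mem_of_mem_drop (by rw [hd]; simp [hq]))
      · rw [hsplit, hd]
        refine local_ [a, b] [conjMap C.T C.D.k zf v b, a] rest ?_ j hj
        simp only [C.ev_cons, C.ev_nil, mul_one, pow_zero, lf, dif_pos ha, dif_pos hb, dif_pos hcn]
        have e' : (⟨conjMap C.T C.D.k zf v b, hcn⟩ : Fin C.T.n) = C.hom hlt (π (x ⟨a, ha⟩)) ⟨b, hb⟩ :=
          Fin.ext hl.symm
        rw [e', ← hF.conj]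
        group
  · -- second Hurwitz move
    rw [hk] at h
    match hd : s.drop i with
    | [] => rw [← hi, hd] at h; simp at h
    | [_] => rw [← hi, hd] at h; simp at h
    | a :: b :: rest =>
      rw [← hi, hd] at h
      simp only [force_eq, Option.ite_none_right_eq_some, Option.some.injEq, Prod.mk.injEq, Bool.and_eq_true,
        List.all_eq_true, blt_iff] at h
      obtain ⟨⟨hw, hwl⟩, rfl, rfl⟩ := h
      have ha : a < C.T.n := hs a (List.mem_of_mem_drop (by rw [hd]; simp))
      have hb : b < C.T.n := hs b (List.mem_of_mem_drop (by rw [hd]; simp))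
      set v := wordOf (words.get (fld m 12 12)) with hv
      have hv' : ∀ y ∈ v, y < P.k := fun y hy => (hwl y hy).trans_eq C.hk
      have hl := C.hom_lift hlt hid hF hS hz v hv' (q := ⟨b, hb⟩) (Nat.eq_of_beq_eq_true hw) ⟨a, ha⟩
      have hcn : conjMap C.T C.D.k zf v a < C.T.n := by rw [← hl]; exact Fin.isLt _
      refine ⟨fun q hq => ?_, fun j hj => ?_⟩
      · simp only [List.mem_append, List.mem_cons] at hq
        rcases hq with hq | rfl | rfl | hq
        · exact hs q (List.mem_of_mem_take hq)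
        · exact hb
        · exact hcn
        · exact hs q (List.mem_of_mem_drop (by rw [hd]; simp [hq]))
      · rw [hsplit, hd]
        refine local_ [a, b] [b, conjMap C.T C.D.k zf v a] rest ?_ j hj
        simp only [C.ev_cons, C.ev_nil, mul_one, pow_zero, lf, dif_pos ha, dif_pos hb, dif_pos hcn]
        have e' : (⟨conjMap C.T C.D.k zf v a, hcn⟩ : Fin C.T.n) = C.hom hlt (π (x ⟨b, hb⟩)) ⟨a, ha⟩ :=
          Fin.ext hl.symm
        rw [e', ← hF.conj]
        have hbb := hF.sq ⟨b, hb⟩
        have hxc := (hcen (x ⟨a, ha⟩)).eq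
        calc x ⟨a, ha⟩ * x ⟨b, hb⟩ = c⁻¹ * (c * x ⟨a, ha⟩) * x ⟨b, hb⟩ := by group
          _ = c⁻¹ * (x ⟨a, ha⟩ * c) * x ⟨b, hb⟩ := by rw [hxc]
          _ = c⁻¹ * x ⟨a, ha⟩ * (x ⟨b, hb⟩ * x ⟨b, hb⟩) * x ⟨b, hb⟩ := by rw [hbb]; group
          _ = c⁻¹ * x ⟨a, ha⟩ * (x ⟨b, hb⟩ * c) := by rw [← hbb]; group
          _ = c⁻¹ * x ⟨a, ha⟩ * (c * x ⟨b, hb⟩) := by rw [(hcen (x ⟨b, hb⟩)).eq]
          _ = c⁻¹ * (x ⟨a, ha⟩ * c) * x ⟨b, hb⟩ := by group
          _ = x ⟨a, ha⟩ * x ⟨b, hb⟩ := by rw [← hxc]; group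
          _ = x ⟨b, hb⟩ * ((x ⟨b, hb⟩)⁻¹ * x ⟨a, ha⟩ * x ⟨b, hb⟩) := by group
          _ = x ⟨b, hb⟩ * (x ⟨b, hb⟩ * x ⟨a, ha⟩ * (x ⟨b, hb⟩)⁻¹) := by
            congr 1
            have h2 : Commute (x ⟨b, hb⟩ * x ⟨b, hb⟩) (x ⟨a, ha⟩) := hbb ▸ hcen _
            calc (x ⟨b, hb⟩)⁻¹ * x ⟨a, ha⟩ * x ⟨b, hb⟩
                = (x ⟨b, hb⟩)⁻¹ * (x ⟨a, ha⟩ * (x ⟨b, hb⟩ * x ⟨b, hb⟩)) * (x ⟨b, hb⟩)⁻¹ := by group
              _ = (x ⟨b, hb⟩)⁻¹ * (x ⟨b, hb⟩ * x ⟨b, hb⟩ * x ⟨a, ha⟩) * (x ⟨b, hb⟩)⁻¹ := by rw [h2.eq]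
              _ = x ⟨b, hb⟩ * x ⟨a, ha⟩ * (x ⟨b, hb⟩)⁻¹ := by group
  · -- cancellation
    rw [hk] at h
    match hd : s.drop i with
    | [] => rw [← hi, hd] at h; simp at h
    | [_] => rw [← hi, hd] at h; simp at h
    | a :: b :: rest =>
      rw [← hi, hd] at h
      simp only [Option.ite_none_right_eq_some, Option.some.injEq, Prod.mk.injEq] at h
      obtain ⟨hab, rfl, rfl⟩ := h
      have ha : a < C.T.n := hs a (List.mem_of_mem_drop (by rw [hd]; simp))
      rw [← Nat.eq_of_beq_eq_true hab] at hd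
      refine ⟨fun q hq => ?_, fun j hj => ?_⟩
      · simp only [List.mem_append] at hq
        rcases hq with hq | hq
        · exact hs q (List.mem_of_mem_take hq)
        · exact hs q (List.mem_of_mem_drop (by rw [hd]; simp [hq]))
      · rw [hsplit, hd]
        refine local_ [a, a] [] rest ?_ j (by simpa using hj)
        simp only [C.ev_cons, C.ev_nil, mul_one, one_mul, pow_one, lf, dif_pos ha, hF.sq]
  · -- rotation
    rw [hk] at h
    simp only [← hi, Option.some.injEq, Prod.mk.injEq] at h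
    obtain ⟨rfl, rfl⟩ := h
    refine ⟨fun q hq => hs q ?_, fun j hj => ?_⟩
    · rcases List.mem_append.mp hq with hq | hq
      · exact List.mem_of_mem_drop hq
      · exact List.mem_of_mem_take hq
    · rw [C.ev_append] at hj
      rw [Nat.add_zero, hsplit, C.ev_append]
      have e2 : C.ev x (s.take i) = (C.ev x (s.drop i))⁻¹ * c ^ j := by rw [← hj, inv_mul_cancel_left]
      rw [e2, mul_assoc, ((hcen _).pow_left j).eq, inv_mul_cancel_left]
  · rw [hk] at h
    simp at h

include hid in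
theorem okHurwitz_sound (hF : C.LiftFam hlt π x c t) (hS : C.StabIsCent hlt t)
    (hz : ∀ d : Fin C.T.n, (C.hom hlt t d : ℕ) = zf d) (words : Tree) :
    ∀ (ms s : List ℕ) (acc c' : ℕ), okHurwitz C.T C.D.k zf words ms s acc c' = true → (∀ q ∈ s, q < C.T.n) →
      ∃ j : ℕ, acc + j = c' ∧ C.ev x s = c ^ j := by
  intro ms
  induction ms with
  | nil =>
    intro s acc c' h _
    cases s with
    | nil => exact ⟨0, Nat.eq_of_beq_eq_true h, by rw [ev_nil, pow_zero]⟩
    | cons => simp [okHurwitz] at h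
  | cons m ms ih =>
    intro s acc c' h hs
    simp only [okHurwitz] at h
    cases hm : hstep C.T C.D.k zf words s m with
    | none => rw [hm] at h; simp at h
    | some p =>
      obtain ⟨s', e⟩ := p
      rw [hm] at h
      obtain ⟨hs', hev⟩ := C.hstep_sound hlt hid hF hS hz words hm hs
      obtain ⟨j, hj, hje⟩ := ih s' (acc + e) c' h hs'
      exact ⟨j + e, by omega, hev j hje⟩

include hid in
/-- A checked word of lifts is a power of `c`. -/
theorem ev_of_okHurwitz (hF : C.LiftFam hlt π x c t) (hS : C.StabIsCent hlt t)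
    (hz : ∀ d : Fin C.T.n, (C.hom hlt t d : ℕ) = zf d) (words : Tree) {ms s : List ℕ} {n : ℕ}
    (h : okHurwitz C.T C.D.k zf words ms s 0 n = true) (hs : ∀ q ∈ s, q < C.T.n) : C.ev x s = c ^ n := by
  obtain ⟨j, hj, hje⟩ := C.okHurwitz_sound hlt hid hF hS hz words ms s 0 n h hs
  rw [hje, show j = n by omega]

end Cert

end CfsgLib.CosetEnum
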