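/-
The Coxeter presentations of type Y332 with one relator of type E7, and of type E7.
-/
import Cfsg.Agent.Lib.CosetEnum.PresFi22

set_option autoImplicit false

namespace CfsgLib.CosetEnum

open Cfsg.Spor

/-- The diagram Y332 with the relator (b c d e f g h)^9. -/
abbrev presY332 : Pres where
  α := Fi22.Gen
  dec := inferInstance
  edges := Fi22.edges
  extra := [(Fi22.b * Fi22.c * Fi22.d * Fi22.e * Fi22.f * Fi22.g * Fi22.h) ^ 9]
  k := 9
  gen := presFi22.gen
  idx := idxFi22
  extraW := [(List.replicate 9 [1, 2, 3, 4, 5, 6, 7]).flatten]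
  idx_spec := presFi22.idx_spec
  node := presFi22.node
  symm := presFi22.symm
  extra_spec M _ τ h := by
    simp [idxFi22, pow_succ, mul_assoc, List.replicate_succ]

/-- The diagram E7 on b, c, d, e, f, g, h. -/
abbrev presE7 : Pres where
  α := Fin 7
  dec := inferInstance
  edges := [(0, 3, 1), (1, 3, 2), (2, 3, 3), (2, 3, 6), (3, 3, 4), (4, 3, 5)]
  extra := []
  k := 7
  gen := fun i => if hi : i < 7 then ⟨i, hi⟩ else 0
  idx := fun a => a.val
  extraW := []
  idx_spec a := ⟨a.isLt, by simp [a.isLt]⟩
  node a := by revert a; decide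
  symm a b := by revert a b; decide
  extra_spec M _ τ h := by simp

end CfsgLib.CosetEnum
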