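/-
Certified coset tables checked edge by edge: every edge carries a rank and follows from edges of lower rank.
-/
import Cfsg.Agent.Lib.CosetEnum.Rows

set_option autoImplicit false

namespace CfsgLib.CosetEnum

namespace Table

variable (T : Table)

/-- The rank of an edge, `k` entries of 8 bits in each row. -/
noncomputable def rankE (R : Tree) (k d x : ℕ) : ℕ :=
  force d fun d' => fld (entry R (nat_lit 8) (Nat.mul k (nat_lit 8)) d') (Nat.mul x (nat_lit 8)) (nat_lit 8)

end Table

namespace Edge

variable (D : Data) (T : Table) (R : Tree)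

/-- A walk along `m` edges of rank below `r`, reading the packed word `u`. -/
noncomputable def walkE (r u : ℕ) (m : ℕ) : ℕ → ℕ → (ℕ → Bool) → Bool :=
  Nat.rec (fun c _ cont => cont c)
    (fun _ ih c p cont => force (letter u p) fun x => Nat.blt x D.k && Nat.blt (Table.rankE R D.k c x) r &&
      force (T.act D.k c x) fun c' => force (Nat.succ p) fun p' => ih c' p' cont) m

/-- The edge at `a` with the letter `x` follows from the word `u` and edges of rank below `r`. -/
noncomputable def okLoop (r a x w i : ℕ) : Bool :=
  force (D.words.get w) fun u => force (wlen u) fun len => force (T.act D.k a x) fun b =>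
    Nat.blt w D.nw && Nat.blt i len && Nat.beq (letter u i) x &&
      walkE D T R r u (Nat.sub len (Nat.succ i)) b (Nat.succ i) fun st =>
        (Bool.rec true (Nat.beq st (nat_lit 0)) (Nat.blt w D.nh)) &&
          walkE D T R r u i st (nat_lit 0) fun c => Nat.beq c a

/-- The checks at one edge; `j` is the packed justification. -/
noncomputable def okEdge (seed d x j : ℕ) : Bool :=
  force (T.act D.k d x) fun b => force (Table.rankE R D.k d x) fun r =>
    Nat.blt b T.n && Nat.beq (T.act D.k b x) d && Nat.beq (Table.rankE R D.k b x) r &&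
      Bool.rec
        (Bool.rec
          (force (Bool.rec d b (Nat.beq (fld j (nat_lit 16) (nat_lit 1)) (nat_lit 1))) fun a =>
            okLoop D T R r a x (fld j (nat_lit 0) (nat_lit 8)) (fld j (nat_lit 8) (nat_lit 8)))
          (Nat.beq (D.parent b) (Nat.add (Nat.mul d (nat_lit 16)) x) && Nat.blt d b ||
            Nat.beq (Nat.add (Nat.mul d (nat_lit 16)) x) seed)
          (Nat.beq r (nat_lit 0)))
        true (Nat.blt b d)

/-- The checks of one row. -/
noncomputable def okERow (seed d js : ℕ) : Bool :=
  Nat.rec (fun _ _ => true)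
    (fun _ ih x rest => force (fld rest (nat_lit 0) (nat_lit 17)) fun j =>
      okEdge D T R seed d x j && force (Nat.succ x) fun x' => force (Nat.shiftRight rest (nat_lit 17)) fun rest' =>
        ih x' rest') D.k (nat_lit 0) js

/-- A chunk of rows starting at `lo`. -/
noncomputable def okERows (seed lo : ℕ) (L : List ℕ) : Bool :=
  List.rec (motive := fun _ => ℕ → Bool) (fun _ => true)
    (fun js _ ih d => okERow D T R seed d js && force (Nat.succ d) ih) L lo

/-- The checks at one edge are met. -/
def EdgeOK (seed d : ℕ) : Prop := ∀ x < D.k, ∃ j, okEdge D T R seed d x j = true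

theorem okERow_sound {seed d js : ℕ} (h : okERow D T R seed d js = true) : EdgeOK D T R seed d := by
  have main : ∀ (m x₀ rest : ℕ),
      Nat.rec (motive := fun _ => ℕ → ℕ → Bool) (fun _ _ => true)
        (fun _ ih x rest => force (fld rest (nat_lit 0) (nat_lit 17)) fun j =>
          okEdge D T R seed d x j && force (Nat.succ x) fun x' => force (Nat.shiftRight rest (nat_lit 17)) fun rest' =>
            ih x' rest') m x₀ rest = true →
      ∀ x, x₀ ≤ x → x < x₀ + m → ∃ j, okEdge D T R seed d x j = true := by
    intro m
    induction m with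
    | zero => intro x₀ rest _ x h1 h2; omega
    | succ m ih =>
      intro x₀ rest h x h1 h2
      simp only [force_eq, Bool.and_eq_true] at h
      rcases Nat.eq_or_lt_of_le h1 with rfl | h3
      · exact ⟨_, h.1⟩
      · exact ih (Nat.succ x₀) _ (by simp only [force_eq]; exact h.2) x h3 (by omega)
  exact fun x hx => main D.k 0 js h x (Nat.zero_le x) (by omega)

theorem okERows_sound {seed : ℕ} : ∀ (L : List ℕ) (lo : ℕ), okERows D T R seed lo L = true →
    (∀ d < lo, EdgeOK D T R seed d) → ∀ d < lo + L.length, EdgeOK D T R seed d := by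
  intro L
  induction L with
  | nil => intro lo _ h d hd; exact h d (by simpa using hd)
  | cons js L ih =>
    intro lo h hlo d hd
    simp only [okERows, force_eq, Bool.and_eq_true] at h
    refine ih (lo + 1) h.2 (fun i hi => ?_) d (by simp only [List.length_cons] at hd; omega)
    rcases Nat.lt_succ_iff_lt_or_eq.mp hi with h' | rfl
    · exact hlo i h'
    · exact okERow_sound D T R h.1

section

variable {D T R} {Ω : Type*} {base : Ω} {s : ℕ → Ω → Ω} (hinv : ∀ x v, s x (s x v) = v)

/-- An edge holds. -/
def Good (D : Data) (T : Table) (base : Ω) (s : ℕ → Ω → Ω) (d x : ℕ) : Prop :=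
  s x (D.val base s d) = D.val base s (T.act D.k d x)

theorem walkE_sound {r u : ℕ} (hlo : ∀ c < T.n, ∀ x < D.k, Table.rankE R D.k c x < r → Good D T base s c x)
    (hlt : ∀ c < T.n, ∀ x < D.k, T.act D.k c x < T.n) :
    ∀ (m c p : ℕ) (cont : ℕ → Bool), c < T.n → walkE D T R r u m c p cont = true →
      ∃ c', c' < T.n ∧ cont c' = true ∧ run s (seg u p (p + m)) (D.val base s c) = D.val base s c' := by
  intro m
  induction m with
  | zero =>
    intro c p cont hc h
    exact ⟨c, hc, h, by rw [Nat.add_zero, seg_self]; rfl⟩
  | succ m ih =>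
    intro c p cont hc h
    simp only [walkE, force_eq, Bool.and_eq_true, blt_iff] at h
    obtain ⟨⟨hx, hr⟩, h⟩ := h
    obtain ⟨c', hc', h1, e⟩ := ih _ (Nat.succ p) cont (hlt c hc _ hx) (by simp only [walkE, force_eq]; exact h)
    refine ⟨c', hc', h1, ?_⟩
    rw [show p + (m + 1) = p + 1 + m by omega, seg_trans u (Nat.le_succ p) (show p + 1 ≤ p + 1 + m by omega),
      run_append, seg_succ, show run s [letter u p] (D.val base s c) = s (letter u p) (D.val base s c) from rfl,
      hlo c hc _ hx hr]
    exact e

include hinv in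
theorem okLoop_sound (hwh : ∀ w < D.nh, run s (wordOf (D.words.get w)) base = base)
    (hwr : ∀ w, D.nh ≤ w → w < D.nw → ∀ v, run s (wordOf (D.words.get w)) v = v)
    {r a x w i : ℕ} (hlo : ∀ c < T.n, ∀ x < D.k, Table.rankE R D.k c x < r → Good D T base s c x)
    (hlt : ∀ c < T.n, ∀ x < D.k, T.act D.k c x < T.n) (ha : a < T.n) (hx : x < D.k)
    (h : okLoop D T R r a x w i = true) : Good D T base s a x := by
  simp only [okLoop, force_eq, Bool.and_eq_true, blt_iff] at h
  obtain ⟨⟨⟨hw, hi⟩, hxi⟩, h⟩ := h
  set u := D.words.get w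
  obtain ⟨st, hst, h2, e₂⟩ := walkE_sound hlo hlt _ _ _ _ (hlt a ha x hx) h
  rw [Bool.and_eq_true] at h2
  obtain ⟨c, -, h3, e₁⟩ := walkE_sound hlo hlt _ _ _ _ hst h2.2
  rw [Nat.eq_of_beq_eq_true h3, Nat.zero_add] at e₁
  rw [show Nat.succ i + Nat.sub (wlen u) (Nat.succ i) = wlen u by
    show i + 1 + (wlen u - (i + 1)) = wlen u; omega] at e₂
  have hfix : run s (wordOf u) (D.val base s st) = D.val base s st := by
    by_cases hwn : w < D.nh
    · have h0 := h2.1
      rw [show Nat.blt w D.nh = true from blt_iff.mpr hwn] at h0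
      rw [Nat.eq_of_beq_eq_true h0, Data.val, if_pos rfl]
      exact hwh w hwn
    · exact hwr w (by omega) hw _
  refine run_injective hinv (seg u (i + 1) (wlen u)) ?_
  rw [show run s (seg u (i + 1) (wlen u)) (D.val base s (T.act D.k a x)) = D.val base s st from e₂]
  have e3 : wordOf u = seg u 0 i ++ ([x] ++ seg u (i + 1) (wlen u)) := by
    rw [wordOf, seg_trans u (Nat.zero_le i) (le_of_lt hi), seg_trans u (Nat.le_succ i) hi, seg_succ,
      Nat.eq_of_beq_eq_true hxi]
  rw [e3, run_append, run_append, e₁] at hfix
  exact hfix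

include hinv in
/-- All edges hold. -/
theorem rows_of_edges (hwh : ∀ w < D.nh, run s (wordOf (D.words.get w)) base = base)
    (hwr : ∀ w, D.nh ≤ w → w < D.nw → ∀ v, run s (wordOf (D.words.get w)) v = v) {seed : ℕ}
    (hrep : ∀ d < T.n, T.repr d = d) (hk16 : D.k < 16) (hE : ∀ d < T.n, EdgeOK D T R seed d)
    (hseed : seed / 16 < T.n → Good D T base s (seed / 16) (seed % 16)) :
    ∀ d < T.n, RowOK D T base s d := by
  have hb : ∀ d < T.n, ∀ x < D.k, T.act D.k d x < T.n ∧ T.act D.k (T.act D.k d x) x = d ∧
      Table.rankE R D.k (T.act D.k d x) x = Table.rankE R D.k d x := by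
    intro d hd x hx
    obtain ⟨j, hj⟩ := hE d hd x hx
    simp only [okEdge, force_eq, Bool.and_eq_true, blt_iff] at hj
    exact ⟨hj.1.1.1, Nat.eq_of_beq_eq_true hj.1.1.2, Nat.eq_of_beq_eq_true hj.1.2⟩
  have hflip : ∀ d < T.n, ∀ x < D.k, Good D T base s (T.act D.k d x) x → Good D T base s d x := by
    intro d hd x hx hg
    unfold Good at hg ⊢
    rw [(hb d hd x hx).2.1] at hg
    rw [← hg, hinv]
  have main : ∀ r, ∀ d < T.n, ∀ x < D.k, Table.rankE R D.k d x = r → Good D T base s d x := by
    intro r
    induction r using Nat.strong_induction_on with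
    | _ r ih =>
      have hlo : ∀ c < T.n, ∀ x < D.k, Table.rankE R D.k c x < r → Good D T base s c x :=
        fun c hc x hx hr => ih _ hr c hc x hx rfl
      have hup : ∀ d < T.n, ∀ x < D.k, Table.rankE R D.k d x = r → ¬ T.act D.k d x < d → Good D T base s d x := by
        intro d hd x hx hr hbd
        obtain ⟨j, hj⟩ := hE d hd x hx
        simp only [okEdge, force_eq, Bool.and_eq_true, blt_iff] at hj
        have h4 := hj.2
        rw [show Nat.blt (T.act D.k d x) d = false from Bool.eq_false_iff.mpr fun h => hbd (blt_iff.mp h), hr] at h4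
        cases h0 : Nat.beq r (nat_lit 0) with
        | true =>
          rw [h0] at h4
          simp only [Bool.or_eq_true, Bool.and_eq_true, blt_iff] at h4
          rcases h4 with ⟨h5, h6⟩ | h5
          · have h5' : D.parent (T.act D.k d x) = d * 16 + x := Nat.eq_of_beq_eq_true h5
            unfold Good
            conv_rhs => rw [Data.val]
            rw [if_neg (by omega : ¬ T.act D.k d x = 0), h5',
              dif_pos (by omega : (d * 16 + x) / 16 < T.act D.k d x),
              show (d * 16 + x) / 16 = d by omega, show (d * 16 + x) % 16 = x by omega]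
          · have h5' : d * 16 + x = seed := Nat.eq_of_beq_eq_true h5
            subst h5'
            have := hseed (by omega)
            rwa [show (d * 16 + x) / 16 = d by omega, show (d * 16 + x) % 16 = x by omega] at this
        | false =>
          rw [h0] at h4
          have hlt : ∀ c < T.n, ∀ x < D.k, T.act D.k c x < T.n := fun c hc x hx => (hb c hc x hx).1
          cases hr' : Nat.beq (fld j (nat_lit 16) (nat_lit 1)) (nat_lit 1) with
          | true =>
            rw [hr'] at h4
            exact hflip d hd x hx (okLoop_sound hinv hwh hwr hlo hlt (hlt d hd x hx) hx h4)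
          | false =>
            rw [hr'] at h4
            exact okLoop_sound hinv hwh hwr hlo hlt hd hx h4
      intro d hd x hx hr
      by_cases hbd : T.act D.k d x < d
      · obtain ⟨h1, h2, h3⟩ := hb d hd x hx
        exact hflip d hd x hx (hup _ h1 x hx (h3.trans hr) (by rw [h2]; omega))
      · exact hup d hd x hx hr hbd
  intro d hd x hx
  refine ⟨(hb d hd x hx).1, ?_⟩
  unfold Table.point
  rw [hrep d hd, hrep _ (hb d hd x hx).1]
  exact main _ d hd x hx rfl

end

end Edge

end CfsgLib.CosetEnum
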