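/-
Fast checks of the relators of a Coxeter type presentation with two further power relations on a table.
-/
import Cfsg.Agent.Lib.CosetEnum.Rows

set_option autoImplicit false

namespace CfsgLib.CosetEnum

namespace FastPoints

variable (T : Table) (k : ℕ)

/-- The image in a permutation stored as a tree. -/
noncomputable def pt (P : Tree) (d : ℕ) : ℕ := force d fun d' => entry P (nat_lit 64) (nat_lit 20) d'

/-- Iterated image in a permutation stored as a tree. -/
noncomputable def ptIt (P : Tree) (m : ℕ) : ℕ → ℕ :=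
  Nat.rec (fun d => d) (fun _ ih d => force (pt P d) ih) m

/-- Iteration which stops, successfully, at an image below the start `d`; otherwise the last image is `tgt`. -/
noncomputable def ptDown (P : Tree) (d tgt : ℕ) (m : ℕ) : ℕ → Bool :=
  Nat.rec (fun c => Nat.beq c tgt) (fun _ ih c => force (pt P c) fun c' => Nat.blt c' d || ih c') m

theorem ptIt_succ (P : Tree) (m d : ℕ) : ptIt P (m + 1) d = ptIt P m (pt P d) := by
  show force (pt P d) (ptIt P m) = _
  rw [force_eq]

theorem ptDown_spec {P : Tree} {d tgt : ℕ} : ∀ (m c : ℕ), ptDown P d tgt m c = true →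
    ptIt P m c = tgt ∨ ∃ j ≤ m, ptIt P j c < d := by
  intro m
  induction m with
  | zero => intro c h; exact Or.inl (Nat.eq_of_beq_eq_true h)
  | succ m ih =>
    intro c h
    simp only [ptDown, force_eq, Bool.or_eq_true, blt_iff] at h
    rcases h with h | h
    · exact Or.inr ⟨1, by omega, by rw [ptIt_succ]; exact h⟩
    · rcases ih _ (by simp only [ptDown, force_eq]; exact h) with h' | ⟨j, hj, hj'⟩
      · exact Or.inl (by rw [ptIt_succ]; exact h')
      · exact Or.inr ⟨j + 1, by omega, by rw [ptIt_succ]; exact hj'⟩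

/-- A commutation at a point, waived when a neighbour is smaller. -/
noncomputable def okComm (row d p : ℕ) : Bool :=
  force (Nat.div p (nat_lit 16)) fun x => force (Nat.mod p (nat_lit 16)) fun y =>
    force (fld row (Nat.mul x (nat_lit 20)) (nat_lit 20)) fun a => force (fld row (Nat.mul y (nat_lit 20)) (nat_lit 20)) fun b =>
      Nat.blt a d || Nat.blt b d || Nat.beq (T.act k a y) (T.act k b x)

/-- A braid relation at a point, waived when a neighbour is smaller. -/
noncomputable def okBraid (row d p : ℕ) : Bool :=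
  force (Nat.div p (nat_lit 16)) fun x => force (Nat.mod p (nat_lit 16)) fun y =>
    force (fld row (Nat.mul x (nat_lit 20)) (nat_lit 20)) fun a => force (fld row (Nat.mul y (nat_lit 20)) (nat_lit 20)) fun b =>
      Nat.blt a d || Nat.blt b d || Nat.beq (T.act k (T.act k a y) x) (T.act k (T.act k b x) y)

/-- The data of the checks. -/
structure Rel where
  /-- pairs of commuting letters -/
  cps : List ℕ
  /-- pairs of braided letters -/
  bps : List ℕ
  /-- the first word -/
  w₁ : List ℕ
  /-- its permutation -/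
  P₁ : Tree
  /-- its exponent -/
  e₁ : ℕ
  /-- the letter equal to its power -/
  l₁ : ℕ
  /-- the second word -/
  w₂ : List ℕ
  /-- its permutation -/
  P₂ : Tree
  /-- its exponent -/
  e₂ : ℕ

/-- All checks at one point. -/
noncomputable def okPt (F : Rel) (d : ℕ) : Bool :=
  (force (entry T.tab (nat_lit 8) (Nat.mul k (nat_lit 20)) d) fun row =>
    List.rec (motive := fun _ => Bool) true (fun p _ acc => okComm T k row d p && acc) F.cps &&
    List.rec (motive := fun _ => Bool) true (fun p _ acc => okBraid T k row d p && acc) F.bps) &&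
  Nat.beq (pt F.P₁ d) (runT T k F.w₁ d) && Nat.beq (pt F.P₂ d) (runT T k F.w₂ d) &&
  force (T.act k d F.l₁) (fun t => ptDown F.P₁ d t F.e₁ d) && ptDown F.P₂ d d F.e₂ d &&
  (Bool.rec (force (T.up d) fun e => force (Nat.div e (nat_lit 16)) fun a => force (Nat.mod e (nat_lit 16)) fun x =>
      Nat.blt a d && Nat.blt x k && Nat.beq (T.act k a x) d) true (Nat.beq d (nat_lit 0)))

/-- The checks at the points `lo, …, lo + m - 1`. -/
noncomputable def okPts (F : Rel) (lo m : ℕ) : Bool :=
  allN m fun i => force (Nat.add lo i) fun d => okPt T k F d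

theorem okPts_sound {F : Rel} {lo m : ℕ} (h : okPts T k F lo m = true) :
    (∀ d < lo, okPt T k F d = true) → ∀ d < lo + m, okPt T k F d = true := by
  intro hlo d hd
  by_cases hd' : d < lo
  · exact hlo d hd'
  · have := allN_spec (f := fun i => force (Nat.add lo i) fun d => okPt T k F d) h (d - lo) (by omega)
    rwa [force_eq, show Nat.add lo (d - lo) = d by show lo + (d - lo) = d; omega] at this

theorem fld_row (d x : ℕ) :
    fld (entry T.tab (nat_lit 8) (Nat.mul k (nat_lit 20)) d) (Nat.mul x (nat_lit 20)) (nat_lit 20) = T.act k d x := by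
  unfold Table.act
  rw [force_eq]

theorem all_rec {α : Type} {f : α → Bool} : ∀ {L : List α},
    List.rec (motive := fun _ => Bool) true (fun p _ acc => f p && acc) L = true → ∀ p ∈ L, f p = true := by
  intro L
  induction L with
  | nil => intro _ p hp; simp at hp
  | cons a L ih =>
    intro h p hp
    simp only [Bool.and_eq_true] at h
    rcases List.mem_cons.mp hp with rfl | hp
    · exact h.1
    · exact ih h.2 p hp

section

variable {T k} {F : Rel} (hlt : ∀ d < T.n, ∀ x < k, T.act k d x < T.n)
  (hinv : ∀ d < T.n, ∀ x < k, T.act k (T.act k d x) x = d) (h : ∀ d < T.n, okPt T k F d = true)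

/-- The step function of the table. -/
noncomputable abbrev stp (T : Table) (k : ℕ) : ℕ → ℕ → ℕ := fun x e => T.act k e x

include hlt in
theorem run_lt : ∀ (w : List ℕ), (∀ x ∈ w, x < k) → ∀ d < T.n, run (stp T k) w d < T.n := by
  intro w
  induction w with
  | nil => intro _ d hd; exact hd
  | cons x w ih =>
    intro hw d hd
    exact ih (fun y hy => hw y (List.mem_cons_of_mem _ hy)) _ (hlt d hd x (hw x List.mem_cons_self))

include hlt hinv h

theorem comm_eq {x y : ℕ} (hp : x * 16 + y ∈ F.cps) (hx : x < k) (hy : y < k) (hy16 : y < 16) :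
    ∀ d < T.n, T.act k (T.act k d x) y = T.act k (T.act k d y) x := by
  intro d
  induction d using Nat.strong_induction_on with
  | _ d ih =>
    intro hd
    have h0 := h d hd
    simp only [okPt, force_eq, Bool.and_eq_true] at h0
    have h1 := all_rec h0.1.1.1.1.1.1 _ hp
    simp only [okComm, force_eq, fld_row, Bool.or_eq_true, blt_iff] at h1
    rw [show Nat.div (x * 16 + y) (nat_lit 16) = x by show (x * 16 + y) / 16 = x; omega,
      show Nat.mod (x * 16 + y) (nat_lit 16) = y by show (x * 16 + y) % 16 = y; omega] at h1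
    rcases h1 with (h1 | h1) | h1
    · have e := ih _ h1 (hlt d hd x hx)
      rw [hinv d hd x hx] at e
      rw [e, hinv _ (hlt _ (hlt d hd x hx) y hy) x hx]
    · have e := ih _ h1 (hlt d hd y hy)
      rw [hinv d hd y hy] at e
      rw [← e, hinv _ (hlt _ (hlt d hd y hy) x hx) y hy]
    · exact Nat.eq_of_beq_eq_true h1

theorem braid_eq {x y : ℕ} (hp : x * 16 + y ∈ F.bps) (hx : x < k) (hy : y < k) (hy16 : y < 16) :
    ∀ d < T.n, T.act k (T.act k (T.act k d x) y) x = T.act k (T.act k (T.act k d y) x) y := by
  intro d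
  induction d using Nat.strong_induction_on with
  | _ d ih =>
    intro hd
    have h0 := h d hd
    simp only [okPt, force_eq, Bool.and_eq_true] at h0
    have h1 := all_rec h0.1.1.1.1.1.2 _ hp
    simp only [okBraid, force_eq, fld_row, Bool.or_eq_true, blt_iff] at h1
    rw [show Nat.div (x * 16 + y) (nat_lit 16) = x by show (x * 16 + y) / 16 = x; omega,
      show Nat.mod (x * 16 + y) (nat_lit 16) = y by show (x * 16 + y) % 16 = y; omega] at h1
    rcases h1 with (h1 | h1) | h1
    · have e := ih _ h1 (hlt d hd x hx)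
      rw [hinv d hd x hx] at e
      have a1 := hlt d hd x hx
      have a2 := hlt _ a1 y hy
      have a3 := hlt _ a2 x hx
      rw [← hinv _ a3 y hy, ← e]
    · have e := ih _ h1 (hlt d hd y hy)
      rw [hinv d hd y hy] at e
      have a1 := hlt d hd y hy
      have a2 := hlt _ a1 x hx
      have a3 := hlt _ a2 y hy
      conv_rhs => rw [← hinv _ a3 x hx, e]
    · exact Nat.eq_of_beq_eq_true h1

theorem cox_two {x y : ℕ} (hp : x * 16 + y ∈ F.cps) (hx : x < k) (hy : y < k) (hy16 : y < 16) {d : ℕ} (hd : d < T.n) :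
    run (stp T k) [x, y, x, y] d = d := by
  show T.act k (T.act k (T.act k (T.act k d x) y) x) y = d
  rw [comm_eq hlt hinv h hp hx hy hy16 d hd, hinv _ (hlt d hd y hy) x hx, hinv d hd y hy]

theorem cox_three {x y : ℕ} (hp : x * 16 + y ∈ F.bps) (hx : x < k) (hy : y < k) (hy16 : y < 16) {d : ℕ}
    (hd : d < T.n) : run (stp T k) [x, y, x, y, x, y] d = d := by
  show T.act k (T.act k (T.act k (T.act k (T.act k (T.act k d x) y) x) y) x) y = d
  rw [braid_eq hlt hinv h hp hx hy hy16 d hd,
    hinv _ (hlt _ (hlt d hd y hy) x hx) y hy, hinv _ (hlt d hd y hy) x hx, hinv d hd y hy]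

theorem it_eq {P : Tree} {w : List ℕ} (hw : ∀ x ∈ w, x < k) (hP : ∀ d < T.n, pt P d = runT T k w d) :
    ∀ (m d : ℕ), d < T.n → ptIt P m d = run (stp T k) (List.replicate m w).flatten d := by
  intro m
  induction m with
  | zero => intro d _; rfl
  | succ m ih =>
    intro d hd
    show force (pt P d) (ptIt P m) = _
    rw [force_eq, hP d hd, runT_eq, List.replicate_succ, List.flatten_cons, run_append]
    exact ih _ (run_lt hlt w hw d hd)

theorem cancel : ∀ (v : List ℕ), (∀ x ∈ v, x < k) → ∀ c < T.n,
    run (stp T k) v.reverse (run (stp T k) v c) = c := by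
  intro v
  induction v with
  | nil => intro _ c _; rfl
  | cons x v ih =>
    intro hv c hc
    have hx := hv x List.mem_cons_self
    rw [List.reverse_cons, run_append, show run (stp T k) (x :: v) c = run (stp T k) v (T.act k c x) from rfl,
      ih (fun y hy => hv y (List.mem_cons_of_mem _ hy)) _ (hlt c hc x hx)]
    exact hinv c hc x hx

theorem run_inj {v : List ℕ} (hv : ∀ x ∈ v, x < k) {c c' : ℕ} (hc : c < T.n) (hc' : c' < T.n)
    (e : run (stp T k) v c = run (stp T k) v c') : c = c' := by
  rw [← cancel hlt hinv h v hv c hc, e, cancel hlt hinv h v hv c' hc']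

omit hlt hinv h in
theorem rep_lt {m : ℕ} {w : List ℕ} (hw : ∀ x ∈ w, x < k) : ∀ x ∈ (List.replicate m w).flatten, x < k := by
  intro x hx
  obtain ⟨v, hv, hxv⟩ := List.mem_flatten.mp hx
  exact hw x (List.eq_of_mem_replicate hv ▸ hxv)

omit hlt hinv h in
theorem rep_add (w : List ℕ) (i j : ℕ) :
    (List.replicate i w).flatten ++ (List.replicate j w).flatten = (List.replicate (i + j) w).flatten := by
  rw [← List.flatten_append, List.replicate_append_replicate]

theorem rel_two (hw : ∀ x ∈ F.w₂, x < k) :
    ∀ d < T.n, run (stp T k) (List.replicate F.e₂ F.w₂).flatten d = d := by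
  have hP : ∀ d < T.n, pt F.P₂ d = runT T k F.w₂ d := fun d hd => by
    have h0 := h d hd
    simp only [okPt, Bool.and_eq_true] at h0
    exact Nat.eq_of_beq_eq_true h0.1.1.1.2
  intro d
  induction d using Nat.strong_induction_on with
  | _ d ih =>
    intro hd
    have h0 := h d hd
    simp only [okPt, Bool.and_eq_true] at h0
    rcases ptDown_spec _ _ h0.1.2 with e | ⟨j, -, hj⟩
    · rwa [it_eq hlt hinv h hw hP F.e₂ d hd] at e
    · rw [it_eq hlt hinv h hw hP j d hd] at hj
      have hc := run_lt hlt _ (rep_lt (m := j) hw) d hd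
      have e := ih _ hj hc
      rw [← run_append, rep_add, Nat.add_comm, ← rep_add, run_append] at e
      exact run_inj hlt hinv h (rep_lt hw) (run_lt hlt _ (rep_lt hw) d hd) hd e

theorem run_letter {l : ℕ} (hl : l < k) : ∀ (v : List ℕ), (∀ x ∈ v, x < k ∧ x < 16 ∧ l * 16 + x ∈ F.cps) →
    ∀ c < T.n, run (stp T k) v (T.act k c l) = T.act k (run (stp T k) v c) l := by
  intro v
  induction v with
  | nil => intro _ c _; rfl
  | cons x v ih =>
    intro hv c hc
    obtain ⟨hx, hx16, hp⟩ := hv x List.mem_cons_self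
    show run (stp T k) v (T.act k (T.act k c l) x) = T.act k (run (stp T k) v (T.act k c x)) l
    rw [comm_eq hlt hinv h hp hl hx hx16 c hc]
    exact ih (fun y hy => hv y (List.mem_cons_of_mem _ hy)) _ (hlt c hc x hx)

theorem rel_one (hw : ∀ x ∈ F.w₁, x < k ∧ x < 16 ∧ F.l₁ * 16 + x ∈ F.cps) (hl : F.l₁ < k) {d : ℕ} (hd : d < T.n) :
    run (stp T k) ([F.l₁] ++ ((List.replicate F.e₁ F.w₁).flatten).reverse) d = d := by
  have hw' : ∀ x ∈ F.w₁, x < k := fun x hx => (hw x hx).1
  have hP : ∀ d < T.n, pt F.P₁ d = runT T k F.w₁ d := fun d hd => by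
    have h0 := h d hd
    simp only [okPt, Bool.and_eq_true] at h0
    exact Nat.eq_of_beq_eq_true h0.1.1.1.1.2
  have main : ∀ d < T.n, T.act k d F.l₁ = run (stp T k) (List.replicate F.e₁ F.w₁).flatten d := by
    intro d
    induction d using Nat.strong_induction_on with
    | _ d ih =>
      intro hd
      have h0 := h d hd
      simp only [okPt, force_eq, Bool.and_eq_true] at h0
      rcases ptDown_spec _ _ h0.1.1.2 with e | ⟨j, -, hj⟩
      · rw [it_eq hlt hinv h hw' hP F.e₁ d hd] at e
        exact e.symm
      · rw [it_eq hlt hinv h hw' hP j d hd] at hj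
        have hc := run_lt hlt _ (rep_lt (m := j) hw') d hd
        have e := ih _ hj hc
        have hwj : ∀ x ∈ (List.replicate j F.w₁).flatten, x < k ∧ x < 16 ∧ F.l₁ * 16 + x ∈ F.cps := by
          intro x hx
          obtain ⟨v, hv, hxv⟩ := List.mem_flatten.mp hx
          exact hw x (List.eq_of_mem_replicate hv ▸ hxv)
        rw [← run_letter hlt hinv h hl _ hwj d hd, ← run_append, rep_add, Nat.add_comm, ← rep_add, run_append] at e
        exact run_inj hlt hinv h (rep_lt hw') (hlt d hd _ hl) (run_lt hlt _ (rep_lt hw') d hd) e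
  rw [run_append, show run (stp T k) [F.l₁] d = T.act k d F.l₁ from rfl, main d hd]
  exact cancel hlt hinv h _ (rep_lt hw') d hd

end

end FastPoints

end CfsgLib.CosetEnum
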