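/-
A recursion over the elementary abelian subgroups of a group given by a multiplication table, bounding the
product of their orders with the orders of the sets of masks they fix.
-/
import Cfsg.Agent.Lib.CosetEnum.Sound
import Mathlib.Data.Finset.Card

set_option autoImplicit false

namespace CfsgLib.CosetEnum.SpanBound

/-- `forceL l k = k l`; the kernel evaluates the list before passing it on. -/
noncomputable def forceL {α : Type} (l : List ℕ) (k : List ℕ → α) : α :=
  List.rec (motive := fun _ => (List ℕ → α) → α) (fun k => k [])
    (fun x _ ih k => force x fun x' => ih fun xs => k (x' :: xs)) l k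

theorem forceL_eq {α : Type} : ∀ (l : List ℕ) (k : List ℕ → α), forceL l k = k l
  | [], _ => rfl
  | x :: xs, k => by
    show force x (fun x' => forceL xs fun ys => k (x' :: ys)) = _
    rw [force_eq]
    exact forceL_eq xs _

/-- `f` holds for every member with the members after it. -/
noncomputable def eachTail (f : ℕ → List ℕ → Bool) (l : List ℕ) : Bool :=
  List.rec (motive := fun _ => Bool) true (fun v rest acc => f v rest && acc) l

/-- Membership. -/
noncomputable def memB (v : ℕ) (l : List ℕ) : Bool := l.any (Nat.beq v)

theorem memB_iff {v : ℕ} {l : List ℕ} : memB v l = true ↔ v ∈ l := by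
  simp [memB, List.any_eq_true]

/-- The recursion. -/
noncomputable def spanOK (M : ℕ → ℕ → ℕ) (fixd : ℕ → ℕ → Bool) (B : ℕ) :
    ℕ → List ℕ → List ℕ → List ℕ → Bool
  | 0, span, _, cands => cands.all fun v => memB v span
  | n + 1, span, fx, cands => eachTail (fun v rest => memB v span ||
      forceL (span ++ span.map (M v)) fun s => forceL (fx.filter (fixd v)) fun f =>
        Nat.blt (Nat.mul f.length s.length) B &&
          forceL (rest.filter fun u => Nat.beq (M v u) (M u v)) (spanOK M fixd B n s f)) cands

variable {M : ℕ → ℕ → ℕ} {fixd : ℕ → ℕ → Bool} {B : ℕ}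

theorem spanOK_sound (S H : Finset ℕ) (hS : ∀ v ∈ S, ∀ u ∈ S, M v u ∈ S ∧ M v u = M u v)
    (hH : ∀ v ∈ S, ∀ m ∈ H, fixd v m = true) (hone : ∀ v ∈ S, M v 0 = v) :
    ∀ (n : ℕ) (span fx cands : List ℕ), spanOK M fixd B n span fx cands = true → (∀ x ∈ span, x ∈ S) → 0 ∈ span →
      (∀ x ∈ S, x ∈ span ∨ x ∈ cands) → (∀ m ∈ H, m ∈ fx) →
      (∀ x ∈ S, x ∈ span) ∨ H.card * S.card < B := by
  intro n
  induction n with
  | zero =>
    intro span fx cands h _ _ hc _
    refine Or.inl fun x hx => (hc x hx).elim id fun hx' => ?_
    exact memB_iff.mp (List.all_eq_true.mp h x hx')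
  | succ n ih =>
    intro span fx cands h hspan h0 hc hfx
    simp only [spanOK] at h
    induction cands with
    | nil => exact Or.inl fun x hx => (hc x hx).elim id (by simp)
    | cons v rest ihc =>
      simp only [eachTail, forceL_eq, Bool.and_eq_true, Bool.or_eq_true, blt_iff] at h
      obtain ⟨h1, h2⟩ := h
      by_cases hv : v ∈ span ∨ v ∉ S
      · refine ihc ?_ fun x hx => ?_
        · simp only [eachTail, forceL_eq, Bool.or_eq_true, Bool.and_eq_true, blt_iff]
          exact h2
        · rcases hc x hx with hx' | hx'
          · exact Or.inl hx'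
          rcases List.mem_cons.mp hx' with rfl | hx'
          · exact Or.inl (hv.resolve_right (not_not_intro hx))
          · exact Or.inr hx'
      · rw [not_or, not_not] at hv
        obtain ⟨hvs, hvS⟩ := hv
        rcases h1 with h1 | ⟨hlt, hrec⟩
        · exact absurd (memB_iff.mp h1) hvs
        set s := span ++ span.map (M v) with hs
        set f := fx.filter (fixd v) with hf
        have hf' : ∀ m ∈ H, m ∈ f := fun m hm => List.mem_filter.mpr ⟨hfx m hm, hH v hvS m hm⟩
        have hs' : ∀ x ∈ s, x ∈ S := by
          intro x hx
          rcases List.mem_append.mp hx with hx | hx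
          · exact hspan x hx
          · obtain ⟨u, hu, rfl⟩ := List.mem_map.mp hx
            exact (hS v hvS u (hspan u hu)).1
        have hc' : ∀ x ∈ S, x ∈ s ∨ x ∈ rest.filter fun u => Nat.beq (M v u) (M u v) := by
          intro x hx
          rcases hc x hx with hx' | hx'
          · exact Or.inl (List.mem_append_left _ hx')
          rcases List.mem_cons.mp hx' with rfl | hx'
          · exact Or.inl (List.mem_append_right _ (List.mem_map.mpr ⟨0, h0, hone _ hvS⟩))
          · exact Or.inr (List.mem_filter.mpr ⟨hx', by rw [(hS v hvS x hx).2]; exact Nat.beq_refl _⟩)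
        rcases ih s f _ hrec hs' (List.mem_append_left _ h0) hc' hf' with hall | hlt'
        · refine Or.inr (lt_of_le_of_lt ?_ hlt)
          refine Nat.mul_le_mul ?_ ?_
          · exact le_trans (Finset.card_le_card fun m hm => List.mem_toFinset.mpr (hf' m hm)) (List.toFinset_card_le _)
          · exact le_trans (Finset.card_le_card fun x hx => List.mem_toFinset.mpr (hall x hx)) (List.toFinset_card_le _)
        · exact Or.inr hlt'

end CfsgLib.CosetEnum.SpanBound
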