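/-
The presentation of Fi24 with numbered generators.
-/
import Cfsg.Agent.Lib.CosetEnum.Cox
import Cfsg.Prelude.Def_Spor_Fi24

set_option autoImplicit false

namespace CfsgLib.CosetEnum

open Cfsg.Spor

/-- The number of a generator. -/
def idxFi24 : Fi24.Gen → ℕ
  | .l => 0
  | .k => 1
  | .a => 2
  | .b => 3
  | .c => 4
  | .d => 5
  | .e => 6
  | .f => 7
  | .g => 8
  | .j => 9
  | .h => 10
  | .i => 11

/-- The word whose ninth power is the first generator. -/
def e7Fi24 : List ℕ := [2, 3, 4, 5, 6, 7, 10]

/-- The word whose seventeenth power is trivial. -/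
def zWFi24 : List ℕ := [5, 4, 3, 2, 1, 0, 5, 6, 7, 8, 9, 5, 10, 11]

/-- The further relators of Fi24 as words. -/
def extraWFi24 : List (List ℕ) :=
  [[0] ++ (List.replicate 9 e7Fi24).flatten.reverse, (List.replicate 17 zWFi24).flatten]

theorem prod_rep_fi24 {M : Type} [Monoid M] (τ : ℕ → M) (w : List ℕ) : ∀ n,
    ((List.replicate n w).flatten.map τ).prod = (w.map τ).prod ^ n := by
  intro n
  induction n with
  | zero => simp
  | succ n ih => rw [List.replicate_succ, List.flatten_cons, List.map_append, List.prod_append, ih, pow_succ']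

/-- The numbered presentation of Fi24. -/
abbrev presFi24 : Pres where
  α := Fi24.Gen
  dec := inferInstance
  edges := Fi24.edges
  extra := Fi24.extra
  k := 12
  gen := fun i => ([.l, .k, .a, .b, .c, .d, .e, .f, .g, .j, .h, .i] : List Fi24.Gen).getD i .l
  idx := idxFi24
  extraW := extraWFi24
  idx_spec a := by cases a <;> exact ⟨by decide, rfl⟩
  node a := by cases a <;> decide
  symm a b := by cases a <;> cases b <;> decide
  extra_spec M _ τ h := by
    simp only [Fi24.extra, extraWFi24, List.map_cons, List.map_nil, List.map_append, List.prod_append, List.prod_cons,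
      List.prod_nil, mul_one, prod_reverse_inv τ h, prod_rep_fi24]
    simp [e7Fi24, zWFi24, idxFi24, mul_assoc]

theorem hidFi24 : ∀ i < presFi24.k, presFi24.idx (presFi24.gen i) = i := by decide

end CfsgLib.CosetEnum
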