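/-
The presentation of He with numbered generators.
-/
import Cfsg.Agent.Lib.CosetEnum.Cox
import Cfsg.Prelude.Def_Spor_He

set_option autoImplicit false

namespace CfsgLib.CosetEnum

open Cfsg.Spor

/-- The number of a generator. -/
def idxHe : He.Gen → ℕ
  | .a => 0
  | .b => 1
  | .c => 2
  | .d => 3
  | .e => 4
  | .f => 5
  | .g => 6

/-- The further relators of He as words. -/
def extraWHe : List (List ℕ) := [[4, 6, 5, 6, 5], [4, 2, 1, 0, 2, 1, 0, 2, 1, 0], [0, 3, 2, 3, 2, 3, 2, 3, 2, 3, 2], [2, 3, 5, 6, 2, 3, 5, 6, 2, 3, 5, 6, 2, 3, 5, 6]]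

/-- The numbered presentation of He. -/
abbrev presHe : Pres where
  α := He.Gen
  dec := inferInstance
  edges := He.edges
  extra := He.extra
  k := 7
  gen := fun i => ([.a, .b, .c, .d, .e, .f, .g] : List He.Gen).getD i .a
  idx := idxHe
  extraW := extraWHe
  idx_spec a := by cases a <;> exact ⟨by decide, rfl⟩
  node a := by cases a <;> decide
  symm a b := by cases a <;> cases b <;> decide
  extra_spec M _ τ h := by
    have hi : ∀ x, (τ x)⁻¹ = τ x := fun x => inv_eq_of_mul_eq_one_right (h x)
    simp [He.extra, extraWHe, idxHe, pow_succ, mul_assoc, hi]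

end CfsgLib.CosetEnum
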