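/-
Kernel-friendly evaluation of words of matrices over the field with four elements.
-/
import Cfsg.Agent.Lib.G24.Field
import Cfsg.Agent.Lib.CosetEnum.Cox

set_option autoImplicit false

namespace CfsgLib.CosetEnum.GF4Codes

open Matrix CfsgLib.G24

/-- The element with a given code. -/
def toK : ℕ → K
  | 0 => .o
  | 1 => .i
  | 2 => .w
  | 3 => .v
  | _ => .o

/-- The product of two codes. -/
def mulc (a b : ℕ) : ℕ := [0, 0, 0, 0, 0, 1, 2, 3, 0, 2, 3, 1, 0, 3, 1, 2].getD (4 * a + b) 0

/-- The dot product of two rows of codes. -/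
def dot : List ℕ → List ℕ → ℕ
  | a :: as, b :: bs => mulc a b ^^^ dot as bs
  | _, _ => 0

theorem mulc_lt {a b : ℕ} (ha : a < 4) (hb : b < 4) : mulc a b < 4 := by
  interval_cases a <;> interval_cases b <;> decide

theorem toK_mulc {a b : ℕ} (ha : a < 4) (hb : b < 4) : toK (mulc a b) = toK a * toK b := by
  interval_cases a <;> interval_cases b <;> decide

theorem toK_xor {a b : ℕ} (ha : a < 4) (hb : b < 4) : toK (a ^^^ b) = toK a + toK b := by
  interval_cases a <;> interval_cases b <;> decide

theorem xor_lt {a b : ℕ} (ha : a < 4) (hb : b < 4) : a ^^^ b < 4 := by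
  interval_cases a <;> interval_cases b <;> decide

/-- All entries are codes. -/
def okCodes (l : List ℕ) : Prop := ∀ a ∈ l, a < 4

theorem dot_spec : ∀ (r l : List ℕ), okCodes r → okCodes l → r.length = l.length →
    dot r l < 4 ∧ toK (dot r l) = ∑ i : Fin r.length, toK (r.getD i 0) * toK (l.getD i 0) := by
  intro r
  induction r with
  | nil => intro l _ _ _; exact ⟨by simp [dot], by simp [dot]; rfl⟩
  | cons a as ih =>
    intro l hr hl hlen
    match l, hlen with
    | b :: bs, hlen =>
      have ha := hr a List.mem_cons_self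
      have hb := hl b List.mem_cons_self
      obtain ⟨h1, h2⟩ := ih bs (fun x hx => hr x (List.mem_cons_of_mem _ hx))
        (fun x hx => hl x (List.mem_cons_of_mem _ hx)) (by simpa using hlen)
      refine ⟨xor_lt (mulc_lt ha hb) h1, ?_⟩
      show toK (mulc a b ^^^ dot as bs) = _
      rw [toK_xor (mulc_lt ha hb) h1, toK_mulc ha hb, h2]
      simp [Fin.sum_univ_succ]

/-- A vector from codes. -/
def vecL (n : ℕ) (l : List ℕ) : Fin n → K := fun i => toK (l.getD i.val 0)

/-- A matrix from rows of codes. -/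
def matL (n : ℕ) (M : List (List ℕ)) : Matrix (Fin n) (Fin n) K :=
  fun i j => toK ((M.getD i.val []).getD j.val 0)

/-- The action of a matrix on codes. -/
def stepL (M : List (List ℕ)) (l : List ℕ) : List ℕ := M.map fun r => dot r l

/-- The rows form a square matrix of codes. -/
def okMat (n : ℕ) (M : List (List ℕ)) : Bool :=
  Nat.beq M.length n && M.all fun r => Nat.beq r.length n && r.all fun a => Nat.blt a 4

theorem okMat_spec {n : ℕ} {M : List (List ℕ)} (h : okMat n M = true) :
    M.length = n ∧ ∀ r ∈ M, r.length = n ∧ okCodes r := by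
  simp only [okMat, Bool.and_eq_true, List.all_eq_true] at h
  exact ⟨Nat.eq_of_beq_eq_true h.1, fun r hr => ⟨Nat.eq_of_beq_eq_true (h.2 r hr).1, fun a ha =>
    blt_iff.mp ((h.2 r hr).2 a ha)⟩⟩

theorem stepL_spec {n : ℕ} {M : List (List ℕ)} (h : okMat n M = true) {l : List ℕ} (hl : l.length = n)
    (hc : okCodes l) :
    (stepL M l).length = n ∧ okCodes (stepL M l) ∧ matL n M *ᵥ vecL n l = vecL n (stepL M l) := by
  obtain ⟨hM, hr⟩ := okMat_spec h
  refine ⟨by simp [stepL, hM], fun a ha => ?_, ?_⟩
  · obtain ⟨r, hrm, rfl⟩ := List.mem_map.mp ha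
    exact (dot_spec r l (hr r hrm).2 hc ((hr r hrm).1.trans hl.symm)).1
  · funext i
    have hi : i.val < M.length := hM.symm ▸ i.2
    obtain ⟨r, hrr, hrm⟩ : ∃ r, M.getD i.val [] = r ∧ r ∈ M :=
      ⟨_, rfl, List.getD_eq_getElem M [] hi ▸ List.getElem_mem hi⟩
    have e : (stepL M l).getD i.val 0 = dot r l := by
      rw [List.getD_eq_getElem _ _ (by simpa [stepL] using hi)]
      simp [stepL, ← hrr, hi]
    show ∑ j : Fin n, toK ((M.getD i.val []).getD j.val 0) * toK (l.getD j.val 0) = toK ((stepL M l).getD i.val 0)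
    rw [e, (dot_spec r l (hr r hrm).2 hc ((hr r hrm).1.trans hl.symm)).2, hrr]
    exact (Fintype.sum_equiv (finCongr (hr r hrm).1) _ _ fun j => rfl).symm

/-- The action of a word of matrices on codes. -/
def runL (Ms : List (List (List ℕ))) (l : List ℕ) : List ℕ := Ms.foldr stepL l

theorem runL_spec {n : ℕ} : ∀ Ms : List (List (List ℕ)), (∀ M ∈ Ms, okMat n M = true) →
    ∀ l : List ℕ, l.length = n → okCodes l →
      (runL Ms l).length = n ∧ okCodes (runL Ms l) ∧ (Ms.map (matL n)).prod *ᵥ vecL n l = vecL n (runL Ms l) := by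
  intro Ms
  induction Ms with
  | nil => intro _ l hl hc; exact ⟨hl, hc, by simp [runL]⟩
  | cons M Ms ih =>
    intro h l hl hc
    obtain ⟨h1, h2, h3⟩ := ih (fun X hX => h X (List.mem_cons_of_mem _ hX)) l hl hc
    obtain ⟨g1, g2, g3⟩ := stepL_spec (h M List.mem_cons_self) h1 h2
    refine ⟨g1, g2, ?_⟩
    rw [List.map_cons, List.prod_cons, ← Matrix.mulVec_mulVec, h3]
    exact g3

/-- The unit vectors. -/
def basisL (n : ℕ) : List (List ℕ) := (List.range n).map fun i => (List.range n).map fun j => if i = j then 1 else 0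

theorem basisL_spec {n : ℕ} (j : Fin n) :
    ∃ l ∈ basisL n, l.length = n ∧ okCodes l ∧ Pi.single j (1 : K) = vecL n l := by
  refine ⟨(List.range n).map fun i => if j.val = i then 1 else 0, ?_, by simp, fun a ha => ?_, ?_⟩
  · exact List.mem_map.mpr ⟨j.val, List.mem_range.mpr j.2, rfl⟩
  · obtain ⟨i, -, rfl⟩ := List.mem_map.mp ha
    split_ifs <;> decide
  · funext i
    rw [vecL, List.getD_eq_getElem _ _ (by simp)]
    simp only [List.getElem_map, List.getElem_range]
    rcases eq_or_ne i j with rfl | hij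
    · rw [Pi.single_eq_same, if_pos rfl]; rfl
    · rw [Pi.single_eq_of_ne hij, if_neg fun e => hij (Fin.ext e).symm]; rfl

/-- A word of matrices with product one. -/
def okOne (n : ℕ) (Ms : List (List (List ℕ))) : Bool :=
  Ms.all (okMat n) && (basisL n).all fun l => decide (runL Ms l = l)

theorem prod_eq_one {n : ℕ} {Ms : List (List (List ℕ))} (h : okOne n Ms = true) :
    (Ms.map (matL n)).prod = 1 := by
  simp only [okOne, Bool.and_eq_true, List.all_eq_true, decide_eq_true_eq] at h
  refine Matrix.ext_of_mulVec_single fun j => ?_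
  obtain ⟨l, hl, h1, h2, e⟩ := basisL_spec j
  rw [e, (runL_spec Ms h.1 l h1 h2).2.2, h.2 l hl, Matrix.one_mulVec]

end CfsgLib.CosetEnum.GF4Codes
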