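/-
A presentation of G₂(4) with numbered generators.
-/
import Cfsg.Agent.Lib.CosetEnum.Cox

set_option autoImplicit false

namespace CfsgLib.CosetEnum

open Cfsg.Spor

/-- The graph. -/
def edgesG24 : List (Fin 6 × ℕ × Fin 6) :=
  [(0, 5, 1), (1, 3, 2), (2, 8, 3), (3, 3, 4), (1, 3, 5)]

/-- A word in the free group. -/
def freeWordG24 (w : List ℕ) : FreeGroup (Fin 6) := (w.map fun x => FreeGroup.of (Fin.ofNat 6 x)).prod

/-- The further relators as words. -/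
def extraWG24 : List (List ℕ) := [[0, 3, 2, 3, 2, 3, 2, 3, 2], [0, 1, 2, 5, 0, 1, 2, 5, 0, 1, 2, 5, 0, 1, 2, 5, 0, 1, 2, 5], [1, 2, 3, 2, 3, 1, 2, 3, 2, 3, 1, 2, 3, 2, 3, 1, 2, 3, 2, 3, 1, 2, 3, 2, 3, 4, 1, 2, 3, 2, 3, 1, 2, 3, 2, 3, 1, 2, 3, 2, 3, 1, 2, 3, 2, 3, 1, 2, 3, 2, 3, 4, 1, 2, 3, 2, 3, 1, 2, 3, 2, 3, 1, 2, 3, 2, 3, 1, 2, 3, 2, 3, 1, 2, 3, 2, 3, 4]]

/-- The numbered presentation. -/
abbrev presG24 : Pres where
  α := Fin 6
  dec := inferInstance
  edges := edgesG24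
  extra := extraWG24.map freeWordG24
  k := 6
  gen := Fin.ofNat 6
  idx := fun a => a.val
  extraW := extraWG24
  idx_spec a := ⟨a.2, Fin.ofNat_val_eq_self a⟩
  node a := by revert a; decide
  symm a b := by revert a b; decide
  extra_spec M _ τ h := by
    rw [List.map_map]
    refine List.map_congr_left fun w hw => ?_
    have hlt : ∀ x ∈ w, x < 6 := (show ∀ w ∈ extraWG24, ∀ x ∈ w, x < 6 by decide) w hw
    simp only [Function.comp_apply, freeWordG24, map_list_prod, List.map_map]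
    refine congrArg List.prod (List.map_congr_left fun x hx => ?_)
    simp [Nat.mod_eq_of_lt (hlt x hx)]

end CfsgLib.CosetEnum
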