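/-
Involutions of the Chevalley group of type G2 over four elements.
-/
import Cfsg.Agent.Lib.CosetEnum.GF4Codes
import Cfsg.Agent.Lib.CosetEnum.PresG24
import Cfsg.Agent.Lib.G24.Rep

set_option autoImplicit false
set_option maxRecDepth 100000

namespace CfsgLib.CosetEnum.G24Elements

open Matrix CfsgLib.G24 CfsgLib.CosetEnum.GF4Codes Cfsg.Lie

/-- The words in root elements. -/
def words : List (List (ℕ × ℕ)) :=
  [[(11, 1)],
  [(10, 1), (3, 2), (2, 1), (11, 1), (2, 1), (3, 2), (10, 1)],
  [(6, 1), (7, 3), (1, 1), (11, 1), (1, 1), (7, 3), (6, 1)],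
  [(6, 1), (4, 3), (7, 3), (1, 1), (9, 1), (1, 1), (7, 3), (4, 3), (6, 1)],
  [(8, 2), (7, 3), (4, 2), (1, 1), (9, 1), (1, 1), (4, 2), (7, 3), (8, 2)],
  [(0, 2), (11, 2), (0, 1), (11, 1), (0, 1), (11, 2), (0, 2)]]

/-- The code of a field element. -/
def codeK : K → ℕ
  | .o => 0
  | .i => 1
  | .w => 2
  | .v => 3

/-- A root element as rows of codes. -/
def xhL (r t : ℕ) : List (List ℕ) := (List.range 6).map fun a => (List.range 6).map fun b =>
  (if a = b then 1 else 0) ^^^ (if (a, b) ∈ basisPos.getD (2 + r) [] then t else 0) ^^^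
    (if (a, b) ∈ quadPos.getD r [] then mulc t t else 0)

theorem xh_eq : ∀ (r : Fin chevG2.nroots) (t : K), xh r t = matL 6 (xhL r.val (codeK t)) := by
  decide +kernel

/-- A letter as a root element. -/
def letterG (e : ℕ × ℕ) : Fin chevG2.nroots × K :=
  (if h : e.1 < 12 then ⟨e.1, h⟩ else ⟨0, by decide⟩, toK e.2)

/-- The root elements of a word of generators. -/
def expand (w : List ℕ) : List (ℕ × ℕ) := w.flatMap fun x => words.getD x []

theorem wordMat_eq (l : List (ℕ × ℕ)) (hl : (l.all fun e => Nat.blt e.1 12 && Nat.blt e.2 4) = true) :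
    wordMat (l.map letterG) = ((l.map fun e => xhL e.1 e.2).map (matL 6)).prod := by
  rw [wordMat, List.map_map, List.map_map]
  refine congrArg List.prod (List.map_congr_left fun e he => ?_)
  have h := List.all_eq_true.mp hl e he
  rw [Bool.and_eq_true, blt_iff, blt_iff] at h
  have hc : ∀ c < 4, codeK (toK c) = c := by decide
  show xh (letterG e).1 (letterG e).2 = matL 6 (xhL e.1 e.2)
  rw [xh_eq]
  simp [letterG, h.1, hc e.2 h.2]

/-- The element with a given number. -/
noncomputable def elt (x : ℕ) : ↥(chevG2.group K) := Classical.choose (word_mem ((words.getD x []).map letterG))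

theorem rep_elt (x : ℕ) : (rep (elt x) : Matrix (Fin 6) (Fin 6) K) = wordMat ((words.getD x []).map letterG) :=
  Classical.choose_spec (word_mem ((words.getD x []).map letterG))

theorem rep_prod : ∀ w : List ℕ,
    (rep (w.map elt).prod : Matrix (Fin 6) (Fin 6) K) = wordMat ((expand w).map letterG) := by
  intro w
  induction w with
  | nil => simp [expand, wordMat]
  | cons x w ih =>
    rw [List.map_cons, List.prod_cons, map_mul, Units.val_mul, ih, rep_elt]
    simp [expand, wordMat]

theorem prod_one {w : List ℕ} (h : (((expand w).all fun e => Nat.blt e.1 12 && Nat.blt e.2 4) &&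
    okOne 6 ((expand w).map fun e => xhL e.1 e.2)) = true) : (w.map elt).prod = 1 := by
  rw [Bool.and_eq_true] at h
  refine rep_injective ?_
  rw [map_one]
  refine Units.ext ?_
  rw [rep_prod, wordMat_eq _ h.1, prod_eq_one h.2]
  rfl

theorem elt_sq (x : ℕ) : elt x * elt x = 1 := by
  by_cases hx : x < 6
  · have h : ∀ y < 6, (((expand [y, y]).all fun e => Nat.blt e.1 12 && Nat.blt e.2 4) &&
        okOne 6 ((expand [y, y]).map fun e => xhL e.1 e.2)) = true := by decide +kernel
    simpa using prod_one (h x hx)
  · have hw : words.getD x [] = [] := List.getD_eq_default _ _ (by simpa [words] using not_lt.mp hx)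
    simpa using prod_one (w := [x, x]) (by
      have : expand [x, x] = [] := by simp only [expand, List.flatMap_cons, List.flatMap_nil, hw, List.append_nil]
      rw [this]
      decide +kernel)

theorem rels_check : presG24.rels.all (fun w => ((expand w).all fun e => Nat.blt e.1 12 && Nat.blt e.2 4) &&
    okOne 6 ((expand w).map fun e => xhL e.1 e.2)) = true := by
  decide +kernel

/-- The representation. -/
noncomputable def hom : presG24.Grp →* ↥(chevG2.group K) :=
  PresentedGroup.toGroup (f := elt ∘ presG24.idx)
    (presG24.lift_rel elt_sq fun w hw => prod_one (List.all_eq_true.mp rels_check w hw))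

theorem hom_ne_one : hom (PresentedGroup.of 0) ≠ 1 := by
  intro h
  rw [hom, PresentedGroup.toGroup.of, Function.comp_apply] at h
  have h' : wordMat ((words.getD 0 []).map letterG) = 1 := by
    rw [← rep_elt, show elt 0 = 1 from h, map_one]
    rfl
  rw [wordMat_eq _ (by decide)] at h'
  have key : matL 6 (xhL 11 1) ≠ 1 := by decide +kernel
  refine key ?_
  have h2 : ((([(11, 1)] : List (ℕ × ℕ)).map fun e => xhL e.1 e.2).map (matL 6)).prod = 1 := h'
  simpa using h2

end CfsgLib.CosetEnum.G24Elements
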