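/-
The order and simplicity of the presented G₂(4).
-/
import Cfsg.Agent.Lib.CosetEnum.Simple
import Cfsg.Agent.Lib.CosetEnum.G416.Main
import Cfsg.Agent.Lib.CosetEnum.G24Chain.Levels
import Cfsg.Agent.Lib.CosetEnum.G24Z.Main
import Cfsg.Agent.Lib.CosetEnum.SuzB.Main
import Cfsg.Agent.Lib.CosetEnum.SuzC.Main
import Cfsg.Agent.Lib.CosetEnum.SuzD.Main
import Mathlib.Tactic.Ring

set_option autoImplicit false

namespace CfsgLib.CosetEnum.G24Order

open CfsgLib.CosetEnum

theorem upper : Finite presG24.Grp ∧ Nat.card presG24.Grp ≤ 251596800 := by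
  have h0 := presG24.card_step SuzD.sheet SuzD.sel rfl [] presG24.der_nil (by decide +kernel) (by decide +kernel)
    (wordsSub_nil _)
  have h1 := presG24.card_step SuzC.sheet SuzC.sel rfl [] presG24.der_nil (by decide +kernel) (by decide +kernel) h0
  have h2 := presG24.card_step SuzB.sheet SuzB.sel rfl [] presG24.der_nil (by decide +kernel) (by decide +kernel) h1
  exact G416.cert.card_top G416.hlt (by decide) G416.hhw h2

theorem lower [Finite presG24.Grp] {K : ℕ}
    (h : K ≤ Nat.card (G416.cert.fixSub G416.hlt [0, 4, 2, 7, 13])) :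
    251596800 * K ≤ Nat.card (G416.cert.fixSub G416.hlt []) := by
  have hid : ∀ i < presG24.k, presG24.idx (presG24.gen i) = i := by decide
  have h4 := G416.cert.level_step G416.hlt hid [0, 4, 2, 7] G24Chain.lev4 G24Chain.lev4_ok
    (show 13 < 416 by decide) h
  have h3 := G416.cert.level_step G416.hlt hid [0, 4, 2] G24Chain.lev3 G24Chain.lev3_ok
    (show 7 < 416 by decide) h4
  have h2 := G416.cert.level_step G416.hlt hid [0, 4] G24Chain.lev2 G24Chain.lev2_ok
    (show 2 < 416 by decide) h3
  have h1 := G416.cert.level_step G416.hlt hid [0] G24Chain.lev1 G24Chain.lev1_ok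
    (show 4 < 416 by decide) h2
  have h0 := G416.cert.level_step G416.hlt hid [] G24Chain.lev0 G24Chain.lev0_ok
    (show 0 < 416 by decide) h1
  refine le_trans (le_of_eq ?_) h0
  show _ = (416 * (315 * (32 * (20 * (3 * K)))))
  ring

theorem card_simple : Nat.card presG24.Grp = 251596800 ∧ IsSimpleGroup presG24.Grp := by
  have := upper.1
  have hlow := G416.cert.card_le_of_fixSub G416.hlt (lower (G416.cert.ker_le_fixSub G416.hlt _))
  have hinj : Function.Injective (G416.cert.hom G416.hlt) := G416.cert.hom_injective G416.hlt hlow upper.2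
  have hcard : Nat.card presG24.Grp = 251596800 :=
    le_antisymm upper.2 ((Nat.le_mul_of_pos_right _ Nat.card_pos).trans hlow)
  exact ⟨hcard, G416.cert.isSimple G416.hlt (by decide) G416.hhw hinj G416.orb G416.roots G416.hwR
    (by decide +kernel) G416.orbs [1, 315, 100] (by decide +kernel) (by decide +kernel) (by decide +kernel) rfl
    (by decide +kernel) (q := 13) (show 1 < 416 by decide) (by rw [hcard]; decide +kernel)
    [3, 4, 2, 0, 2, 5, 2, 1, 2] (by decide +kernel) (by decide +kernel) G24Z.sheet rfl rfl rfl (by decide +kernel)⟩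

end CfsgLib.CosetEnum.G24Order
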