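/-
The presented Hall–Janko group is the icosian one.
-/
import Cfsg.Agent.Lib.CosetEnum.Sub
import Cfsg.Agent.Lib.CosetEnum.PresJ2
import Cfsg.Agent.Lib.CosetEnum.SuzB.Main
import Cfsg.Agent.Lib.CosetEnum.SuzC.Main
import Cfsg.Agent.Lib.CosetEnum.SuzD.Main
import Cfsg.Agent.Lib.HallJanko.Blocks

set_option autoImplicit false
set_option maxRecDepth 100000

namespace CfsgLib.CosetEnum.J2Iso

open CfsgLib.CosetEnum CfsgHJ

theorem upper : Finite presJ2.Grp ∧ Nat.card presJ2.Grp ≤ 604800 := by
  have h0 := presJ2.card_step SuzD.sheet SuzD.sel rfl [] presJ2.der_nil (by decide +kernel) (by decide +kernel)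
    (wordsSub_nil _)
  have h1 := presJ2.card_step SuzC.sheet SuzC.sel rfl [] presJ2.der_nil (by decide +kernel) (by decide +kernel) h0
  have h2 := presJ2.card_step SuzB.sheet SuzB.sel rfl [] presJ2.der_nil (by decide +kernel) (by decide +kernel) h1
  have e : wordsSub presJ2.σ (SuzB.sel.map fun i => [i]) = ⊤ := by
    rw [← presJ2.closure_eq_wordsSub, eq_top_iff, ← presJ2.gen_closure, Subgroup.closure_le]
    rintro _ ⟨x, hx, rfl⟩
    refine Subgroup.subset_closure ⟨x, hx, congrArg presJ2.σ ?_⟩
    have key : ∀ x < 5, SuzB.sel.getD x 5 = x := by decide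
    exact key x hx
  rw [e, Subgroup.card_top] at h2
  have := h2.1
  exact ⟨Finite.of_equiv _ Subgroup.topEquiv.toEquiv, h2.2⟩

/-- The images of the generators as words in the reflections. -/
def imgWords : List (List ℕ) := [[3, 4, 1, 4, 2, 0, 3, 0, 2, 4, 1, 4, 3], [3, 4, 2, 1, 0, 3, 0, 1, 2, 4, 3], [3, 1, 2, 4, 3, 4, 2, 1, 3], [0, 1, 2, 0, 4, 0, 1, 3, 2, 3, 4, 3, 1, 3, 2, 3, 4, 3, 1, 3, 2, 3, 4, 3, 0, 4, 0, 2, 1, 0], [3, 1, 0, 4, 2, 0, 1, 3, 2, 3, 4, 3, 1, 3, 2, 3, 4, 3, 1, 3, 2, 3, 4, 3, 0, 2, 4, 0, 1, 3]]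

/-- The reflections as words in the images. -/
def backWords : List (List ℕ) := [[1, 2, 1, 3, 4, 3, 2, 1, 3, 2, 1, 0, 1, 2, 3, 2, 1, 3, 4, 3, 2, 1], [0, 2, 4, 3, 2, 1, 0, 1, 0, 2, 3, 2, 4], [3, 2, 1, 0, 1, 2, 3, 2, 1, 4, 3, 2, 1, 3, 2, 4, 3, 2, 1, 0, 1, 2, 3], [0, 3, 2, 1, 4, 3, 2, 1, 0, 3, 2, 4, 3], [2, 1, 0, 3, 2, 1, 3, 2]]

/-- The code of a word in the reflections. -/
def codeOf (w : List ℕ) : ℕ := w.foldr (fun a c => cp 100 (gCode a) c) (idk 100)

/-- The code of a word in the images. -/
def codeImg (w : List ℕ) : ℕ := codeOf (w.flatMap fun x => imgWords.getD x [])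

/-- A reflection in the group on 100 points. -/
noncomputable def gen (a : ℕ) : Equiv.Perm (Fin 100) := if h : a < 5 then rho (genEl ⟨a, h⟩) else 1

theorem gen_rep {a : ℕ} (h : a < 5) : Rep 100 (gCode a) (gen a) := by
  rw [gen, dif_pos h]
  exact rep_gen ⟨a, h⟩

theorem gen_mem (a : ℕ) : gen a ∈ hjGroup := by
  unfold gen
  split
  · exact rho_range ▸ ⟨_, rfl⟩
  · exact one_mem _

section
attribute [local irreducible] cp idk gCode

theorem rep_word : ∀ w : List ℕ, (∀ a ∈ w, a < 5) → Rep 100 (codeOf w) (w.map gen).prod := by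
  intro w
  induction w with
  | nil =>
    intro _
    rw [codeOf, List.foldr_nil, List.map_nil, List.prod_nil]
    exact rep_id (by norm_num)
  | cons a w ih =>
    intro h
    rw [List.map_cons, List.prod_cons, codeOf, List.foldr_cons]
    exact (gen_rep (h a List.mem_cons_self)).comp (ih fun b hb => h b (List.mem_cons_of_mem _ hb))

end

/-- The image of a generator. -/
noncomputable def elt (x : ℕ) : Equiv.Perm (Fin 100) := ((imgWords.getD x []).map gen).prod

theorem elt_prod : ∀ w : List ℕ,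
    (w.map elt).prod = ((w.flatMap fun x => imgWords.getD x []).map gen).prod := by
  intro w
  induction w with
  | nil => rfl
  | cons x w ih =>
    rw [List.map_cons, List.prod_cons, ih, List.flatMap_cons, List.map_append, List.prod_append]
    rfl

theorem letters (w : List ℕ) : ∀ a ∈ w.flatMap (fun x => imgWords.getD x []), a < 5 := by
  intro a ha
  obtain ⟨x, -, hax⟩ := List.mem_flatMap.mp ha
  by_cases hx : x < 5
  · have key : ∀ x < 5, ∀ a ∈ imgWords.getD x [], a < 5 := by decide
    exact key x hx a hax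
  · rw [List.getD_eq_default _ _ (show imgWords.length ≤ x by simpa [imgWords] using not_lt.mp hx)] at hax
    simp at hax

theorem rep_elt (w : List ℕ) : Rep 100 (codeImg w) (w.map elt).prod :=
  elt_prod w ▸ rep_word _ (letters w)

theorem word_one {w : List ℕ} (h : Nat.beq (codeImg w) (idk 100) = true) : (w.map elt).prod = 1 :=
  (rep_elt w).eq_beq (rep_id (by norm_num)) h

theorem elt_sq (x : ℕ) : elt x * elt x = 1 := by
  have h : Nat.beq (codeImg [x, x]) (idk 100) = true := by
    by_cases hx : x < 5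
    · have key : ∀ x < 5, Nat.beq (codeImg [x, x]) (idk 100) = true := by decide +kernel
      exact key x hx
    · have e : imgWords.getD x [] = [] :=
        List.getD_eq_default _ _ (show imgWords.length ≤ x by simpa [imgWords] using not_lt.mp hx)
      have e' : codeImg [x, x] = idk 100 := by
        rw [codeImg, List.flatMap_cons, List.flatMap_cons, List.flatMap_nil, e]
        rfl
      rw [e']
      exact Nat.beq_refl _
  simpa using word_one h

theorem rels_check : presJ2.rels.all (fun w => Nat.beq (codeImg w) (idk 100)) = true := by decide +kernel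

/-- The representation. -/
noncomputable def hom : presJ2.Grp →* Equiv.Perm (Fin 100) :=
  PresentedGroup.toGroup (f := elt ∘ presJ2.idx)
    (presJ2.lift_rel elt_sq fun w hw => word_one (List.all_eq_true.mp rels_check w hw))

theorem back_check : (List.range 5).all (fun a => Nat.beq (codeImg (backWords.getD a [])) (gCode a)) = true := by
  decide +kernel

theorem range_hom : hom.range = hjGroup := by
  apply le_antisymm
  · rw [MonoidHom.range_eq_map, ← PresentedGroup.closure_range_of presJ2.relSet, MonoidHom.map_closure,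
      Subgroup.closure_le]
    rintro _ ⟨_, ⟨i, rfl⟩, rfl⟩
    rw [hom, PresentedGroup.toGroup.of]
    refine Submonoid.list_prod_mem _ fun g hg => ?_
    obtain ⟨a, -, rfl⟩ := List.mem_map.mp hg
    exact gen_mem a
  · rw [hjGroup, genG, Subgroup.closure_le]
    rintro g ⟨c, hc, hg⟩
    obtain ⟨a, ha, rfl⟩ := List.getElem_of_mem hc
    have ha' : a < 5 := by rwa [genCodes_length] at ha
    have e : gCode a = genCodes[a] := by unfold gCode; exact List.getD_eq_getElem _ _ ha
    have h := List.all_eq_true.mp back_check a (List.mem_range.mpr ha')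
    have hgb : ((backWords.getD a []).map elt).prod = g := (rep_elt _).eq_beq (e.symm ▸ hg) h
    rw [SetLike.mem_coe, ← hgb]
    refine Submonoid.list_prod_mem _ fun y hy => ?_
    obtain ⟨x, hx, rfl⟩ := List.mem_map.mp hy
    have key : ∀ a < 5, ∀ x ∈ backWords.getD a [], x < 5 := by decide
    refine ⟨PresentedGroup.of (Fin.ofNat 5 x), ?_⟩
    rw [hom, PresentedGroup.toGroup.of]
    show elt ((Fin.ofNat 5 x).val) = elt x
    exact congrArg elt (Nat.mod_eq_of_lt (key a ha' x hx))

/-- The presented group is isomorphic to the icosian one. -/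
theorem isoJ2 : Nonempty (presJ2.Grp ≃* Cfsg.Spor.J2) := by
  have := upper.1
  let ψ : presJ2.Grp →* hjGroup := hom.codRestrict _ fun g => by rw [← range_hom]; exact ⟨g, rfl⟩
  have hsurj : Function.Surjective ψ := fun y => by
    obtain ⟨g, hg⟩ : (y : Equiv.Perm (Fin 100)) ∈ hom.range := by rw [range_hom]; exact y.2
    exact ⟨g, Subtype.ext hg⟩
  have hcard : Nat.card presJ2.Grp = Nat.card hjGroup :=
    le_antisymm (card_hjGroup ▸ upper.2) (Nat.card_le_card_of_surjective ψ hsurj)
  exact ⟨(MulEquiv.ofBijective ψ ((Nat.bijective_iff_surjective_and_card ψ).mpr ⟨hsurj, hcard⟩)).trans hjEquiv.symm⟩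

end CfsgLib.CosetEnum.J2Iso
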