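/-
The first four generators of the presentation of the Hall–Janko group: the group they present and its image
in the permutation group of degree 100.
-/
import Cfsg.Agent.Lib.CosetEnum.J2Iso

set_option autoImplicit false
set_option maxRecDepth 100000

namespace CfsgLib.CosetEnum.J2Four

open CfsgLib.CosetEnum CfsgLib.CosetEnum.J2Iso CfsgHJ

/-- The graph. -/
def edgesFour : List (Fin 4 × ℕ × Fin 4) := [(0, 5, 1), (1, 3, 2), (2, 8, 3)]

/-- A word in the free group. -/
def freeWordFour (w : List ℕ) : FreeGroup (Fin 4) := (w.map fun x => FreeGroup.of (Fin.ofNat 4 x)).prod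

/-- The further relator as a word. -/
def extraWFour : List (List ℕ) := [[0, 3, 2, 3, 2, 3, 2, 3, 2]]

/-- The numbered presentation. -/
abbrev presFour : Pres where
  α := Fin 4
  dec := inferInstance
  edges := edgesFour
  extra := extraWFour.map freeWordFour
  k := 4
  gen := Fin.ofNat 4
  idx := fun a => a.val
  extraW := extraWFour
  idx_spec a := ⟨a.2, Fin.ofNat_val_eq_self a⟩
  node a := by revert a; decide
  symm a b := by revert a b; decide
  extra_spec M _ τ h := by
    rw [List.map_map]
    refine List.map_congr_left fun w hw => ?_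
    have hlt : ∀ x ∈ w, x < 4 := (show ∀ w ∈ extraWFour, ∀ x ∈ w, x < 4 by decide) w hw
    simp only [Function.comp_apply, freeWordFour, map_list_prod, List.map_map]
    refine congrArg List.prod (List.map_congr_left fun x hx => ?_)
    simp [Nat.mod_eq_of_lt (hlt x hx)]

theorem upper : Finite presFour.Grp ∧ Nat.card presFour.Grp ≤ 2160 := by
  have h0 := presFour.card_step SuzD.sheet SuzD.sel rfl [] presFour.der_nil (by decide +kernel) (by decide +kernel)
    (wordsSub_nil _)
  have h1 := presFour.card_step SuzC.sheet SuzC.sel rfl [] presFour.der_nil (by decide +kernel) (by decide +kernel) h0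
  have e : wordsSub presFour.σ (SuzC.sel.map fun i => [i]) = ⊤ := by
    rw [← presFour.closure_eq_wordsSub, eq_top_iff, ← presFour.gen_closure, Subgroup.closure_le]
    rintro _ ⟨x, hx, rfl⟩
    refine Subgroup.subset_closure ⟨x, hx, congrArg presFour.σ ?_⟩
    have key : ∀ x < 4, SuzC.sel.getD x 4 = x := by decide
    exact key x hx
  rw [e, Subgroup.card_top] at h1
  have := h1.1
  exact ⟨Finite.of_equiv _ Subgroup.topEquiv.toEquiv, h1.2⟩

theorem rels_check : presFour.rels.all (fun w => Nat.beq (codeImg w) (idk 100)) = true := by decide +kernel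

/-- The representation. -/
noncomputable def model : presFour.Grp →* Equiv.Perm (Fin 100) :=
  PresentedGroup.toGroup (f := elt ∘ presFour.idx)
    (presFour.lift_rel elt_sq fun w hw => word_one (List.all_eq_true.mp rels_check w hw))

theorem model_σ {x : ℕ} (hx : x < 4) : model (presFour.σ x) = elt x := by
  have h : presFour.σ x = PresentedGroup.of (presFour.gen x) := if_pos hx
  rw [h, model, PresentedGroup.toGroup.of]
  show elt (Fin.ofNat 4 x).val = elt x
  exact congrArg elt (Nat.mod_eq_of_lt hx)

theorem model_word {w : List ℕ} (hw : ∀ x ∈ w, x < 4) :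
    model (w.map presFour.σ).prod = (w.map elt).prod := by
  rw [map_list_prod, List.map_map]
  exact congrArg List.prod (List.map_congr_left fun x hx => model_σ (hw x hx))

theorem word_ne {w : List ℕ} (h : ∃ i : Fin 100, Nat.beq (ap (codeImg w) i) i = false) :
    (w.map elt).prod ≠ 1 := by
  intro e
  obtain ⟨i, hi⟩ := h
  have h1 : ap (codeImg w) i = ((w.map elt).prod i : ℕ) := rep_elt w i
  rw [e, Equiv.Perm.one_apply] at h1
  rw [h1, Nat.beq_refl] at hi
  exact Bool.noConfusion hi

/-- The word `b c d c d`. -/
def wordW : List ℕ := [1, 2, 3, 2, 3]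

/-- Powers of the word. -/
def wPow (n : ℕ) : List ℕ := (List.replicate n wordW).flatten

theorem wPow_prod {M : Type*} [Monoid M] (τ : ℕ → M) : ∀ n,
    ((wPow n).map τ).prod = ((wordW.map τ).prod) ^ n := by
  intro n
  induction n with
  | zero => simp [wPow]
  | succ n ih =>
    rw [pow_succ', ← ih]
    simp only [wPow, List.replicate_succ, List.flatten_cons, List.map_append, List.prod_append]

theorem wPow_letters : ∀ n, ∀ x ∈ wPow n, x < 4 := fun n x hx => by
  obtain ⟨l, hl, hxl⟩ := List.mem_flatten.mp hx
  rw [List.eq_of_mem_replicate hl] at hxl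
  exact (show ∀ x ∈ wordW, x < 4 by decide) x hxl

theorem five_ne : ((wPow 5).map elt).prod ≠ 1 := word_ne (by decide +kernel)

theorem twelve_ne : ((wPow 12).map elt).prod ≠ 1 := word_ne (by decide +kernel)

/-- Commutation of the fifth power with a word. -/
def commWord (v : List ℕ) : List ℕ := wPow 5 ++ v ++ (wPow 5).reverse ++ v.reverse

theorem comm_check : [[0], [1], [2], [3, 2, 3]].all (fun v => Nat.beq (codeImg (commWord v)) (idk 100)) = true := by
  decide +kernel

end CfsgLib.CosetEnum.J2Four
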