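/-
A presentation of the third Janko group with numbered generators.
-/
import Cfsg.Agent.Lib.CosetEnum.Cox

set_option autoImplicit false

namespace CfsgLib.CosetEnum

open Cfsg.Spor

/-- The graph. -/
def edgesJ3 : List (Fin 4 × ℕ × Fin 4) :=
  [(0, 17, 1), (0, 2, 2), (0, 5, 3), (1, 10, 2), (1, 2, 3), (2, 5, 3)]

/-- A word in the free group. -/
def freeWordJ3 (w : List ℕ) : FreeGroup (Fin 4) := (w.map fun x => FreeGroup.of (Fin.ofNat 4 x)).prod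

/-- The further relators as words. -/
def extraWJ3 : List (List ℕ) := [[0, 1, 0, 1, 0, 2, 1, 0, 1, 0, 2, 1, 2, 1, 2], [3, 2, 1, 2, 1, 2, 1, 2, 1, 2, 3, 2, 1, 2, 1, 2, 1, 2, 1, 2], [3, 2, 0, 1, 0, 1, 2, 1, 2, 1, 2, 1, 0, 1, 2, 0, 3, 0, 2, 1, 0, 1, 2, 1, 2, 1, 2, 1, 0, 1, 0, 2], [3, 2, 0, 1, 2, 1, 0, 1, 0, 1, 2, 1, 2, 1, 0, 1, 0, 3, 0, 1, 0, 1, 2, 1, 2, 1, 0, 1, 0, 1, 2, 1, 0, 2], [3, 1, 2, 0, 3, 1, 2, 0, 3, 1, 2, 0], [3, 1, 2, 1, 2, 3, 1, 2, 1, 2, 3, 1, 2, 1, 2, 3, 1, 2, 1, 2, 3, 1, 2, 1, 2], [3, 0, 1, 2, 3, 0, 1, 2, 3, 0, 1, 2, 3, 0, 1, 2, 3, 0, 1, 2, 3, 0, 1, 2, 3, 0, 1, 2, 3, 0, 1, 2, 3, 0, 1, 2, 3, 0, 1, 2], [0, 2, 3, 0, 2, 3, 0, 2, 3], [0, 1, 3, 0, 2, 1, 3, 0, 2, 1, 3, 2]]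

/-- The numbered presentation. -/
abbrev presJ3 : Pres where
  α := Fin 4
  dec := inferInstance
  edges := edgesJ3
  extra := extraWJ3.map freeWordJ3
  k := 4
  gen := Fin.ofNat 4
  idx := fun a => a.val
  extraW := extraWJ3
  idx_spec a := ⟨a.2, Fin.ofNat_val_eq_self a⟩
  node a := by revert a; decide
  symm a b := by revert a b; decide
  extra_spec M _ τ h := by
    rw [List.map_map]
    refine List.map_congr_left fun w hw => ?_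
    have hlt : ∀ x ∈ w, x < 4 := (show ∀ w ∈ extraWJ3, ∀ x ∈ w, x < 4 by decide) w hw
    simp only [Function.comp_apply, freeWordJ3, map_list_prod, List.map_map]
    refine congrArg List.prod (List.map_congr_left fun x hx => ?_)
    simp [Nat.mod_eq_of_lt (hlt x hx)]

end CfsgLib.CosetEnum
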