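/-
The presented third Janko group: order, faithful action on 6156 points, simplicity.
-/
import Cfsg.Agent.Lib.CosetEnum.Simple
import Cfsg.Agent.Lib.CosetEnum.J6156.Main
import Cfsg.Agent.Lib.CosetEnum.J3Chain.Levels
import Cfsg.Agent.Lib.CosetEnum.J3HA.Main
import Cfsg.Agent.Lib.CosetEnum.J3HB.Main
import Cfsg.Agent.Lib.CosetEnum.J3Z.Main

set_option autoImplicit false
set_option maxRecDepth 1000000

namespace CfsgLib.CosetEnum.J3Group

open CfsgLib.CosetEnum

theorem hid : ∀ i < presJ3.k, presJ3.idx (presJ3.gen i) = i := by decide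

theorem upperH : Finite (wordsSub presJ3.σ ([0, 1, 2].map fun i => [i])) ∧
    Nat.card (wordsSub presJ3.σ ([0, 1, 2].map fun i => [i])) ≤ 8160 := by
  have h0 := presJ3.card_step J3HB.sheet J3HB.sel rfl [] presJ3.der_nil (by decide +kernel) (by decide +kernel)
    (wordsSub_nil _)
  exact presJ3.card_step J3HA.sheet J3HA.sel rfl [] presJ3.der_nil (by decide +kernel) (by decide +kernel) h0

theorem upper : Finite presJ3.Grp ∧ Nat.card presJ3.Grp ≤ 50232960 :=
  J6156.cert.card_top J6156.hlt hid J6156.hhw upperH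

instance instFinite : Finite presJ3.Grp := upper.1

/-- The action on 6156 points. -/
noncomputable def act : presJ3.Grp →* Equiv.Perm (Fin J6156.cert.T.n) := J6156.cert.hom J6156.hlt

theorem lower {K : ℕ} (h : K ≤ Nat.card (J6156.cert.fixSub J6156.hlt [0, 1, 2, 4])) :
    50232960 * K ≤ Nat.card (J6156.cert.fixSub J6156.hlt []) := by
  have h3 := J6156.cert.level_step J6156.hlt hid [0, 1, 2] J3Chain.lev3 J3Chain.lev3_ok
    (show 4 < 6156 by decide) h
  have h2 := J6156.cert.level_step J6156.hlt hid [0, 1] J3Chain.lev2 J3Chain.lev2_ok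
    (show 2 < 6156 by decide) h3
  have h1 := J6156.cert.level_step J6156.hlt hid [0] J3Chain.lev1 J3Chain.lev1_ok
    (show 1 < 6156 by decide) h2
  have h0 := J6156.cert.level_step J6156.hlt hid [] J3Chain.lev0 J3Chain.lev0_ok
    (show 0 < 6156 by decide) h1
  refine le_trans (le_of_eq ?_) h0
  show _ = (6156 * (85 * (32 * (3 * K))))
  ring

theorem card_eq : Nat.card presJ3.Grp = 50232960 := by
  refine le_antisymm upper.2 ?_
  have h := J6156.cert.card_le_of_fixSub J6156.hlt (lower (J6156.cert.fixSub_one J6156.hlt _))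
  omega

theorem injective : Function.Injective act :=
  J6156.cert.hom_injective J6156.hlt
    (J6156.cert.card_le_of_fixSub J6156.hlt (lower (J6156.cert.ker_le_fixSub J6156.hlt _))) upper.2

/-- An element fixing the four points of the base is trivial. -/
theorem base_trivial (g : presJ3.Grp)
    (h : ∀ d : Fin J6156.cert.T.n, (d : ℕ) ∈ [0, 1, 2, 4] → act g d = d) : g = 1 := by
  have h1 := J6156.cert.card_le_of_fixSub J6156.hlt (lower (le_refl _))
  have hK : Nat.card (J6156.cert.fixSub J6156.hlt [0, 1, 2, 4]) = 1 := by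
    have := J6156.cert.fixSub_one J6156.hlt [0, 1, 2, 4]
    rw [card_eq] at h1
    omega
  have hb : (J6156.cert.fixSub J6156.hlt [0, 1, 2, 4]) = ⊥ := Subgroup.card_eq_one.mp hK
  exact Subgroup.mem_bot.mp (hb ▸ (J6156.cert.mem_fixSub J6156.hlt).mpr h)

instance isSimple : IsSimpleGroup presJ3.Grp :=
  J6156.cert.isSimple J6156.hlt hid J6156.hhw injective J6156.orb J6156.roots J6156.hwR
    (by decide +kernel) J6156.orbs [1, 85, 1360, 680, 1360, 2040, 120, 510] (by decide +kernel) (by decide +kernel)
    (by decide +kernel) rfl (by decide +kernel) (q := 19) (show 1 < 6156 by decide) (by rw [card_eq]; decide +kernel)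
    [0, 2, 1, 2, 3] (by decide +kernel) (by decide +kernel) J3Z.sheet rfl rfl rfl (by decide +kernel)

end CfsgLib.CosetEnum.J3Group
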