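/-
The presentation of the O'Nan group with seven involutions: `a, ..., f` and `h = g * (c * d) ^ 2`.
-/
import Cfsg.Agent.Lib.CosetEnum.Cox
import Cfsg.Prelude.Def_Spor_ON

set_option autoImplicit false

namespace CfsgLib.CosetEnum

open Cfsg.Spor

/-- The graph: the path `a - b - c - d - e - f`, and `h` joined to all of them by edges without relation. -/
def edgesON : List (Fin 7 × ℕ × Fin 7) :=
  [(0, 3, 1), (1, 3, 2), (2, 8, 3), (3, 3, 4), (4, 3, 5), (6, 0, 0), (6, 0, 1), (6, 0, 2), (6, 0, 3), (6, 0, 4), (6, 0, 5)]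

/-- A word in the free group. -/
def freeWordON (w : List ℕ) : FreeGroup (Fin 7) := (w.map fun x => FreeGroup.of (Fin.ofNat 7 x)).prod

/-- The further relators as words, with `g = h * d * c * d * c`. -/
def extraWON : List (List ℕ) := [[0, 5, 2, 3, 2, 3, 6, 2, 3, 2, 3, 6], [0, 5, 3, 2, 3, 2, 3, 2, 3, 2], [3, 2, 3, 6, 3, 2, 3, 2, 3, 6, 3, 2, 3, 6, 3, 2, 3, 2, 3, 6, 3, 2, 3, 2], [3, 2, 3, 2, 3, 6, 3, 2, 3, 6, 2, 3, 2, 6, 3, 2, 3, 6, 3, 2, 3, 2], [1, 2, 3, 6, 3, 2, 3, 2, 1, 2, 3, 6, 3, 2, 3, 2, 1, 2, 3, 6, 3, 2, 3, 2, 1, 2, 3, 6, 3, 2, 3, 2, 1, 2, 3, 6, 3, 2, 3, 2], [6, 3, 2, 3, 2, 1, 2, 6, 3, 2, 3, 1, 6, 3, 2, 3, 2, 1, 2, 6, 3, 2, 3], [6, 3, 2, 3, 2, 4, 3, 6, 3, 2, 3, 2, 3, 4, 6, 3, 2, 3, 2, 4, 3, 6, 3, 2, 3, 2, 3]]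

/-- The numbered presentation. -/
abbrev presON : Pres where
  α := Fin 7
  dec := inferInstance
  edges := edgesON
  extra := extraWON.map freeWordON
  k := 7
  gen := Fin.ofNat 7
  idx := fun a => a.val
  extraW := extraWON
  idx_spec a := ⟨a.2, Fin.ofNat_val_eq_self a⟩
  node a := by revert a; decide
  symm a b := by revert a b; decide
  extra_spec M _ τ h := by
    rw [List.map_map]
    refine List.map_congr_left fun w hw => ?_
    have hlt : ∀ x ∈ w, x < 7 := (show ∀ w ∈ extraWON, ∀ x ∈ w, x < 7 by decide) w hw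
    simp only [Function.comp_apply, freeWordON, map_list_prod, List.map_map]
    refine congrArg List.prod (List.map_congr_left fun x hx => ?_)
    simp [Nat.mod_eq_of_lt (hlt x hx)]

end CfsgLib.CosetEnum
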