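/-
Checks over long ranges split into chunks.
-/
import Cfsg.Agent.Lib.CosetEnum.Orbit

set_option autoImplicit false

namespace CfsgLib.CosetEnum

/-- A check at the points `lo, …, lo + m - 1`. -/
noncomputable def allFrom (lo m : ℕ) (f : ℕ → Bool) : Bool := allN m fun i => force (Nat.add lo i) f

theorem allFrom_step {f : ℕ → Bool} {lo m : ℕ} (h : allFrom lo m f = true) (hlo : ∀ d < lo, f d = true) :
    ∀ d < lo + m, f d = true := by
  intro d hd
  by_cases hd' : d < lo
  · exact hlo d hd'
  · have := allN_spec (f := fun i => force (Nat.add lo i) f) h (d - lo) (by omega)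
    rwa [force_eq, show Nat.add lo (d - lo) = d by show lo + (d - lo) = d; omega] at this

/-- A check at all points below `n`, from the check at every point. -/
theorem allN_of_forall {f : ℕ → Bool} : ∀ {n : ℕ}, (∀ d < n, f d = true) → allN n f = true := by
  intro n
  induction n with
  | zero => intro _; rfl
  | succ n ih =>
    intro h
    show (f n && allN n f) = true
    rw [h n n.lt_succ_self, ih fun d hd => h d (hd.trans n.lt_succ_self)]
    rfl

/-- The number of points with a given label among `lo, …, lo + m - 1`. -/
noncomputable def countFrom (O : Tree) (l lo m : ℕ) : ℕ :=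
  Nat.rec (nat_lit 0) (fun i acc => force acc fun a => force (Nat.add lo i) fun d =>
    Bool.rec a (Nat.succ a) (Nat.beq (orbLab O d) l)) m

theorem countLab_add (O : Tree) (l lo : ℕ) : ∀ m, countLab O l (lo + m) = countLab O l lo + countFrom O l lo m := by
  intro m
  induction m with
  | zero => rfl
  | succ m ih =>
    have e1 : countLab O l (lo + m + 1) = force (countLab O l (lo + m)) (fun a =>
        Bool.rec (motive := fun _ => ℕ) a (Nat.succ a) (Nat.beq (orbLab O (lo + m)) l)) := rfl
    have e2 : countFrom O l lo (m + 1) = force (countFrom O l lo m) (fun a => force (Nat.add lo m) fun d =>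
        Bool.rec (motive := fun _ => ℕ) a (Nat.succ a) (Nat.beq (orbLab O d) l)) := rfl
    rw [← add_assoc, e1, e2, force_eq, force_eq, force_eq, ih]
    show _ = countLab O l lo + Bool.rec (motive := fun _ => ℕ) _ _ (Nat.beq (orbLab O (lo + m)) l)
    cases Nat.beq (orbLab O (lo + m)) l <;> rfl

theorem countLab_step {O : Tree} {l lo m a b : ℕ} (h : countLab O l lo = a) (h' : countFrom O l lo m = b) :
    countLab O l (lo + m) = a + b := by rw [countLab_add, h, h']

end CfsgLib.CosetEnum
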