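/-
The presented O'Nan group is the group presented on seven involutions.
-/
import Cfsg.Agent.Lib.CosetEnum.PresON

set_option autoImplicit false

namespace CfsgLib.CosetEnum

open Cfsg.Spor

section Algebra

variable {M : Type*} [Group M]

theorem on_h_sq {c d g : M} (hc : c * c = 1) (hd : d * d = 1) (hg : g ^ 2 = (c * d) ^ 4)
    (hcd8 : (c * d) ^ 8 = 1)
    (h1 : c * ((d * g * d * g)⁻¹ * c * (d * g * d * g)) = 1)
    (h2 : d * ((c * g * c * g)⁻¹ * d * (c * g * c * g)) = 1) :
    g * (c * d * (c * d)) * (g * (c * d * (c * d))) = 1 := by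
  have ci : c⁻¹ = c := inv_eq_of_mul_eq_one_right hc
  have di : d⁻¹ = d := inv_eq_of_mul_eq_one_right hd
  have dgc : Commute (d * g * d * g) c := by
    have e : (d * g * d * g)⁻¹ * c * (d * g * d * g) = c := by
      rw [← mul_right_inj c, h1, hc]
    show d * g * d * g * c = c * (d * g * d * g)
    conv_lhs => rw [← e]
    group
  have cgd : Commute (c * g * c * g) d := by
    have e : (c * g * c * g)⁻¹ * d * (c * g * c * g) = d := by
      rw [← mul_right_inj d, h2, hd]
    show c * g * c * g * d = d * (c * g * c * g)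
    conv_lhs => rw [← e]
    group
  have zc : Commute (g ^ 2) c := by
    have e : c * (c * d) * c = (c * d)⁻¹ := by rw [mul_inv_rev, ci, di, ← mul_assoc, hc, one_mul]
    have e4 : ((c * d) ^ 4)⁻¹ = (c * d) ^ 4 := by
      rw [inv_eq_iff_mul_eq_one, ← pow_add, hcd8]
    have e' : c * (c * d) ^ 4 * c = (c * d) ^ 4 := by
      have := congrArg (· ^ 4) e
      simp only [inv_pow, e4] at this
      have hh := conj_pow (i := 4) (a := c) (b := c * d)
      rw [ci] at hh
      rwa [← hh]
    show g ^ 2 * c = c * g ^ 2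
    rw [hg]
    conv_lhs => rw [← e', mul_assoc, hc, mul_one]
  have zd : Commute (g ^ 2) d := by
    have := (zc.mul_right (show Commute (g ^ 2) (c * d) by rw [hg]; exact Commute.pow_self _ _))
    rwa [← mul_assoc, hc, one_mul] at this
  have zg : Commute (g ^ 2) g := (Commute.refl g).pow_left 2
  have z2 : g ^ 2 * g ^ 2 = 1 := by rw [hg, ← pow_add]; exact hcd8
  have gi : g⁻¹ = g ^ 2 * g := by
    apply inv_eq_of_mul_eq_one_right
    rw [← mul_assoc, ← zg.eq, mul_assoc, ← pow_two, z2]
  set a := c * (g⁻¹ * c * g) with ha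
  set b := d * (g⁻¹ * d * g) with hb
  have ea : a = g ^ 2 * (c * g * c * g) := by
    rw [ha, gi]
    calc c * (g ^ 2 * g * c * g) = c * g ^ 2 * (g * c * g) := by group
      _ = g ^ 2 * c * (g * c * g) := by rw [← zc.eq]
      _ = _ := by group
  have eb : b = g ^ 2 * (d * g * d * g) := by
    rw [hb, gi]
    calc d * (g ^ 2 * g * d * g) = d * g ^ 2 * (g * d * g) := by group
      _ = g ^ 2 * d * (g * d * g) := by rw [← zd.eq]
      _ = _ := by group
  have ad : Commute a d := ea ▸ zd.mul_left cgd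
  have bc : Commute b c := eb ▸ zc.mul_left dgc
  have ac : c * a * c = a⁻¹ := by
    apply eq_inv_of_mul_eq_one_left
    calc c * a * c * a = (c * c) * (g⁻¹ * c * g) * ((c * c) * (g⁻¹ * c * g)) := by rw [ha]; group
      _ = 1 * (g⁻¹ * c * g) * (1 * (g⁻¹ * c * g)) := by rw [hc]
      _ = g⁻¹ * (c * c) * g := by group
      _ = 1 := by rw [hc]; group
  have bd : d * b * d = b⁻¹ := by
    apply eq_inv_of_mul_eq_one_left
    calc d * b * d * b = (d * d) * (g⁻¹ * d * g) * ((d * d) * (g⁻¹ * d * g)) := by rw [hb]; group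
      _ = 1 * (g⁻¹ * d * g) * (1 * (g⁻¹ * d * g)) := by rw [hd]
      _ = g⁻¹ * (d * d) * g := by group
      _ = 1 := by rw [hd]; group
  have gci : g⁻¹ * (g⁻¹ * c * g) * g = c := by
    calc g⁻¹ * (g⁻¹ * c * g) * g = (g ^ 2)⁻¹ * (c * g ^ 2) := by simp only [pow_two]; group
      _ = (g ^ 2)⁻¹ * (g ^ 2 * c) := by rw [zc.eq]
      _ = c := by group
  have gai : g⁻¹ * a * g = a⁻¹ := by
    calc g⁻¹ * a * g = (g⁻¹ * c * g) * (g⁻¹ * (g⁻¹ * c * g) * g) := by rw [ha]; group
      _ = (g⁻¹ * c * g) * c := by rw [gci]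
      _ = _ := by rw [ha]; simp only [mul_inv_rev, inv_inv, ci, mul_assoc]
  have bgc : g⁻¹ * c * g * b * (g⁻¹ * c * g) = b := by
    have h' : Commute (g⁻¹ * c * g) (g⁻¹ * b⁻¹ * g) := by
      show g⁻¹ * c * g * (g⁻¹ * b⁻¹ * g) = g⁻¹ * b⁻¹ * g * (g⁻¹ * c * g)
      calc g⁻¹ * c * g * (g⁻¹ * b⁻¹ * g) = g⁻¹ * (c * b⁻¹) * g := by group
        _ = g⁻¹ * (b⁻¹ * c) * g := by rw [bc.inv_left.eq]
        _ = _ := by group
    have gbi : g⁻¹ * b * g = b⁻¹ := by
      have gdi : g⁻¹ * (g⁻¹ * d * g) * g = d := by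
        calc g⁻¹ * (g⁻¹ * d * g) * g = (g ^ 2)⁻¹ * (d * g ^ 2) := by simp only [pow_two]; group
          _ = (g ^ 2)⁻¹ * (g ^ 2 * d) := by rw [zd.eq]
          _ = d := by group
      calc g⁻¹ * b * g = (g⁻¹ * d * g) * (g⁻¹ * (g⁻¹ * d * g) * g) := by rw [hb]; group
        _ = (g⁻¹ * d * g) * d := by rw [gdi]
        _ = _ := by rw [hb]; simp only [mul_inv_rev, inv_inv, di, mul_assoc]
    have e : g⁻¹ * b⁻¹ * g = b := by
      have := congrArg (·⁻¹) gbi
      simp only [inv_inv, mul_inv_rev, ← mul_assoc] at this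
      exact this
    rw [e] at h'
    rw [h'.eq, mul_assoc, show g⁻¹ * c * g * (g⁻¹ * c * g) = g⁻¹ * (c * c) * g by group, hc]
    group
  have ab : Commute a b := by
    show a * b = b * a
    have hq : (g⁻¹ * c * g) * (g⁻¹ * c * g) = 1 := by
      rw [show g⁻¹ * c * g * (g⁻¹ * c * g) = g⁻¹ * (c * c) * g by group, hc]; group
    calc a * b = c * (g⁻¹ * c * g * b) := by rw [ha]; group
      _ = c * (b * (g⁻¹ * c * g)) := by
        congr 1
        have := congrArg (· * (g⁻¹ * c * g)) bgc
        simp only [mul_assoc] at this hq ⊢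
        rw [hq, mul_one] at this
        exact this
      _ = c * b * (g⁻¹ * c * g) := by group
      _ = b * c * (g⁻¹ * c * g) := by rw [← bc.eq]
      _ = b * a := by rw [ha]; group
  have key : g⁻¹ * (c * d * (c * d)) * g = c * d * (c * d) := by
    have hc' : g⁻¹ * c * g = c * a := by rw [ha, ← mul_assoc, hc, one_mul]
    have hd' : g⁻¹ * d * g = d * b := by rw [hb, ← mul_assoc, hd, one_mul]
    have step1 : c * a * (d * b) * (c * a) * (d * b) = c * d * (a * c * b * a * d * b) := by
      calc c * a * (d * b) * (c * a) * (d * b) = c * (a * d) * (b * c) * a * d * b := by group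
        _ = c * (d * a) * (c * b) * a * d * b := by rw [ad.eq, bc.eq]
        _ = _ := by group
    have step2 : a * c * b * a * d * b = c * d := by
      have e1 : a * c = c * a⁻¹ := by rw [← ac]; simp only [← mul_assoc, hc, one_mul]
      have e2 : b * d = d * b⁻¹ := by rw [← bd]; simp only [← mul_assoc, hd, one_mul]
      calc a * c * b * a * d * b = c * (a⁻¹ * (b * a)) * d * b := by rw [e1]; group
        _ = c * (a⁻¹ * (a * b)) * d * b := by rw [ab.eq]
        _ = c * (b * d) * b := by group
        _ = _ := by rw [e2]; group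
    have big : g⁻¹ * (c * d * (c * d)) * g = c * a * (d * b) * (c * a) * (d * b) := by
      rw [← hc', ← hd']; group
    rw [big, step1, step2]
  have gU : Commute g (c * d * (c * d)) := by
    show g * (c * d * (c * d)) = c * d * (c * d) * g
    conv_lhs => rw [← key]
    group
  calc g * (c * d * (c * d)) * (g * (c * d * (c * d)))
      = g * ((c * d * (c * d)) * g) * (c * d * (c * d)) := by group
    _ = g * (g * (c * d * (c * d))) * (c * d * (c * d)) := by rw [← gU.eq]
    _ = g ^ 2 * (c * d) ^ 4 := by simp only [pow_succ, pow_zero, one_mul, mul_assoc]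
    _ = 1 := by rw [← hg]; exact z2

end Algebra

/-- The element `g` inside the group on seven involutions. -/
noncomputable def onG : presON.Grp := presON.σ 6 * presON.σ 3 * presON.σ 2 * presON.σ 3 * presON.σ 2

/-- The images of the generators of the presented O'Nan group. -/
noncomputable def onTo : ON.Gen → presON.Grp
  | .g => onG
  | .a => presON.σ 0
  | .b => presON.σ 1
  | .c => presON.σ 2
  | .d => presON.σ 3
  | .e => presON.σ 4
  | .f => presON.σ 5

theorem on_pow {i j : ℕ} (hi : i < 7) (hj : j < 7) (m : ℕ) (hm : presON.m i j = m) :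
    (presON.σ i * presON.σ j) ^ m = 1 := by
  subst hm
  rw [← prod_coxWord]
  rcases le_total i j with h | h
  · refine presON.rels_one (List.mem_append_left _ ?_)
    simp only [List.mem_flatMap, List.mem_range, List.mem_map, List.mem_filter, decide_eq_true_eq]
    exact ⟨i, hi, j, ⟨hj, h⟩, rfl⟩
  · rw [prod_coxWord]
    have hh : (presON.σ j * presON.σ i) ^ presON.m j i = 1 := by
      rw [← prod_coxWord]
      refine presON.rels_one (List.mem_append_left _ ?_)
      simp only [List.mem_flatMap, List.mem_range, List.mem_map, List.mem_filter, decide_eq_true_eq]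
      exact ⟨j, hj, i, ⟨hi, h⟩, rfl⟩
    have e : presON.σ i * presON.σ j = (presON.σ j * presON.σ i)⁻¹ := by
      rw [mul_inv_rev, inv_eq_of_mul_eq_one_right (presON.σ_sq _), inv_eq_of_mul_eq_one_right (presON.σ_sq _)]
    rw [e, inv_pow, show presON.m i j = presON.m j i from presON.symm _ _, hh, inv_one]

theorem onTo_rel : ∀ r ∈ coxRelators ON.edges ∪ {r | r ∈ ON.extra}, FreeGroup.lift onTo r = 1 := by
  rintro r (⟨x, hx, y, hy, rfl⟩ | hr)
  · rw [map_pow, map_mul, FreeGroup.lift_apply_of, FreeGroup.lift_apply_of]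
    revert hx hy
    cases x <;> cases y <;> intro hx hy <;>
      first
      | exact absurd hx (by decide)
      | exact absurd hy (by decide)
      | exact on_pow (by decide) (by decide) _ (by decide)
  · have hi : ∀ x, (presON.σ x)⁻¹ = presON.σ x := fun x => inv_eq_of_mul_eq_one_right (presON.σ_sq x)
    have hc : ∀ x (y : presON.Grp), presON.σ x * (presON.σ x * y) = y := fun x y => by
      rw [← mul_assoc, presON.σ_sq, one_mul]
    have hw : ∀ w ∈ extraWON, (w.map presON.σ).prod = 1 := fun w hw =>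
      presON.rels_one (List.mem_append_right _ hw)
    simp only [extraWON, List.forall_mem_cons, List.map_cons, List.map_nil, List.prod_cons, List.prod_nil,
      mul_one, List.not_mem_nil, IsEmpty.forall_iff, implies_true, and_true] at hw
    obtain ⟨w1, w2, w3, w4, w5, w6, w7⟩ := hw
    simp only [ON.extra, Set.mem_setOf_eq, List.mem_cons, List.not_mem_nil, or_false] at hr
    rcases hr with rfl | rfl | rfl | rfl | rfl | rfl | rfl <;>
      simp only [map_mul, map_inv, map_pow, FreeGroup.lift_apply_of, ON.a, ON.b, ON.c, ON.d, ON.e, ON.f, ON.g,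
        onTo, onG, pow_succ, pow_zero, one_mul, mul_inv_rev, inv_inv, hi, mul_assoc, hc, presON.σ_sq, mul_one,
        inv_one] <;>
      assumption

/-- The homomorphism to the group on seven involutions. -/
noncomputable def onHom : Cfsg.Spor.ON →* presON.Grp := PresentedGroup.toGroup onTo_rel

/-- The generators inside the presented O'Nan group, by numbers. -/
noncomputable def onTau (x : ℕ) : Cfsg.Spor.ON :=
  ([PresentedGroup.of ON.Gen.a, PresentedGroup.of ON.Gen.b, PresentedGroup.of ON.Gen.c, PresentedGroup.of ON.Gen.d,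
    PresentedGroup.of ON.Gen.e, PresentedGroup.of ON.Gen.f,
    PresentedGroup.of ON.Gen.g * (PresentedGroup.of ON.Gen.c * PresentedGroup.of ON.Gen.d *
      (PresentedGroup.of ON.Gen.c * PresentedGroup.of ON.Gen.d))] : List Cfsg.Spor.ON).getD x 1

theorem on_cox (x y : ON.Gen) (hx : x ∈ coxNodes ON.edges) (hy : y ∈ coxNodes ON.edges) :
    (PresentedGroup.of x * PresentedGroup.of y : Cfsg.Spor.ON) ^ coxLabel ON.edges x y = 1 := by
  show (PresentedGroup.mk _ (FreeGroup.of x) * PresentedGroup.mk _ (FreeGroup.of y)) ^ coxLabel ON.edges x y = 1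
  rw [← map_mul, ← map_pow]
  exact PresentedGroup.mk_eq_one_iff.mpr (Subgroup.subset_normalClosure (Or.inl ⟨x, hx, y, hy, rfl⟩))

theorem on_sq (x : ON.Gen) (hx : x ∈ coxNodes ON.edges) :
    (PresentedGroup.of x * PresentedGroup.of x : Cfsg.Spor.ON) = 1 := by
  have h := on_cox x x hx hx
  rwa [coxLabel, if_pos rfl, pow_one] at h

theorem on_extra {r : FreeGroup ON.Gen} (hr : r ∈ ON.extra) :
    PresentedGroup.mk (coxRelators ON.edges ∪ {r | r ∈ ON.extra}) r = 1 :=
  PresentedGroup.mk_eq_one_iff.mpr (Subgroup.subset_normalClosure (Or.inr hr))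

theorem on_g_sq : (PresentedGroup.of ON.Gen.g : Cfsg.Spor.ON) ^ 2 =
    (PresentedGroup.of ON.Gen.c * PresentedGroup.of ON.Gen.d) ^ 4 := by
  have h0 := on_extra (r := ON.a * ON.f * (ON.g ^ 2)⁻¹) (by simp [ON.extra])
  have h1 := on_extra (r := ON.a * ON.f * ((ON.c * ON.d) ^ 4)⁻¹) (by simp [ON.extra])
  simp only [map_mul, map_inv, map_pow] at h0 h1
  exact (mul_inv_eq_one.mp h0).symm.trans (mul_inv_eq_one.mp h1)

theorem onTau_sq (x : ℕ) : onTau x * onTau x = 1 := by
  rcases x with _ | _ | _ | _ | _ | _ | _ | x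
  iterate 6 exact on_sq _ (by decide)
  · have h2 := on_extra (r := ON.c * ((ON.d * ON.g * ON.d * ON.g)⁻¹ * ON.c * (ON.d * ON.g * ON.d * ON.g))) (by simp [ON.extra])
    have h3 := on_extra (r := ON.d * ((ON.c * ON.g * ON.c * ON.g)⁻¹ * ON.d * (ON.c * ON.g * ON.c * ON.g))) (by simp [ON.extra])
    simp only [map_mul, map_inv] at h2 h3
    exact on_h_sq (on_sq _ (by decide)) (on_sq _ (by decide)) on_g_sq
      (on_cox ON.Gen.c ON.Gen.d (by decide) (by decide)) h2 h3
  · exact one_mul 1

theorem onTau_rel : ∀ w ∈ presON.rels, (w.map onTau).prod = 1 := by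
  intro w hw
  rcases presON.mem_rels hw with ⟨i, hi, j, hj, rfl⟩ | hw
  · rw [prod_coxWord]
    have hi' : i < 7 := hi
    have hj' : j < 7 := hj
    interval_cases i <;> interval_cases j <;>
      first
      | exact on_cox _ _ (by decide) (by decide)
      | exact pow_zero _
      | exact (pow_one _).trans (onTau_sq 6)
  · set a := (PresentedGroup.of ON.Gen.a : Cfsg.Spor.ON) with ha
    set b := (PresentedGroup.of ON.Gen.b : Cfsg.Spor.ON) with hb
    set c := (PresentedGroup.of ON.Gen.c : Cfsg.Spor.ON) with hc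
    set d := (PresentedGroup.of ON.Gen.d : Cfsg.Spor.ON) with hd
    set e := (PresentedGroup.of ON.Gen.e : Cfsg.Spor.ON) with he
    set f := (PresentedGroup.of ON.Gen.f : Cfsg.Spor.ON) with hf
    set g := (PresentedGroup.of ON.Gen.g : Cfsg.Spor.ON) with hg
    have hs : ∀ x ∈ [a, b, c, d, e, f], ∀ y, x * (x * y) = y := by
      intro x hx y
      simp only [List.mem_cons, List.not_mem_nil, or_false] at hx
      rcases hx with rfl | rfl | rfl | rfl | rfl | rfl <;>
        rw [← mul_assoc, on_sq _ (by decide), one_mul]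
    simp only [List.forall_mem_cons, List.not_mem_nil, IsEmpty.forall_iff, implies_true, and_true] at hs
    obtain ⟨sa, sb, sc, sd, se, sf⟩ := hs
    have ia : a⁻¹ = a := inv_eq_of_mul_eq_one_right (on_sq _ (by decide))
    have ib : b⁻¹ = b := inv_eq_of_mul_eq_one_right (on_sq _ (by decide))
    have ic : c⁻¹ = c := inv_eq_of_mul_eq_one_right (on_sq _ (by decide))
    have id' : d⁻¹ = d := inv_eq_of_mul_eq_one_right (on_sq _ (by decide))
    have ie : e⁻¹ = e := inv_eq_of_mul_eq_one_right (on_sq _ (by decide))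
    have ig : g⁻¹ = c * (d * (c * (d * (g * (c * (d * (c * d))))))) := by
      apply inv_eq_of_mul_eq_one_right
      have := onTau_sq 6
      simp only [onTau, List.getD_cons_zero, List.getD_cons_succ, mul_assoc] at this ⊢
      exact this
    have r1 := on_extra (r := ON.a * ON.f * (ON.g ^ 2)⁻¹) (by simp [ON.extra])
    have r2 := on_extra (r := ON.a * ON.f * ((ON.c * ON.d) ^ 4)⁻¹) (by simp [ON.extra])
    have r3 := on_extra (r := ON.c * ((ON.d * ON.g * ON.d * ON.g)⁻¹ * ON.c * (ON.d * ON.g * ON.d * ON.g))) (by simp [ON.extra])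
    have r4 := on_extra (r := ON.d * ((ON.c * ON.g * ON.c * ON.g)⁻¹ * ON.d * (ON.c * ON.g * ON.c * ON.g))) (by simp [ON.extra])
    have r5 := on_extra (r := (ON.b * ON.c * ON.d * ON.g) ^ 5) (by simp [ON.extra])
    have r6 := on_extra (r := ON.g * ON.b * (ON.c⁻¹ * ON.g * ON.c) * (ON.b⁻¹ * ON.g * ON.b) * (ON.c⁻¹ * ON.g * ON.c)) (by simp [ON.extra])
    have r7 := on_extra (r := ON.g * ON.e * (ON.d⁻¹ * ON.g * ON.d) * (ON.e⁻¹ * ON.g * ON.e) * (ON.d⁻¹ * ON.g * ON.d)) (by simp [ON.extra])
    simp only [extraWON, presON, List.mem_cons, List.not_mem_nil, or_false] at hw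
    simp only [map_mul, map_inv, map_pow, pow_succ, pow_zero, one_mul, mul_inv_rev, inv_inv] at r1 r2 r3 r4 r5 r6 r7
    have qa := on_sq ON.Gen.a (by decide)
    have qb := on_sq ON.Gen.b (by decide)
    have qc := on_sq ON.Gen.c (by decide)
    have qd := on_sq ON.Gen.d (by decide)
    have qe := on_sq ON.Gen.e (by decide)
    have qf := on_sq ON.Gen.f (by decide)
    simp only [← ha, ← hb, ← hc, ← hd, ← he, ← hf] at qa qb qc qd qe qf
    simp only [show ∀ z, PresentedGroup.mk (coxRelators ON.edges ∪ {r | r ∈ ON.extra}) (FreeGroup.of z) =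
      PresentedGroup.of z from fun _ => rfl, ON.a, ON.b, ON.c, ON.d, ON.e, ON.f, ON.g, ← ha, ← hb, ← hc, ← hd, ← he,
      ← hf, ← hg, ia, ib, ic, id', ie, ig, mul_assoc, sa, sb, sc, sd, se, sf, qa, qb, qc, qd, qe, qf, mul_one] at r1 r2 r3 r4 r5 r6 r7
    rcases hw with rfl | rfl | rfl | rfl | rfl | rfl | rfl <;>
      simp only [List.map_cons, List.map_nil, List.prod_cons, List.prod_nil, mul_one, onTau, List.getD_cons_zero,
        List.getD_cons_succ, ← ha, ← hb, ← hc, ← hd, ← he, ← hf, ← hg, mul_assoc, sa, sb, sc, sd, se, sf, qa, qb, qc, qd, qe, qf, mul_one] <;>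
      assumption

/-- The homomorphism from the group on seven involutions. -/
noncomputable def onInvHom : presON.Grp →* Cfsg.Spor.ON :=
  PresentedGroup.toGroup (f := onTau ∘ presON.idx) (presON.lift_rel onTau_sq onTau_rel)

theorem onHom_of (x : ON.Gen) : onHom (PresentedGroup.of x) = onTo x := PresentedGroup.toGroup.of _

theorem onInvHom_σ {x : ℕ} (hx : x < 7) : onInvHom (presON.σ x) = onTau x := by
  rw [Pres.σ, if_pos (show x < presON.k from hx), onInvHom, PresentedGroup.toGroup.of]
  interval_cases x <;> rfl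

theorem onInv_comp : onInvHom.comp onHom = MonoidHom.id _ := by
  refine PresentedGroup.ext fun x => ?_
  rw [MonoidHom.comp_apply, MonoidHom.id_apply, onHom_of]
  cases x with
  | g =>
    simp only [onTo, onG, map_mul, onInvHom_σ (show (6 : ℕ) < 7 by decide), onInvHom_σ (show (3 : ℕ) < 7 by decide),
      onInvHom_σ (show (2 : ℕ) < 7 by decide)]
    simp only [onTau, List.getD_cons_zero, List.getD_cons_succ]
    have hc := on_sq ON.Gen.c (by decide)
    have hd := on_sq ON.Gen.d (by decide)
    simp only [mul_assoc]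
    simp [← mul_assoc (PresentedGroup.of ON.Gen.c) (PresentedGroup.of ON.Gen.c), hc,
      ← mul_assoc (PresentedGroup.of ON.Gen.d) (PresentedGroup.of ON.Gen.d), hd]
  | a => exact onInvHom_σ (by decide)
  | b => exact onInvHom_σ (by decide)
  | c => exact onInvHom_σ (by decide)
  | d => exact onInvHom_σ (by decide)
  | e => exact onInvHom_σ (by decide)
  | f => exact onInvHom_σ (by decide)

theorem onHom_tau {x : ℕ} (hx : x < 7) : onHom (onTau x) = presON.σ x := by
  interval_cases x
  iterate 6 exact onHom_of _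
  show onHom (PresentedGroup.of ON.Gen.g * (PresentedGroup.of ON.Gen.c * PresentedGroup.of ON.Gen.d *
    (PresentedGroup.of ON.Gen.c * PresentedGroup.of ON.Gen.d))) = _
  simp only [map_mul, onHom_of, onTo, onG, mul_assoc]
  have h : ∀ x (y : presON.Grp), presON.σ x * (presON.σ x * y) = y := fun x y => by
    rw [← mul_assoc, presON.σ_sq, one_mul]
  simp [h, presON.σ_sq]

theorem onHom_comp : onHom.comp onInvHom = MonoidHom.id _ := by
  refine PresentedGroup.ext fun a => ?_
  rw [MonoidHom.comp_apply, MonoidHom.id_apply, ← Pres.σ_idx presON a, onInvHom_σ a.isLt, onHom_tau a.isLt]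

/-- The presented O'Nan group is the group on seven involutions. -/
noncomputable def onEquiv : Cfsg.Spor.ON ≃* presON.Grp :=
  MonoidHom.toMulEquiv onHom onInvHom onInv_comp onHom_comp

end CfsgLib.CosetEnum
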