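/-
The order and the simplicity of the presented O'Nan group.
-/
import Cfsg.Agent.Lib.CosetEnum.Simple
import Cfsg.Prelude.Def_Sporadic
import Cfsg.Agent.Lib.CosetEnum.ONIso
import Cfsg.Agent.Lib.CosetEnum.OrbitChunk
import Cfsg.Agent.Lib.CosetEnum.ON122760.Main
import Cfsg.Agent.Lib.CosetEnum.ONH.Main
import Cfsg.Agent.Lib.CosetEnum.ONK.Main
import Cfsg.Agent.Lib.CosetEnum.ONZ.Main
import Cfsg.Agent.Lib.CosetEnum.ONChain.Lev1
import Cfsg.Agent.Lib.CosetEnum.ONChain.Lev2
import Cfsg.Agent.Lib.CosetEnum.ONChain.Main

set_option autoImplicit false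

namespace CfsgLib.CosetEnum

open Cfsg.Spor

theorem presON_idx : ∀ i < presON.k, presON.idx (presON.gen i) = i :=
  fun i hi => Nat.mod_eq_of_lt hi

theorem on_derK : ∀ w ∈ [[2, 3, 2, 3, 2, 3, 2, 3, 0, 1, 2, 3, 2, 3, 2, 3, 2, 3, 0, 1]],
    (w.map presON.σ).prod = 1 := by
  intro w hw
  rw [List.mem_singleton] at hw
  subst hw
  have hs := presON.σ_sq
  have hi : ∀ x, (presON.σ x)⁻¹ = presON.σ x := fun x => inv_eq_of_mul_eq_one_right (hs x)
  have h2 : ([0, 5, 3, 2, 3, 2, 3, 2, 3, 2].map presON.σ).prod = 1 :=
    presON.rels_one (List.mem_append_right _ (by simp [extraWON]))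
  have haf : (presON.σ 0 * presON.σ 5) ^ 2 = 1 := on_pow (by decide) (by decide) 2 (by decide)
  have hfb : (presON.σ 5 * presON.σ 1) ^ 2 = 1 := on_pow (by decide) (by decide) 2 (by decide)
  simp only [List.map_cons, List.map_nil, List.prod_cons, List.prod_nil, mul_one] at h2 ⊢
  set a := presON.σ 0
  set b := presON.σ 1
  set c := presON.σ 2
  set d := presON.σ 3
  set f := presON.σ 5
  have hx : c * (d * (c * (d * (c * (d * (c * d)))))) = a * f := by
    have e := inv_eq_of_mul_eq_one_right (a := a * f) (b := d * (c * (d * (c * (d * (c * (d * c)))))))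
      (by rw [mul_assoc]; exact h2)
    have e' := congrArg (fun u => u⁻¹) e
    simp only [inv_inv, mul_inv_rev] at e'
    rw [e']
    simp only [mul_assoc, c, d, hi]
  have hafa : a * f * a = f := by
    have h' : a * (f * (a * f)) = 1 := by rw [← haf, pow_two]; simp only [mul_assoc]
    calc a * f * a = a * (f * (a * f)) * f⁻¹ := by group
      _ = f := by rw [h', one_mul]; exact hi 5
  calc c * (d * (c * (d * (c * (d * (c * (d * (a * (b * (c * (d * (c * (d * (c * (d * (c * (d * (a * b))))))))))))))))))
      = (c * (d * (c * (d * (c * (d * (c * d)))))) * a * b) * (c * (d * (c * (d * (c * (d * (c * d)))))) * a * b) := by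
        simp only [mul_assoc]
    _ = (f * b) * (f * b) := by rw [hx, hafa]
    _ = 1 := by rw [← pow_two]; exact hfb

theorem presON_upperK : Finite (wordsSub presON.σ ([0, 1, 2, 3].map fun i => [i])) ∧
    Nat.card (wordsSub presON.σ ([0, 1, 2, 3].map fun i => [i])) ≤ 672 := by
  have h := presON.card_step ONK.sheet ONK.sel rfl _ on_derK (by decide +kernel) (by decide +kernel)
    (N := 1) (wordsSub_nil _)
  exact h

theorem presON_upperH : Finite (wordsSub presON.σ ([0, 1, 2, 3, 4, 5].map fun i => [i])) ∧
    Nat.card (wordsSub presON.σ ([0, 1, 2, 3, 4, 5].map fun i => [i])) ≤ 3753792 :=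
  presON.card_step ONH.sheet ONH.sel rfl [] presON.der_nil (by decide +kernel) (by decide +kernel) presON_upperK

theorem presON_upper : Finite presON.Grp ∧ Nat.card presON.Grp ≤ 460815505920 :=
  ON122760.cert.card_top ON122760.hlt presON_idx ON122760.hhw presON_upperH

theorem presON_card_ge [Finite presON.Grp] :
    460815505920 * Nat.card (ON122760.cert.hom ON122760.hlt).ker ≤ Nat.card presON.Grp := by
  classical
  set C := ON122760.cert
  set hlt := ON122760.hlt
  have h2 := C.level_step hlt presON_idx [0, 16] ONChain.lev2 ONChain.lev2_ok (show 75 < 122760 by decide)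
    (C.ker_le_fixSub hlt _)
  have h1 := C.level_step hlt presON_idx [0] ONChain.lev1 ONChain.lev1_ok (show 16 < 122760 by decide) h2
  let act : MulAction presON.Grp (Fin C.T.n) := MulAction.compHom (Fin C.T.n) (C.hom hlt)
  set o : Fin C.T.n := ⟨0, C.hn⟩
  have hst : MulAction.stabilizer presON.Grp o = C.fixSub hlt [0] := by
    ext g
    constructor
    · intro hg d hd
      have : d = o := Fin.ext (List.mem_singleton.mp hd)
      subst this
      exact hg
    · intro hg
      exact hg o (List.mem_singleton_self _)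
  have horb : MulAction.orbit presON.Grp o = Set.univ :=
    Set.eq_univ_of_forall fun d => C.exists_hom_zero hlt presON_idx d
  have hc := (MulAction.stabilizer presON.Grp o).card_mul_index
  rw [MulAction.index_stabilizer, horb, Set.ncard_univ, Nat.card_fin, hst] at hc
  rw [← hc]
  refine le_trans (le_of_eq ?_) (Nat.mul_le_mul_right _ h1)
  show _ = 5586 * (672 * Nat.card _) * 122760
  ring

theorem presON_inj [Finite presON.Grp] : Function.Injective (ON122760.cert.hom ON122760.hlt) :=
  ON122760.cert.hom_injective ON122760.hlt presON_card_ge presON_upper.2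

theorem presON_card : Nat.card presON.Grp = 460815505920 := by
  have : Finite presON.Grp := presON_upper.1
  exact le_antisymm presON_upper.2
    ((Nat.le_mul_of_pos_right _ Nat.card_pos).trans presON_card_ge)

theorem presON_simple : IsSimpleGroup presON.Grp := by
  have : Finite presON.Grp := presON_upper.1
  exact ON122760.cert.isSimple ON122760.hlt presON_idx ON122760.hhw presON_inj ONChain.orb ONChain.roots
    ON122760.hwR (by decide +kernel) ONChain.orbs [1, 58653, 52136, 5586, 6384]
    (by
      intro l hl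
      have hl' : l < 5 := hl
      interval_cases l
      exacts [ONChain.count0, ONChain.count1, ONChain.count2, ONChain.count3, ONChain.count4])
    (allN_of_forall fun d hd => by rw [force_eq]; exact ONChain.lab_all d hd)
    (by decide +kernel) rfl (by decide +kernel) (q := 5) (show 1 < 122760 by decide)
    (by rw [presON_card]; decide +kernel) [1, 2, 3, 6, 3, 2, 3, 2] (by decide +kernel)
    (allN_of_forall fun d hd => by rw [force_eq]; exact ONChain.zq d hd)
    ONZ.sheet rfl rfl rfl (by decide +kernel)

end CfsgLib.CosetEnum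

namespace CfsgLib.CosetEnum

open Cfsg.Spor

/-- The subgroup generated by `a, …, f`. -/
abbrev onH : Subgroup Cfsg.Spor.ON :=
  (Subgroup.closure ({ON.a, ON.b, ON.c, ON.d, ON.e, ON.f} : Set (FreeGroup ON.Gen))).map
    (PresentedGroup.mk (coxRelators ON.edges ∪ {r | r ∈ ON.extra}))

theorem onH_map : onH.map onEquiv.toMonoidHom = ON122760.cert.sub := by
  rw [onH, MonoidHom.map_closure, MonoidHom.map_closure, Cert.sub]
  congr 1
  have hz : ∀ z, onEquiv.toMonoidHom (PresentedGroup.mk _ (FreeGroup.of z)) = onTo z := fun z => onHom_of z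
  ext x
  simp only [Set.image_insert_eq, Set.image_singleton, Set.mem_insert_iff, Set.mem_singleton_iff,
    Set.mem_setOf_eq, hz]
  constructor
  · rintro (rfl | rfl | rfl | rfl | rfl | rfl)
    exacts [⟨[0], by decide, by simp [onTo]⟩, ⟨[1], by decide, by simp [onTo]⟩, ⟨[2], by decide, by simp [onTo]⟩,
      ⟨[3], by decide, by simp [onTo]⟩, ⟨[4], by decide, by simp [onTo]⟩, ⟨[5], by decide, by simp [onTo]⟩]
  · rintro ⟨w, hw, rfl⟩
    have hw' : w ∈ [[0], [1], [2], [3], [4], [5]] := hw
    simp only [List.mem_cons, List.not_mem_nil, or_false] at hw'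
    rcases hw' with rfl | rfl | rfl | rfl | rfl | rfl <;> simp [onTo]

theorem onH_index : onH.index = 122760 := by
  obtain ⟨e, -⟩ := ON122760.cert.exists_equiv ON122760.hlt presON_idx ON122760.hhw
  have h : ON122760.cert.sub.index = 122760 := index_eq_of_equiv e
  rw [← h, ← onH_map]
  exact (Subgroup.index_map_of_bijective (f := onEquiv.toMonoidHom) onEquiv.bijective onH).symm

theorem on_isON : Cfsg.IsON Cfsg.Spor.ON := by
  have : IsSimpleGroup presON.Grp := presON_simple
  have : Finite presON.Grp := presON_upper.1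
  refine ⟨?_, ?_⟩
  · exact onEquiv.isSimpleGroup
  · rw [Nat.card_congr onEquiv.toEquiv]; exact presON_card

end CfsgLib.CosetEnum
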