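/-
Simplicity from certified coset enumerations when two blocks are not excluded by the suborbit lengths:
every generator fixes a point, so none exchanges two blocks.
-/
import Cfsg.Agent.Lib.CosetEnum.Simple

set_option autoImplicit false

namespace CfsgLib.CosetEnum

open scoped Pointwise

theorem blocks_of_labels_half {n : ℕ} (lab : Fin n → ℕ) (sizes : List ℕ)
    (hcount : ∀ l < sizes.length, (Finset.univ.filter fun d => lab d = l).card = sizes.getD l 0)
    (hlab : ∀ d, lab d < sizes.length)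
    (hsub : ((List.range sizes.length).sublists.all fun L => Bool.rec true
      (decide (L.length = sizes.length) || !(Nat.beq (n % (L.map fun l => sizes.getD l 0).sum) 0) ||
        Nat.beq (2 * (L.map fun l => sizes.getD l 0).sum) n)
      (L.contains 0 && decide (1 < L.length))) = true)
    (B : Finset (Fin n)) (hB : ∀ d d', lab d = lab d' → d ∈ B → d' ∈ B)
    {d₀ d₁ : Fin n} (h₀ : lab d₀ = 0) (hd₀ : d₀ ∈ B) (hd₁ : d₁ ∈ B) (h₁ : lab d₁ ≠ 0)
    (hdvd : B.card ∣ n) : B = Finset.univ ∨ 2 * B.card = n := by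
  classical
  set L := (List.range sizes.length).filter fun l => decide (∃ d ∈ B, lab d = l) with hL
  have hmem : ∀ d, d ∈ B ↔ lab d ∈ L := by
    intro d
    simp only [hL, List.mem_filter, List.mem_range, decide_eq_true_eq]
    exact ⟨fun h => ⟨hlab d, d, h, rfl⟩, fun ⟨_, d', hd', e⟩ => hB d' d e hd'⟩
  have hnd : L.Nodup := List.nodup_range.filter _
  have hcard : B.card = (L.map fun l => sizes.getD l 0).sum := by
    rw [← List.sum_toFinset _ hnd, Finset.card_eq_sum_card_fiberwise (f := lab) (t := L.toFinset)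
      fun d hd => List.mem_toFinset.mpr ((hmem d).mp hd)]
    refine Finset.sum_congr rfl fun l hl => ?_
    have hl' := List.mem_toFinset.mp hl
    have hlt : l < sizes.length := List.mem_range.mp (List.mem_of_mem_filter hl')
    rw [← hcount l hlt]
    congr 1
    ext d
    simp only [Finset.mem_filter, Finset.mem_univ, true_and, and_iff_right_iff_imp]
    intro h
    exact (hmem d).mpr (h ▸ hl')
  have h0 : 0 ∈ L := h₀ ▸ (hmem d₀).mp hd₀
  have h1 : lab d₁ ∈ L := (hmem d₁).mp hd₁
  have hlen : 1 < L.length := by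
    rw [← List.toFinset_card_of_nodup hnd, Finset.one_lt_card]
    exact ⟨0, List.mem_toFinset.mpr h0, _, List.mem_toFinset.mpr h1, Ne.symm h₁⟩
  have h := List.all_eq_true.mp hsub L (List.mem_sublists.mpr List.filter_sublist)
  rw [show (L.contains 0 && decide (1 < L.length)) = true by simp [h0, hlen]] at h
  simp only [Bool.or_eq_true, decide_eq_true_eq, Bool.not_eq_true'] at h
  rcases h with (h | h) | h
  · left
    have e : L = List.range sizes.length := List.filter_sublist.eq_of_length (by rw [h, List.length_range])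
    exact Finset.eq_univ_of_forall fun d => (hmem d).mpr (e ▸ List.mem_range.mpr (hlab d))
  · rw [← hcard, Nat.dvd_iff_mod_eq_zero.mp hdvd] at h
    exact absurd h (by decide)
  · right
    rw [hcard]
    exact Nat.eq_of_beq_eq_true h

namespace Cert

variable {P : Pres} (C : Cert P)

/-- Simplicity, with a fixed point of every generator. -/
theorem isSimple_of_fixed (hlt : ∀ w ∈ P.rels, ∀ x ∈ w, x < P.k) (hid : ∀ i < P.k, P.idx (P.gen i) = i)
    (hhw : ∀ w ∈ C.hw, ∀ x ∈ w, x < P.k) [Finite P.Grp] (hinj : Function.Injective (C.hom hlt))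
    (O : Tree) (roots : List ℕ) (gens : List (List ℕ)) (hgens : gens = C.hw.map List.reverse)
    (hok : ∀ d < C.T.n, okOrb C.T C.D.k gens O roots d = true)
    (sizes : List ℕ) (hcount : ∀ l < sizes.length, countLab O l C.T.n = sizes.getD l 0)
    (hlab : okLab O sizes.length C.T.n = true)
    (h0 : orbLab O 0 = 0) (h0' : sizes.getD 0 0 = 1)
    (hsub : ((List.range sizes.length).sublists.all fun L => Bool.rec true
      (decide (L.length = sizes.length) || !(Nat.beq (C.T.n % (L.map fun l => sizes.getD l 0).sum) 0) ||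
        Nat.beq (2 * (L.map fun l => sizes.getD l 0).sum) C.T.n)
      (L.contains 0 && decide (1 < L.length))) = true)
    (hfix : ∀ x < P.k, ∃ d : Fin C.T.n, runT C.T C.D.k [x] (d : ℕ) = (d : ℕ))
    {q : ℕ} (hn1 : 1 < C.T.n) (hqn : Nat.Coprime (Nat.card P.Grp / C.T.n) q)
    (z : List ℕ) (hz : (z.all fun x => Nat.blt x C.D.k) = true)
    (hzq : allN C.T.n (fun d => force d fun d' =>
      Nat.beq (runT C.T C.D.k (List.replicate q z).flatten d') d') = true)
    (S : Sheet) (hSk : S.D.k = P.k) (hShw : S.hw = []) (hSn : S.T.n = 1)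
    (hSrels : (S.rels.all fun w => (P.rels ++ [z]).contains w) = true) :
    IsSimpleGroup P.Grp := by
  classical
  have hnt : Nontrivial P.Grp := by
    obtain ⟨g, hg⟩ := C.exists_hom_zero hlt hid ⟨1, hn1⟩
    refine ⟨⟨g, 1, fun e => ?_⟩⟩
    rw [e, map_one, Equiv.Perm.one_apply] at hg
    exact absurd (congrArg Fin.val hg) (Nat.zero_ne_one)
  refine ⟨fun N hN => or_iff_not_imp_left.mpr fun hNbot => ?_⟩
  have hk := C.hk
  let act : MulAction P.Grp (Fin C.T.n) := MulAction.compHom (Fin C.T.n) (C.hom hlt)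
  have : MulAction.IsPretransitive P.Grp (Fin C.T.n) := by
    refine ⟨fun a b => ?_⟩
    obtain ⟨g, hg⟩ := C.exists_hom_zero hlt hid a
    obtain ⟨g', hg'⟩ := C.exists_hom_zero hlt hid b
    refine ⟨g' * g⁻¹, ?_⟩
    show C.hom hlt (g' * g⁻¹) a = b
    rw [← hg, ← Equiv.Perm.mul_apply, ← map_mul, inv_mul_cancel_right, hg']
  set o : Fin C.T.n := ⟨0, C.hn⟩
  have := hN
  have hblock : MulAction.IsBlock P.Grp (MulAction.orbit N o) := MulAction.IsBlock.orbit_of_normal o
  set B : Finset (Fin C.T.n) := (MulAction.orbit N o).toFinite.toFinset with hBdef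
  have hmemB : ∀ d, d ∈ B ↔ ∃ x ∈ N, C.hom hlt x o = d := by
    intro d
    rw [hBdef, Set.Finite.mem_toFinset]
    exact ⟨fun ⟨⟨x, hx⟩, e⟩ => ⟨x, hx, e⟩, fun ⟨x, hx, e⟩ => ⟨⟨x, hx⟩, e⟩⟩
  have hdvd : B.card ∣ C.T.n := by
    have h := hblock.ncard_dvd_card ⟨o, MulAction.mem_orbit_self o⟩
    rw [← Set.ncard_eq_toFinset_card] at *
    simpa using h
  have hsubfix : ∀ h ∈ C.sub, C.hom hlt h o = o := by
    intro h hh
    suffices hle : C.sub ≤ MulAction.stabilizer P.Grp o from hle hh
    rw [Cert.sub, Subgroup.closure_le]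
    rintro _ ⟨w, hw, rfl⟩
    refine Fin.ext ?_
    show (C.hom hlt (w.map P.σ).prod o : ℕ) = 0
    have hw' : ∀ x ∈ w, x < C.D.k := fun x hx => by rw [C.hk]; exact hhw w hw x hx
    rw [C.hom_word hlt hid w (hhw w hw), C.word_smul w hw']
    have hb := List.all_eq_true.mp C.base_ok w hw
    rw [runT_eq] at hb
    have h0 := C.act_run_cancel w hw' 0 C.hn
    rw [Nat.eq_of_beq_eq_true hb] at h0
    exact h0
  have hinvB : ∀ h ∈ C.sub, ∀ d ∈ B, C.hom hlt h d ∈ B := by
    intro h hh d hd
    obtain ⟨x, hx, rfl⟩ := (hmemB d).mp hd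
    refine (hmemB _).mpr ⟨h * x * h⁻¹, hN.conj_mem x hx h, ?_⟩
    rw [map_mul, Equiv.Perm.mul_apply, hsubfix h⁻¹ (inv_mem hh), map_mul, Equiv.Perm.mul_apply]
  have hroot : ∀ r, ∀ d : Fin C.T.n, orbRank O (d : ℕ) = r →
      ∃ p : Fin C.T.n, (p : ℕ) = roots.getD (orbLab O (d : ℕ)) 0 ∧ (d ∈ B ↔ p ∈ B) := by
    intro r
    induction r using Nat.strong_induction_on with
    | _ r ih =>
      intro d hd
      by_cases h0 : (d : ℕ) = roots.getD (orbLab O (d : ℕ)) 0
      · exact ⟨d, h0, Iff.rfl⟩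
      obtain ⟨w, hw, p, hp, hlt', he'⟩ := (okOrb_lab (hok d d.2)).2 h0
      obtain ⟨p', hp', hiff⟩ := ih _ (hd ▸ hlt') ⟨p, hp⟩ rfl
      refine ⟨p', ?_, Iff.trans ?_ hiff⟩
      · rw [hp', ← he', (okOrb_lab (hok p hp)).1 w hw]
      rw [hgens, List.mem_map] at hw
      obtain ⟨v, hv, rfl⟩ := hw
      have hd' : C.hom hlt (v.map P.σ).prod ⟨p, hp⟩ = d :=
        Fin.ext ((C.hom_word_run hlt hid hhw hv _).trans he')
      have hv' : (v.map P.σ).prod ∈ C.sub := Subgroup.subset_closure ⟨v, hv, rfl⟩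
      constructor
      · intro h
        have := hinvB _ (inv_mem hv') _ h
        rwa [← hd', ← Equiv.Perm.mul_apply, ← map_mul, inv_mul_cancel, map_one, Equiv.Perm.one_apply] at this
      · intro h
        exact hd' ▸ hinvB _ hv' _ h
  have hBlab : ∀ d d' : Fin C.T.n, orbLab O (d : ℕ) = orbLab O (d' : ℕ) → d ∈ B → d' ∈ B := by
    intro d d' e hd
    obtain ⟨p, hp, hi⟩ := hroot _ d rfl
    obtain ⟨p', hp', hi'⟩ := hroot _ d' rfl
    rw [e] at hp
    exact hi'.mpr ((Fin.ext (hp'.trans hp.symm) : p' = p) ▸ hi.mp hd)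
  have hfil : ∀ l < sizes.length,
      (Finset.univ.filter fun d : Fin C.T.n => orbLab O (d : ℕ) = l).card = sizes.getD l 0 := by
    intro l hl
    rw [← hcount l hl, countLab_eq]
    refine Finset.card_bij (fun d _ => (d : ℕ)) (fun d hd => ?_) (fun a _ b _ h => Fin.ext h) fun d hd => ?_
    · simp only [Finset.mem_filter, Finset.mem_univ, true_and] at hd
      simp only [Finset.mem_filter, Finset.mem_range]
      exact ⟨d.2, hd⟩
    · simp only [Finset.mem_filter, Finset.mem_range] at hd
      exact ⟨⟨d, hd.1⟩, by simp [hd.2], rfl⟩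
  obtain ⟨d₁, hd₁, hne⟩ : ∃ d ∈ B, d ≠ o := by
    by_contra hcon
    push Not at hcon
    refine hNbot ((Subgroup.eq_bot_iff_forall N).mpr fun x hx => hinj ?_)
    rw [map_one]
    refine Equiv.ext fun d => ?_
    obtain ⟨g, rfl⟩ := C.exists_hom_zero hlt hid d
    have h := hcon _ ((hmemB _).mpr ⟨g⁻¹ * x * g, hN.conj_mem' x hx g, rfl⟩)
    rw [Equiv.Perm.one_apply, ← Equiv.Perm.mul_apply, ← map_mul]
    rw [show x * g = g * (g⁻¹ * x * g) by group, map_mul, Equiv.Perm.mul_apply, h]
  have hsz1 : ∀ d : Fin C.T.n, orbLab O (d : ℕ) = 0 → d = o := by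
    intro d hd
    have h := hfil 0 (by
      by_contra hl
      rw [List.getD_eq_default _ _ (not_lt.mp hl)] at h0'
      exact absurd h0' (by decide))
    rw [h0'] at h
    exact Finset.card_le_one.mp h.le d (by simp [hd]) o (by simp [o, h0])
  have hlab' : ∀ d : Fin C.T.n, orbLab O (d : ℕ) < sizes.length := fun d => by
    have := allN_spec hlab d d.2
    rw [force_eq] at this
    exact blt_iff.mp this
  have hBu' : B = Finset.univ ∨ 2 * B.card = C.T.n := blocks_of_labels_half _ sizes hfil hlab' hsub B hBlab (d₀ := o) h0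
    ((hmemB o).mpr ⟨1, one_mem _, by rw [map_one, Equiv.Perm.one_apply]⟩) hd₁ (fun e => hne (hsz1 _ e)) hdvd
  have hBu : B = Finset.univ := by
    refine hBu'.resolve_right fun hhalf => ?_
    have hgen : ∀ x < P.k, ∀ b ∈ B, C.hom hlt (P.σ x) b ∈ B := by
      intro x hx b hb
      obtain ⟨d, hd⟩ := hfix x hx
      have hd' : C.hom hlt (P.σ x) d = d := by
        refine Fin.ext ?_
        rw [C.hom_σ hlt hid hx, C.perm_val (C.hk ▸ hx)]
        rw [runT_eq] at hd
        exact hd
      set π := C.hom hlt (P.σ x) with hπ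
      rcases hblock.smul_eq_or_disjoint (P.σ x) with he | hdj
      · have hm : P.σ x • b ∈ (MulAction.orbit N o) := he ▸ Set.smul_mem_smul_set ((Set.Finite.mem_toFinset _).mp hb)
        exact (Set.Finite.mem_toFinset _).mpr hm
      · exfalso
        have hdis : Disjoint (B.image π) B := by
          rw [Finset.disjoint_left]
          intro a ha ha'
          obtain ⟨c, hc, rfl⟩ := Finset.mem_image.mp ha
          exact Set.disjoint_left.mp hdj (Set.smul_mem_smul_set ((Set.Finite.mem_toFinset _).mp hc))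
            ((Set.Finite.mem_toFinset _).mp ha')
        have huniv : B.image π ∪ B = Finset.univ := by
          refine Finset.eq_univ_of_card _ ?_
          rw [Finset.card_union_of_disjoint hdis, Finset.card_image_of_injective _ π.injective, Fintype.card_fin]
          omega
        have hmem : d ∈ B.image π ∪ B := huniv ▸ Finset.mem_univ d
        rcases Finset.mem_union.mp hmem with h | h
        · obtain ⟨c, hc, hcd⟩ := Finset.mem_image.mp h
          exact Finset.disjoint_left.mp hdis h (π.injective (hcd.trans hd'.symm) ▸ hc)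
        · exact Finset.disjoint_left.mp hdis (hd' ▸ Finset.mem_image_of_mem π h) h
    have hall : ∀ g : P.Grp, ∀ b ∈ B, C.hom hlt g b ∈ B := by
      intro g
      have hg : g ∈ Subgroup.closure (P.σ '' Set.Iio P.k) := P.gen_closure ▸ Subgroup.mem_top g
      induction hg using Subgroup.closure_induction with
      | mem a ha => obtain ⟨x, hx, rfl⟩ := ha; exact hgen x hx
      | one => intro b hb; rwa [map_one, Equiv.Perm.one_apply]
      | mul a b _ _ iha ihb => intro c hc; rw [map_mul, Equiv.Perm.mul_apply]; exact iha _ (ihb c hc)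
      | inv a _ iha =>
        intro c hc
        obtain ⟨c', hc', e⟩ := Finset.surj_on_of_inj_on_of_card_le (fun c' _ => C.hom hlt a c') iha
          (fun _ _ _ _ e => (C.hom hlt a).injective e) le_rfl c hc
        rw [e, ← Equiv.Perm.mul_apply, ← map_mul, inv_mul_cancel, map_one, Equiv.Perm.one_apply]
        exact hc'
    have hu : B = Finset.univ := Finset.eq_univ_of_forall fun d => by
      obtain ⟨g, rfl⟩ := C.exists_hom_zero hlt hid d
      exact hall g o ((hmemB o).mpr ⟨1, one_mem _, by rw [map_one, Equiv.Perm.one_apply]⟩)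
    rw [hu, Finset.card_univ, Fintype.card_fin] at hhalf
    omega
  have hnN : C.T.n ∣ Nat.card N := by
    have h1 := MulAction.index_stabilizer N o
    have h2 := (MulAction.stabilizer N o).card_mul_index
    rw [h1, Set.ncard_eq_toFinset_card] at h2
    have h3 : (MulAction.orbit N o).toFinite.toFinset.card = C.T.n := by
      rw [← hBdef, hBu, Finset.card_univ, Fintype.card_fin]
    rw [h3] at h2
    exact ⟨_, by rw [← h2, mul_comm]⟩
  have hzl : ∀ x ∈ z, x < P.k := fun x hx => C.hk ▸ blt_iff.mp (List.all_eq_true.mp hz x hx)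
  have hz1 : ((z.map P.σ).prod) ^ q = 1 := by
    have hW : ∀ x ∈ (List.replicate q z).flatten, x < P.k := by
      intro x hx
      obtain ⟨l, hl, hxl⟩ := List.mem_flatten.mp hx
      exact hzl x ((List.eq_of_mem_replicate hl) ▸ hxl)
    rw [← prod_flatten_replicate]
    refine inv_eq_one.mp (hinj ?_)
    rw [← prod_reverse_inv P.σ P.σ_sq, map_one]
    refine Equiv.ext fun d => Fin.ext ?_
    rw [C.hom_rev hlt hid _ hW d, Equiv.Perm.one_apply]
    have := allN_spec hzq d d.2
    rw [force_eq] at this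
    exact Nat.eq_of_beq_eq_true this
  have hzN : (z.map P.σ).prod ∈ N := by
    rw [← QuotientGroup.eq_one_iff, ← orderOf_eq_one_iff]
    have hq1 : orderOf ((z.map P.σ).prod : P.Grp ⧸ N) ∣ q :=
      orderOf_dvd_of_pow_eq_one (by rw [← QuotientGroup.mk_pow, hz1]; rfl)
    have hc : orderOf ((z.map P.σ).prod : P.Grp ⧸ N) ∣ Nat.card P.Grp / C.T.n := by
      refine orderOf_dvd_natCard _ |>.trans ?_
      obtain ⟨m, hm⟩ := hnN
      rw [Subgroup.card_eq_card_quotient_mul_card_subgroup N, hm, ← mul_assoc, mul_comm _ C.T.n, mul_assoc,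
        Nat.mul_div_cancel_left _ C.hn]
      exact Dvd.intro m rfl
    exact Nat.dvd_one.mp (hqn ▸ Nat.dvd_gcd hc hq1)
  set τ : ℕ → P.Grp ⧸ N := fun x => (P.σ x : P.Grp ⧸ N)
  have hprod : ∀ w : List ℕ, (w.map τ).prod = ((w.map P.σ).prod : P.Grp ⧸ N) := fun w => by
    have := (QuotientGroup.mk' N).map_list_prod (w.map P.σ)
    rw [List.map_map] at this
    exact this.symm
  have hτk : τ S.D.k = 1 := by
    show ((P.σ S.D.k : P.Grp) : P.Grp ⧸ N) = 1
    rw [hSk, Pres.σ, if_neg (lt_irrefl _)]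
    rfl
  have hτsq : ∀ x, τ x * τ x = 1 := fun x => by
    show ((P.σ x * P.σ x : P.Grp) : P.Grp ⧸ N) = 1
    rw [P.σ_sq]; rfl
  have hSW := S.card_le τ hτsq hτk (fun w hw => by
    rw [hprod, QuotientGroup.eq_one_iff]
    rcases List.mem_append.mp (List.contains_iff_mem.mp (List.all_eq_true.mp hSrels w hw)) with h | h
    · rw [P.rels_one h]; exact one_mem _
    · rw [List.mem_singleton.mp h]; exact hzN)
    (by rw [hShw, (show wordsSub τ [] = ⊥ by simp [wordsSub])]; exact bot_le) (hShw ▸ wordsSub_nil τ)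
  rw [hSn, hSk] at hSW
  have := hSW.1
  have hbot := Subgroup.card_le_one_iff_eq_bot _ |>.mp hSW.2
  rw [eq_top_iff, ← P.gen_closure, Subgroup.closure_le]
  rintro _ ⟨x, hx, rfl⟩
  rw [SetLike.mem_coe, ← QuotientGroup.eq_one_iff]
  exact (Subgroup.eq_bot_iff_forall _).mp hbot _ (Subgroup.subset_closure ⟨x, hx, rfl⟩)

end Cert

end CfsgLib.CosetEnum
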