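/-
Subgroups isomorphic to simple groups of orders 7920 and 175560 in the O'Nan group.
-/
import Cfsg.Agent.Lib.CosetEnum.ONFaithful
import Cfsg.Agent.Lib.CosetEnum.ONMC.Main
import Cfsg.Agent.Lib.CosetEnum.ONJC.Main

set_option autoImplicit false

namespace CfsgLib.CosetEnum

/-- The words of three involutions generating a simple group of order 7920. -/
def onWordsM : List (List ℕ) := [[6, 2, 6, 3, 5, 3, 5, 3, 5, 1, 4, 5, 3, 6, 0, 2, 0, 6, 3, 5, 4, 1, 5, 3, 5, 3, 5, 3, 6, 2, 6], [1, 0, 5, 2, 4, 3, 5, 0, 1, 6, 0, 6, 1, 2, 1, 6, 0, 6, 1, 0, 5, 3, 4, 2, 5, 0, 1], [5, 0, 2, 5, 4, 0, 1, 0, 3, 4, 6, 3, 4, 3, 6, 4, 3, 0, 1, 0, 4, 5, 2, 0, 5]]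

/-- The words of three involutions generating a simple group of order 175560. -/
def onWordsJ : List (List ℕ) := [[0, 5, 3, 5, 6, 1, 6, 5, 3, 5, 0], [4, 5, 4, 2, 6, 5, 3, 2, 1, 3, 1, 5, 2, 0, 3, 2, 3, 0, 2, 5, 1, 3, 1, 2, 3, 5, 6, 2, 4, 5, 4], [6, 3, 0, 5, 1, 2, 3, 2, 1, 5, 0, 3, 6]]

theorem exists_simple_subgroup (P : Pres) [IsSimpleGroup P.Grp] (ws : List (List ℕ))
    (h : okSubst P.rels ws = true) (a : P.α) (hd : ∃ d : Fin ON122760.cert.T.n,
      runT ON122760.table 7 ((ws.getD (P.idx a) [])).reverse (d : ℕ) ≠ (d : ℕ))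
    (hl : ((ws.getD (P.idx a) []).all fun x => Nat.blt x 7) = true) :
    ∃ K : Subgroup presON.Grp, IsSimpleGroup K ∧ Nat.card K = Nat.card P.Grp := by
  obtain ⟨f, hf⟩ := exists_onSubst P ws h
  have hinj : Function.Injective f := by
    rw [← MonoidHom.ker_eq_bot_iff]
    rcases (MonoidHom.normal_ker f).eq_bot_or_eq_top with hk | hk
    · exact hk
    · exfalso
      obtain ⟨d, hd⟩ := hd
      have h1 : f (PresentedGroup.of a) = 1 := MonoidHom.mem_ker.mp (hk ▸ Subgroup.mem_top _)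
      rw [hf, onSubst] at h1
      refine hd ?_
      have hw : ∀ x ∈ ws.getD (P.idx a) [], x < 7 := fun x hx => blt_iff.mp (List.all_eq_true.mp hl x hx)
      have := ON122760.cert.word_smul (ws.getD (P.idx a) []) hw d
      rw [← ON122760.cert.hom_word ON122760.hlt presON_idx _ hw, h1, map_one, Equiv.Perm.one_apply] at this
      rw [runT_eq]
      exact this.symm
  exact ⟨f.range, (MonoidHom.ofInjective hinj).symm.isSimpleGroup,
    (Nat.card_congr (MonoidHom.ofInjective hinj).toEquiv).symm⟩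

theorem presON_exists_M11 : ∃ K : Subgroup presON.Grp, IsSimpleGroup K ∧ Nat.card K = 7920 := by
  have := ONMC.isSimple
  rw [← ONMC.card_eq]
  exact exists_simple_subgroup ONMC.pres onWordsM (by decide +kernel) (0 : Fin 3)
    ⟨⟨0, ON122760.cert.hn⟩, by decide +kernel⟩ (by decide +kernel)

theorem presON_exists_J1 : ∃ K : Subgroup presON.Grp, IsSimpleGroup K ∧ Nat.card K = 175560 := by
  have := ONJC.isSimple
  rw [← ONJC.card_eq]
  exact exists_simple_subgroup ONJC.pres onWordsJ (by decide +kernel) (0 : Fin 3)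
    ⟨⟨0, show 0 < 122760 by decide⟩, by decide +kernel⟩ (by decide +kernel)

/-- The permutation group on 122760 cosets. -/
theorem on_perm_realization : ∃ H : Subgroup (Equiv.Perm (Fin 122760)), Cfsg.IsON H ∧
    MulAction.IsPretransitive H (Fin 122760) ∧ Nat.card (MulAction.stabilizer H (0 : Fin 122760)) = 3753792 ∧
    (∃ K : Subgroup H, Cfsg.IsJ1 K) ∧ (∃ K : Subgroup H, Cfsg.IsM11 K) := by
  have := presON_upper.1
  have hs : IsSimpleGroup presON.Grp := presON_simple
  let π : presON.Grp →* Equiv.Perm (Fin 122760) := ON122760.cert.hom ON122760.hlt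
  have hinj : Function.Injective π := presON_inj
  let e : presON.Grp ≃* π.range := MonoidHom.ofInjective hinj
  have hsimp : IsSimpleGroup π.range := e.symm.isSimpleGroup
  have hcard : Nat.card π.range = 460815505920 := (Nat.card_congr e.toEquiv).symm.trans presON_card
  have htr : MulAction.IsPretransitive π.range (Fin 122760) := by
    have h0 : ∀ a : Fin 122760, ∃ g : π.range, g • (0 : Fin 122760) = a := by
      intro a
      obtain ⟨g, hg⟩ := ON122760.cert.exists_hom_zero ON122760.hlt presON_idx a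
      exact ⟨⟨π g, g, rfl⟩, hg⟩
    refine ⟨fun a b => ?_⟩
    obtain ⟨g, rfl⟩ := h0 a
    obtain ⟨g', rfl⟩ := h0 b
    exact ⟨g' * g⁻¹, by rw [mul_smul, inv_smul_smul]⟩
  have hsub : ∀ n : ℕ, (∃ K : Subgroup presON.Grp, IsSimpleGroup K ∧ Nat.card K = n) →
      ∃ K : Subgroup π.range, IsSimpleGroup K ∧ Nat.card K = n := by
    rintro n ⟨K, hK, hc⟩
    refine ⟨K.map e.toMonoidHom, ?_, ?_⟩
    · haveI := hK
      exact (K.equivMapOfInjective e.toMonoidHom e.injective).symm.isSimpleGroup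
    · exact (Nat.card_congr (K.equivMapOfInjective e.toMonoidHom e.injective).toEquiv).symm.trans hc
  refine ⟨π.range, ⟨hsimp, hcard⟩, htr, ?_, hsub _ presON_exists_J1, hsub _ presON_exists_M11⟩
  have h := (MulAction.stabilizer π.range (0 : Fin 122760)).card_mul_index
  rw [MulAction.index_stabilizer_of_transitive, Nat.card_eq_fintype_card (α := Fin 122760), Fintype.card_fin, hcard] at h
  omega

end CfsgLib.CosetEnum
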