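/-
The presentation of the subgroup Ω₇(3) of Fi22 with numbered generators.
-/
import Cfsg.Agent.Lib.CosetEnum.Cox

set_option autoImplicit false

namespace CfsgLib.CosetEnum

open Cfsg.Spor

/-- The graph of the subgroup. -/
def edgesPO7 : List (Fin 8 × ℕ × Fin 8) :=
  [(0, 3, 1), (1, 3, 2), (2, 3, 3), (2, 3, 6), (3, 3, 4), (4, 3, 5), (6, 3, 7)]

/-- A word in the free group. -/
def freeWord (w : List ℕ) : FreeGroup (Fin 8) := (w.map fun x => FreeGroup.of (Fin.ofNat 8 x)).prod

/-- The further relators as words. -/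
def extraWPO7 : List (List ℕ) := [(List.replicate 10 [2, 1, 0, 2, 3, 4, 2, 6, 7]).flatten,
  (List.replicate 9 [0, 1, 2, 3, 4, 5, 6]).flatten]

/-- The numbered presentation. -/
abbrev presPO7 : Pres where
  α := Fin 8
  dec := inferInstance
  edges := edgesPO7
  extra := extraWPO7.map freeWord
  k := 8
  gen := Fin.ofNat 8
  idx := fun a => a.val
  extraW := extraWPO7
  idx_spec a := ⟨a.2, Fin.ofNat_val_eq_self a⟩
  node a := by revert a; decide
  symm a b := by revert a b; decide
  extra_spec M _ τ h := by
    rw [List.map_map]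
    refine List.map_congr_left fun w hw => ?_
    have hlt : ∀ x ∈ w, x < 8 := (show ∀ w ∈ extraWPO7, ∀ x ∈ w, x < 8 by decide) w hw
    simp only [Function.comp_apply, freeWord, map_list_prod, List.map_map]
    refine congrArg List.prod (List.map_congr_left fun x hx => ?_)
    simp [Nat.mod_eq_of_lt (hlt x hx)]

end CfsgLib.CosetEnum
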