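/-
Eight involutions of the orthogonal group of dimension seven over three elements.
-/
import Cfsg.Agent.Lib.CosetEnum.PresPO7
import Cfsg.Prelude.Def_Classical
import Mathlib.Data.ZMod.Basic
import Mathlib.Algebra.Field.ZMod
import Mathlib.Tactic.FinCases
import Mathlib.Tactic.Ring
import Mathlib.Algebra.BigOperators.Fin

set_option autoImplicit false
set_option maxRecDepth 100000

namespace CfsgLib.CosetEnum.PO7Matrices

open Matrix

/-- The index type. -/
abbrev Idx : Type := Unit ⊕ (Fin 3 ⊕ Fin 3)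

/-- The position of an index. -/
def pos : Idx → ℕ
  | .inl _ => 0
  | .inr (.inl i) => 1 + i
  | .inr (.inr i) => 4 + i

/-- The rows of the matrices. -/
def rows : List (List (List ℕ)) :=
  [[[0, 2, 2, 2, 2, 2, 1], [1, 1, 2, 2, 2, 2, 1], [1, 2, 1, 2, 2, 2, 1], [2, 1, 1, 0, 1, 1, 2], [1, 2, 2, 2, 1, 2, 1], [1, 2, 2, 2, 2, 1, 1], [1, 2, 2, 2, 2, 2, 0]],
  [[0, 1, 2, 1, 0, 2, 0], [0, 2, 0, 0, 0, 0, 0], [1, 1, 1, 1, 0, 2, 0], [0, 0, 0, 2, 0, 0, 0], [2, 2, 1, 2, 2, 1, 0], [1, 1, 2, 1, 0, 1, 0], [2, 2, 1, 2, 0, 1, 2]],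
  [[0, 2, 1, 0, 0, 1, 1], [0, 2, 0, 0, 0, 0, 0], [2, 1, 1, 0, 0, 2, 2], [2, 1, 2, 2, 0, 2, 2], [1, 2, 1, 0, 2, 1, 1], [2, 1, 2, 0, 0, 1, 2], [0, 0, 0, 0, 0, 0, 2]],
  [[0, 1, 1, 1, 0, 1, 0], [0, 2, 0, 0, 0, 0, 0], [2, 2, 1, 2, 0, 2, 0], [0, 0, 0, 2, 0, 0, 0], [2, 2, 2, 2, 2, 2, 0], [2, 2, 2, 2, 0, 1, 0], [2, 2, 2, 2, 0, 2, 2]],
  [[2, 0, 0, 0, 0, 0, 0], [0, 1, 1, 0, 2, 1, 0], [0, 1, 1, 0, 1, 2, 0], [0, 0, 0, 2, 0, 0, 0], [0, 2, 1, 0, 1, 1, 0], [0, 1, 2, 0, 1, 1, 0], [0, 0, 0, 0, 0, 0, 2]],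
  [[2, 0, 0, 0, 0, 0, 0], [0, 1, 1, 2, 2, 2, 1], [0, 2, 0, 2, 2, 2, 1], [0, 1, 2, 0, 1, 1, 2], [0, 2, 1, 2, 1, 2, 1], [0, 1, 2, 1, 1, 0, 2], [0, 2, 1, 2, 2, 2, 0]],
  [[0, 0, 2, 2, 0, 1, 1], [0, 2, 0, 0, 0, 0, 0], [2, 0, 0, 1, 0, 2, 2], [2, 0, 1, 0, 0, 2, 2], [0, 0, 0, 0, 2, 0, 0], [1, 0, 2, 2, 0, 0, 1], [1, 0, 2, 2, 0, 1, 0]],
  [[0, 1, 2, 0, 2, 1, 2], [1, 0, 2, 0, 2, 1, 2], [2, 2, 0, 0, 1, 2, 1], [1, 1, 2, 2, 2, 1, 2], [2, 2, 1, 0, 0, 2, 1], [1, 1, 2, 0, 2, 0, 2], [0, 0, 0, 0, 0, 0, 2]]]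

/-- The rows of one matrix. -/
def row (x : ℕ) : List (List ℕ) := rows.getD x []

/-- A vector from a list. -/
def vecL (l : List ℕ) : Idx → ZMod 3 := fun i => (l.getD (pos i) 0 : ℕ)

/-- A matrix. -/
def mat (x : ℕ) : Matrix Idx Idx (ZMod 3) := fun i j => (((row x).getD (pos i) []).getD (pos j) 0 : ℕ)

/-- The dot product of lists. -/
def dot : List ℕ → List ℕ → ℕ
  | a :: as, b :: bs => a * b + dot as bs
  | _, _ => 0

/-- The action on lists. -/
def stepL (x : ℕ) (l : List ℕ) : List ℕ := (row x).map fun r => dot r l % 3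

/-- The action of a word. -/
def wordL (w : List ℕ) (l : List ℕ) : List ℕ := w.foldr stepL l

/-- All vectors. -/
def allL : ℕ → List (List ℕ)
  | 0 => [[]]
  | n + 1 => (allL n).flatMap fun l => [0 :: l, 1 :: l, 2 :: l]

/-- The form on lists. -/
def qL : List ℕ → ℕ
  | [a, b, c, d, e, f, g] => (a * a + b * e + c * f + d * g) % 3
  | _ => 0

theorem mulVec_vecL {x : ℕ} (hx : x < 8) (a b c d e f g : ℕ) :
    mat x *ᵥ vecL [a, b, c, d, e, f, g] = vecL (stepL x [a, b, c, d, e, f, g]) := by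
  funext i
  simp only [Matrix.mulVec, dotProduct, Fintype.sum_sum_type, Fin.sum_univ_three, Fintype.sum_unique]
  interval_cases x <;> rcases i with u | i | i <;> (try fin_cases i) <;>
    simp [mat, vecL, pos, row, rows, stepL, dot, ZMod.natCast_mod] <;> ring

theorem stepL_length {x : ℕ} (hx : x < 8) (l : List ℕ) : (stepL x l).length = 7 := by
  interval_cases x <;> rfl

theorem exists_seven {l : List ℕ} (h : l.length = 7) : ∃ a b c d e f g, l = [a, b, c, d, e, f, g] := by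
  match l, h with
  | [a, b, c, d, e, f, g], _ => exact ⟨a, b, c, d, e, f, g, rfl⟩

theorem mem_allL : ∀ (n : ℕ) (l : List ℕ), l.length = n → (∀ a ∈ l, a < 3) → l ∈ allL n := by
  intro n
  induction n with
  | zero => intro l hl _; simp [List.length_eq_zero_iff.mp hl, allL]
  | succ n ih =>
    intro l hl h
    obtain ⟨a, l, rfl⟩ := List.exists_cons_of_length_eq_add_one hl
    simp only [allL, List.mem_flatMap]
    refine ⟨l, ih l (by simpa using hl) fun b hb => h b (List.mem_cons_of_mem _ hb), ?_⟩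
    have := h a List.mem_cons_self
    interval_cases a <;> simp

theorem exists_vecL (v : Idx → ZMod 3) : ∃ l ∈ allL 7, v = vecL l := by
  refine ⟨[(v (.inl ())).val, (v (.inr (.inl 0))).val, (v (.inr (.inl 1))).val, (v (.inr (.inl 2))).val,
    (v (.inr (.inr 0))).val, (v (.inr (.inr 1))).val, (v (.inr (.inr 2))).val], ?_, ?_⟩
  · exact mem_allL 7 _ rfl (by simp [ZMod.val_lt])
  · funext i
    rcases i with u | i | i <;> (try fin_cases i) <;> simp [vecL, pos, ZMod.natCast_zmod_val]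

/-- The form. -/
abbrev Q : (Idx → ZMod 3) → ZMod 3 := Cfsg.quadFormOdd 3 (ZMod 3)

theorem Q_vecL (a b c d e f g : ℕ) : Q (vecL [a, b, c, d, e, f, g]) = (qL [a, b, c, d, e, f, g] : ℕ) := by
  simp [Q, Cfsg.quadFormOdd, vecL, pos, qL, Fin.sum_univ_three, ZMod.natCast_mod]
  ring

theorem allL_length : ∀ l ∈ allL 7, l.length = 7 := by decide +kernel

theorem qL_step : (List.range 8).all (fun x => (allL 7).all fun l => Nat.beq (qL (stepL x l)) (qL l)) = true := by
  decide +kernel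

theorem mat_preserves {x : ℕ} (hx : x < 8) (v : Idx → ZMod 3) : Q (mat x *ᵥ v) = Q v := by
  obtain ⟨l, hl, rfl⟩ := exists_vecL v
  obtain ⟨a, b, c, d, e, f, g, rfl⟩ := exists_seven (allL_length l hl)
  have h := List.all_eq_true.mp (List.all_eq_true.mp qL_step x (List.mem_range.mpr hx)) _ hl
  obtain ⟨a', b', c', d', e', f', g', he⟩ := exists_seven (stepL_length hx [a, b, c, d, e, f, g])
  rw [mulVec_vecL hx, he, Q_vecL, Q_vecL, ← he, Nat.eq_of_beq_eq_true h]

theorem wordL_length : ∀ w : List ℕ, (∀ x ∈ w, x < 8) → ∀ l : List ℕ, l.length = 7 → (wordL w l).length = 7 := by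
  intro w
  induction w with
  | nil => intro _ l hl; exact hl
  | cons x w _ => intro h l _; exact stepL_length (h x List.mem_cons_self) _

theorem prod_mat_vecL : ∀ w : List ℕ, (∀ x ∈ w, x < 8) → ∀ l : List ℕ, l.length = 7 →
    (w.map mat).prod *ᵥ vecL l = vecL (wordL w l) := by
  intro w
  induction w with
  | nil => intro _ l _; simp [wordL]
  | cons x w ih =>
    intro h l hl
    rw [List.map_cons, List.prod_cons, ← Matrix.mulVec_mulVec, ih (fun y hy => h y (List.mem_cons_of_mem _ hy)) l hl]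
    obtain ⟨a, b, c, d, e, f, g, he⟩ := exists_seven (wordL_length w (fun y hy => h y (List.mem_cons_of_mem _ hy)) l hl)
    show _ = vecL (stepL x (wordL w l))
    rw [he, mulVec_vecL (h x List.mem_cons_self)]

/-- The unit vectors. -/
def basisL : List (List ℕ) := (List.range 7).map fun i => (List.range 7).map fun j => if i = j then 1 else 0

theorem prod_mat_one (w : List ℕ) (hw : (w.all fun x => Nat.blt x 8) = true)
    (h : (basisL.all fun l => decide (wordL w l = l)) = true) : (w.map mat).prod = 1 := by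
  have hw' : ∀ x ∈ w, x < 8 := fun x hx => blt_iff.mp (List.all_eq_true.mp hw x hx)
  refine Matrix.ext_of_mulVec_single fun j => ?_
  have hj : ∃ l ∈ basisL, Pi.single j (1 : ZMod 3) = vecL l := by
    revert j
    decide +kernel
  obtain ⟨l, hl, e⟩ := hj
  have hlen : l.length = 7 := (show ∀ l ∈ basisL, l.length = 7 by decide) l hl
  rw [e, prod_mat_vecL w hw' l hlen, of_decide_eq_true (List.all_eq_true.mp h l hl), Matrix.one_mulVec]

theorem mat_sq {x : ℕ} (hx : x < 8) : mat x * mat x = 1 := by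
  have h : ∀ y < 8, (basisL.all fun l => decide (wordL [y, y] l = l)) = true := by decide +kernel
  have := prod_mat_one [x, x] (by simp [hx]) (h x hx)
  simpa using this

/-- The involution with a given number. -/
noncomputable def elt (x : ℕ) : Cfsg.isometryGroup (ZMod 3) Q :=
  if hx : x < 8 then
    ⟨⟨mat x, mat x, mat_sq hx, mat_sq hx⟩, fun u _ => mat_preserves hx u⟩
  else 1

theorem elt_sq (x : ℕ) : elt x * elt x = 1 := by
  by_cases hx : x < 8
  · rw [elt, dif_pos hx]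
    exact Subtype.ext (Units.ext (mat_sq hx))
  · rw [elt, dif_neg hx, one_mul]

theorem coe_prod : ∀ w : List ℕ, (∀ x ∈ w, x < 8) →
    (((w.map elt).prod : Cfsg.isometryGroup (ZMod 3) Q) : GL Idx (ZMod 3)).1 = (w.map mat).prod := by
  intro w
  induction w with
  | nil => intro _; rfl
  | cons x w ih =>
    intro h
    rw [List.map_cons, List.prod_cons, List.map_cons, List.prod_cons, Subgroup.coe_mul, Units.val_mul,
      ih fun y hy => h y (List.mem_cons_of_mem _ hy), elt, dif_pos (h x List.mem_cons_self)]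

theorem rels_check : presPO7.rels.all (fun w => (w.all fun x => Nat.blt x 8) &&
    basisL.all fun l => decide (wordL w l = l)) = true := by
  decide +kernel

theorem elt_rel : ∀ w ∈ presPO7.rels, (w.map elt).prod = 1 := by
  intro w hw
  have h := List.all_eq_true.mp rels_check w hw
  rw [Bool.and_eq_true] at h
  refine Subtype.ext (Units.ext ?_)
  rw [coe_prod w fun x hx => blt_iff.mp (List.all_eq_true.mp h.1 x hx)]
  exact prod_mat_one w h.1 h.2

/-- The representation. -/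
noncomputable def rep : presPO7.Grp →* Cfsg.isometryGroup (ZMod 3) Q :=
  PresentedGroup.toGroup (f := elt ∘ presPO7.idx) (presPO7.lift_rel elt_sq elt_rel)

theorem rep_not_comm : rep (PresentedGroup.of 0) * rep (PresentedGroup.of 1) ≠
    rep (PresentedGroup.of 1) * rep (PresentedGroup.of 0) := by
  intro h
  have e : ∀ i : Fin 8, rep (PresentedGroup.of i) = elt i.val := fun i => PresentedGroup.toGroup.of _
  rw [e, e] at h
  have h' : ([0, 1].map mat).prod = ([1, 0].map mat).prod := by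
    rw [← coe_prod [0, 1] (by decide), ← coe_prod [1, 0] (by decide)]
    exact congrArg (fun g : Cfsg.isometryGroup (ZMod 3) Q => (g : GL Idx (ZMod 3)).1) (by simpa using h)
  have hne : ∃ l ∈ basisL, ∃ i : Idx, vecL (wordL [0, 1] l) i ≠ vecL (wordL [1, 0] l) i := by decide +kernel
  obtain ⟨l, hl, i, hi⟩ := hne
  have hlen : l.length = 7 := (show ∀ l ∈ basisL, l.length = 7 by decide) l hl
  refine hi ?_
  rw [← prod_mat_vecL [0, 1] (by decide) l hlen, h', prod_mat_vecL [1, 0] (by decide) l hlen]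

end CfsgLib.CosetEnum.PO7Matrices
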