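/-
A presentation of Sp(4, 4) with numbered generators.
-/
import Cfsg.Agent.Lib.CosetEnum.Cox

set_option autoImplicit false

namespace CfsgLib.CosetEnum

open Cfsg.Spor

/-- The graph. -/
def edgesSp44 : List (Fin 6 × ℕ × Fin 6) :=
  [(1, 10, 2), (2, 3, 3), (2, 3, 4), (0, 0, 5), (2, 0, 5), (3, 0, 5), (4, 0, 5)]

/-- A word in the free group. -/
def freeWordSp44 (w : List ℕ) : FreeGroup (Fin 6) := (w.map fun x => FreeGroup.of (Fin.ofNat 6 x)).prod

/-- The further relators as words. -/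
def extraWSp44 : List (List ℕ) := [[0, 2, 1, 2, 1, 2, 1, 2, 1, 2, 1], [1, 2, 1, 2, 3, 2, 1, 2, 1, 2, 3, 2, 1, 2, 3], [1, 2, 1, 2, 4, 2, 1, 3, 2, 1, 2, 4, 2, 1, 3, 2, 1, 2, 4, 2, 3], [0, 2, 5, 0, 2, 5], [0, 3, 5, 0, 3, 5], [0, 4, 5, 0, 4, 5, 0, 4, 5]]

/-- The numbered presentation. -/
abbrev presSp44 : Pres where
  α := Fin 6
  dec := inferInstance
  edges := edgesSp44
  extra := extraWSp44.map freeWordSp44
  k := 6
  gen := Fin.ofNat 6
  idx := fun a => a.val
  extraW := extraWSp44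
  idx_spec a := ⟨a.2, Fin.ofNat_val_eq_self a⟩
  node a := by revert a; decide
  symm a b := by revert a b; decide
  extra_spec M _ τ h := by
    rw [List.map_map]
    refine List.map_congr_left fun w hw => ?_
    have hlt : ∀ x ∈ w, x < 6 := (show ∀ w ∈ extraWSp44, ∀ x ∈ w, x < 6 by decide) w hw
    simp only [Function.comp_apply, freeWordSp44, map_list_prod, List.map_map]
    refine congrArg List.prod (List.map_congr_left fun x hx => ?_)
    simp [Nat.mod_eq_of_lt (hlt x hx)]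

end CfsgLib.CosetEnum
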