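/-
Involutions of the symplectic group of dimension four over four elements.
-/
import Cfsg.Agent.Lib.CosetEnum.GF4Codes
import Cfsg.Agent.Lib.CosetEnum.PresSp44
import Mathlib.LinearAlgebra.SymplecticGroup
import Mathlib.LinearAlgebra.Matrix.Reindex

set_option autoImplicit false
set_option maxRecDepth 100000

namespace CfsgLib.CosetEnum.Sp44Matrices

open Matrix CfsgLib.G24 CfsgLib.CosetEnum.GF4Codes

/-- The matrices as rows of codes. -/
def rows : List (List (List ℕ)) :=
  [[[3, 0, 1, 0], [0, 1, 0, 0], [3, 0, 3, 0], [0, 0, 0, 1]],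
  [[2, 0, 2, 3], [1, 1, 3, 1], [1, 0, 2, 1], [0, 0, 0, 1]],
  [[0, 1, 3, 3], [1, 3, 3, 1], [2, 2, 0, 1], [2, 3, 1, 3]],
  [[2, 0, 2, 1], [2, 1, 1, 2], [1, 0, 2, 2], [0, 0, 0, 1]],
  [[0, 0, 3, 2], [3, 1, 2, 2], [2, 0, 0, 3], [0, 0, 0, 1]],
  [[1, 2, 2, 0], [0, 1, 0, 0], [0, 0, 1, 0], [0, 2, 2, 1]]]

/-- The rows of one matrix. -/
def row (x : ℕ) : List (List ℕ) := rows.getD x []

/-- The matrix on the standard index set. -/
noncomputable def mat (x : ℕ) : Matrix (Fin 2 ⊕ Fin 2) (Fin 2 ⊕ Fin 2) K :=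
  Matrix.reindexAlgEquiv K K finSumFinEquiv.symm (matL 4 (row x))

theorem prod_mat (w : List ℕ) : (w.map mat).prod =
    Matrix.reindexAlgEquiv K K (finSumFinEquiv (m := 2) (n := 2)).symm (((w.map row).map (matL 4)).prod) := by
  rw [map_list_prod, List.map_map, List.map_map]
  rfl

theorem prod_mat_one {w : List ℕ} (h : okOne 4 (w.map row) = true) : (w.map mat).prod = 1 := by
  rw [prod_mat, prod_eq_one h, map_one]

theorem mat_mem : ∀ x < 6, mat x ∈ Matrix.symplecticGroup (Fin 2) K := by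
  have key : ∀ x < 6, (matL 4 (row x)).submatrix finSumFinEquiv finSumFinEquiv * Matrix.J (Fin 2) K *
      ((matL 4 (row x)).submatrix finSumFinEquiv finSumFinEquiv)ᵀ = Matrix.J (Fin 2) K := by
    decide +kernel
  intro x hx
  rw [SymplecticGroup.mem_iff]
  exact key x hx

theorem mat_sq {x : ℕ} (hx : x < 6) : mat x * mat x = 1 := by
  have h : ∀ y < 6, okOne 4 ([y, y].map row) = true := by decide +kernel
  simpa using prod_mat_one (h x hx)

/-- The involution with a given number. -/
noncomputable def elt (x : ℕ) : Matrix.symplecticGroup (Fin 2) K :=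
  if hx : x < 6 then ⟨mat x, mat_mem x hx⟩ else 1

theorem elt_sq (x : ℕ) : elt x * elt x = 1 := by
  by_cases hx : x < 6
  · rw [elt, dif_pos hx]
    exact Subtype.ext (mat_sq hx)
  · rw [elt, dif_neg hx, one_mul]

theorem coe_prod : ∀ w : List ℕ, (∀ x ∈ w, x < 6) →
    ((w.map elt).prod : Matrix (Fin 2 ⊕ Fin 2) (Fin 2 ⊕ Fin 2) K) = (w.map mat).prod := by
  intro w
  induction w with
  | nil => intro _; rfl
  | cons x w ih =>
    intro h
    rw [List.map_cons, List.prod_cons, List.map_cons, List.prod_cons, Submonoid.coe_mul,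
      ih fun y hy => h y (List.mem_cons_of_mem _ hy), elt, dif_pos (h x List.mem_cons_self)]

theorem rels_check : presSp44.rels.all (fun w => (w.all fun x => Nat.blt x 6) && okOne 4 (w.map row)) = true := by
  decide +kernel

theorem elt_rel : ∀ w ∈ presSp44.rels, (w.map elt).prod = 1 := by
  intro w hw
  have h := List.all_eq_true.mp rels_check w hw
  rw [Bool.and_eq_true] at h
  refine Subtype.ext ?_
  rw [coe_prod w fun x hx => blt_iff.mp (List.all_eq_true.mp h.1 x hx)]
  exact prod_mat_one h.2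

/-- The representation. -/
noncomputable def rep : presSp44.Grp →* Matrix.symplecticGroup (Fin 2) K :=
  PresentedGroup.toGroup (f := elt ∘ presSp44.idx) (presSp44.lift_rel elt_sq elt_rel)

theorem rep_ne_one : rep (PresentedGroup.of 0) ≠ 1 := by
  intro h
  rw [rep, PresentedGroup.toGroup.of] at h
  have h' : (mat 0) = 1 := by
    have := congrArg Subtype.val h
    rwa [Function.comp_apply, elt, dif_pos (by decide)] at this
  have key : ((matL 4 (row 0)).submatrix finSumFinEquiv finSumFinEquiv :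
      Matrix (Fin 2 ⊕ Fin 2) (Fin 2 ⊕ Fin 2) K) ≠ 1 := by decide +kernel
  exact key h'

end CfsgLib.CosetEnum.Sp44Matrices
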