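/-
The order and simplicity of the presented Sp(4, 4).
-/
import Cfsg.Agent.Lib.CosetEnum.Simple
import Cfsg.Agent.Lib.CosetEnum.Sp85.Main
import Cfsg.Agent.Lib.CosetEnum.Sp44Chain.Levels
import Cfsg.Agent.Lib.CosetEnum.Sp44Z.Main
import Cfsg.Agent.Lib.CosetEnum.Sp44A.Main
import Cfsg.Agent.Lib.CosetEnum.Sp44B.Main
import Mathlib.Tactic.Ring

set_option autoImplicit false

namespace CfsgLib.CosetEnum.Sp44Order

open CfsgLib.CosetEnum

theorem upper : Finite presSp44.Grp ∧ Nat.card presSp44.Grp ≤ 979200 := by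
  have h0 := presSp44.card_step Sp44B.sheet Sp44B.sel rfl [] presSp44.der_nil (by decide +kernel) (by decide +kernel)
    (wordsSub_nil _)
  have h1 := presSp44.card_step Sp44A.sheet Sp44A.sel rfl [] presSp44.der_nil (by decide +kernel) (by decide +kernel) h0
  have e : wordsSub presSp44.σ (Sp44A.sel.map fun i => [i]) = ⊤ := by
    rw [← presSp44.closure_eq_wordsSub, eq_top_iff, ← presSp44.gen_closure, Subgroup.closure_le]
    rintro _ ⟨x, hx, rfl⟩
    refine Subgroup.subset_closure ⟨x, hx, congrArg presSp44.σ ?_⟩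
    have key : ∀ x < 6, Sp44A.sel.getD x 6 = x := by decide
    exact key x hx
  rw [e, Subgroup.card_top] at h1
  have := h1.1
  exact ⟨Finite.of_equiv _ Subgroup.topEquiv.toEquiv, h1.2⟩

theorem lower [Finite presSp44.Grp] {K : ℕ}
    (h : K ≤ Nat.card (Sp85.cert.fixSub Sp85.hlt [1, 0, 3, 5])) :
    979200 * K ≤ Nat.card (Sp85.cert.fixSub Sp85.hlt []) := by
  have hid : ∀ i < presSp44.k, presSp44.idx (presSp44.gen i) = i := by decide
  have h3 := Sp85.cert.level_step Sp85.hlt hid [1, 0, 3] Sp44Chain.lev3 Sp44Chain.lev3_ok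
    (show 5 < 85 by decide) h
  have h2 := Sp85.cert.level_step Sp85.hlt hid [1, 0] Sp44Chain.lev2 Sp44Chain.lev2_ok
    (show 3 < 85 by decide) h3
  have h1 := Sp85.cert.level_step Sp85.hlt hid [1] Sp44Chain.lev1 Sp44Chain.lev1_ok
    (show 0 < 85 by decide) h2
  have h0 := Sp85.cert.level_step Sp85.hlt hid [] Sp44Chain.lev0 Sp44Chain.lev0_ok
    (show 1 < 85 by decide) h1
  refine le_trans (le_of_eq ?_) h0
  show _ = (85 * (64 * (15 * (12 * K))))
  ring

theorem card_simple : Nat.card presSp44.Grp = 979200 ∧ IsSimpleGroup presSp44.Grp := by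
  have := upper.1
  have hlow := Sp85.cert.card_le_of_fixSub Sp85.hlt (lower (Sp85.cert.ker_le_fixSub Sp85.hlt _))
  have hinj : Function.Injective (Sp85.cert.hom Sp85.hlt) := Sp85.cert.hom_injective Sp85.hlt hlow upper.2
  have hcard : Nat.card presSp44.Grp = 979200 :=
    le_antisymm upper.2 ((Nat.le_mul_of_pos_right _ Nat.card_pos).trans hlow)
  exact ⟨hcard, Sp85.cert.isSimple Sp85.hlt (by decide) Sp85.hhw hinj Sp85.orb Sp85.roots Sp85.hwR
    (by decide +kernel) Sp85.orbs [1, 64, 20] (by decide +kernel) (by decide +kernel) (by decide +kernel) rfl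
    (by decide +kernel) (q := 17) (show 1 < 85 by decide) (by rw [hcard]; decide +kernel)
    [2, 3, 5, 4, 3, 0, 1] (by decide +kernel) (by decide +kernel) Sp44Z.sheet rfl rfl rfl (by decide +kernel)⟩

end CfsgLib.CosetEnum.Sp44Order
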